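import Cfsg.Agent.Chev.Twist.D4Stmts
import Cfsg.Agent.Chev.SylowTorus
import Cfsg.Agent.Chev.RegularTorus
import Cfsg.Agent.Chev.TopCentralizer
import Cfsg.Agent.Chev.SL2Fixed

/-!
A cyclic self-centralising subgroup of order `(q³ - 1)(q + 1)` of `³D₄(q)`.
-/

set_option autoImplicit false

namespace Cfsg.Agent.Chev.D4Torus

open Cfsg.Lie Cfsg.Agent.Chev
open scoped MatrixGroups

universe u

/-- The central node. -/
def mid : Fin chevD4.rank := ⟨1, by decide⟩

/-- The exponents of the generator, as polynomials in `q`. -/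
def P : Fin chevD4.rank → Fin 4 → ℤ :=
  (![![1, 1, 0, 0], ![1, 1, 1, 0], ![0, 1, 1, 0], ![0, 0, 1, 1]] : Fin 4 → Fin 4 → ℤ)

/-- The order, as a polynomial in `q`. -/
def phi : Fin 5 → ℤ := ![-1, -1, 0, 1, 1]

/-- The twisted Weyl element on root indices. -/
def tau (s : ℕ) : ℕ := chevD4.reflectRoot 1 (d4_031_P.getD s 0)

/-- The orbit of the base root. -/
def orb (j : ℕ) : ℕ := tau^[j] 18

/-- The exponent of a root. -/
def E (s : ℕ) (j : Fin 4) : ℤ := ∑ l : Fin chevD4.rank, chevD4.cartan l s * P l j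

/-- The roots in the basis given by the orbit. -/
def K : List (List ℤ) :=
  [[0, -1, -1, -1], [-1, -1, -1, 0], [-1, -1, 0, 0], [0, 0, -1, -1], [0, 0, 0, -1],
    [-1, 0, 0, 0], [0, -1, -1, 0], [0, -1, 0, 0], [1, 0, -1, -1], [1, 0, 0, -1], [-1, -1, 0, 1],
    [0, 0, -1, 0], [0, 0, 1, 0], [1, 1, 0, -1], [-1, 0, 0, 1], [-1, 0, 1, 1], [0, 1, 0, 0],
    [0, 1, 1, 0], [1, 0, 0, 0], [0, 0, 0, 1], [0, 0, 1, 1], [1, 1, 0, 0], [1, 1, 1, 0],
    [0, 1, 1, 1]]

/-- Separation from multiples of the order. -/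
def sepB (e : Fin 4 → ℤ) : Bool :=
  posB (List.ofFn fun j : Fin 5 => phi j - Fin.snoc (α := fun _ => ℤ) e 0 j) &&
    posB (List.ofFn fun j : Fin 5 => phi j + Fin.snoc (α := fun _ => ℤ) e 0 j) &&
    (posB (List.ofFn e) || posB (List.ofFn fun j => -e j))

theorem regular : ∀ s : Fin chevD4.nroots, sepB (E s) = true := by decide +kernel

theorem separated : ∀ s : Fin chevD4.nroots,
    (s : ℕ) = 18 ∨ sepB (fun j => E s j - E 18 j) = true := by decide +kernel

theorem orbit_inj : ∀ s t : Fin chevD4.nroots,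
    (∀ j : Fin 4, pairing chevD4 (orb j) s = pairing chevD4 (orb j) t) → s = t := by
  decide +kernel

theorem orb_spec : (∀ j : Fin 5, orb j < chevD4.nroots) ∧
    ∀ l : Fin chevD4.rank, ∑ j : Fin 5, phi j * chevD4.cartan l (orb j) = 0 := by
  decide +kernel

theorem K_spec : ∀ (s : Fin chevD4.nroots) (l : Fin chevD4.rank),
    chevD4.cartan l s = ∑ j : Fin 4, (K.getD s []).getD j 0 * chevD4.cartan l (orb j) := by
  decide +kernel

theorem node_facts : d4_031_π mid = mid ∧ chevD4.cartan mid (chevD4.simple 0) = -1 ∧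
    (∀ r : Fin chevD4.nroots, ((d4_031_ρ r : Fin chevD4.nroots) : ℕ) = d4_031_P.getD r 0) ∧
    chevD4.reflectRoot 1 18 = chevD4.reflectRoot (mid : ℕ) 18 := by
  decide +kernel

theorem pi_inv_val : ((d4_031_π.symm (0 : Fin 4) : Fin chevD4.rank) : ℕ) = 3 ∧
    ((d4_031_π.symm (1 : Fin 4) : Fin chevD4.rank) : ℕ) = 1 ∧
    ((d4_031_π.symm (2 : Fin 4) : Fin chevD4.rank) : ℕ) = 0 ∧
    ((d4_031_π.symm (3 : Fin 4) : Fin chevD4.rank) : ℕ) = 2 := by
  decide +kernel

theorem pi_inv : d4_031_π.symm (0 : Fin 4) = (3 : Fin 4) ∧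
    d4_031_π.symm (1 : Fin 4) = (1 : Fin 4) ∧
    d4_031_π.symm (2 : Fin 4) = (0 : Fin 4) ∧ d4_031_π.symm (3 : Fin 4) = (2 : Fin 4) :=
  ⟨Fin.ext pi_inv_val.1, Fin.ext pi_inv_val.2.1, Fin.ext pi_inv_val.2.2.1,
    Fin.ext pi_inv_val.2.2.2⟩

theorem simple_mid :
    chevD4.cartan ((0 : Fin 4) : ℕ) (chevD4.simple (mid : ℕ)) = -1 ∧
    chevD4.cartan ((1 : Fin 4) : ℕ) (chevD4.simple (mid : ℕ)) = 2 ∧
    chevD4.cartan ((2 : Fin 4) : ℕ) (chevD4.simple (mid : ℕ)) = -1 ∧
    chevD4.cartan ((3 : Fin 4) : ℕ) (chevD4.simple (mid : ℕ)) = -1 := by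
  decide +kernel

theorem reflV_mid (v : Fin chevD4.rank → ℤ) :
    Eigen.reflV chevD4 mid v (0 : Fin 4) = v (0 : Fin 4) ∧
    Eigen.reflV chevD4 mid v (1 : Fin 4) =
      v (0 : Fin 4) - v (1 : Fin 4) + v (2 : Fin 4) + v (3 : Fin 4) ∧
    Eigen.reflV chevD4 mid v (2 : Fin 4) = v (2 : Fin 4) ∧
    Eigen.reflV chevD4 mid v (3 : Fin 4) = v (3 : Fin 4) := by
  have hsum : ∑ l : Fin chevD4.rank, v l * chevD4.cartan l (chevD4.simple (mid : ℕ)) =
      -v (0 : Fin 4) + 2 * v (1 : Fin 4) - v (2 : Fin 4) - v (3 : Fin 4) := by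
    obtain ⟨h0, h1, h2, h3⟩ := simple_mid
    refine (Fin.sum_univ_four
      (f := fun l : Fin 4 => v l * chevD4.cartan (l : ℕ) (chevD4.simple (mid : ℕ)))).trans ?_
    rw [h0, h1, h2, h3]
    ring
  unfold Eigen.reflV
  refine ⟨?_, ?_, ?_, ?_⟩ <;> split <;> rename_i h
  all_goals first
    | exact absurd (congrArg Fin.val h) (Nat.zero_ne_one)
    | exact absurd (congrArg Fin.val h) (show (2 : ℕ) ≠ 1 by decide)
    | exact absurd (congrArg Fin.val h) (show (3 : ℕ) ≠ 1 by decide)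
    | exact absurd (Fin.ext rfl) h
    | exact sub_zero _
    | (rw [hsum]; ring)

variable {k : Type u} [Field k]

theorem base_mid : d4Len (1 : Fin 2) = 1 ∧ ((d4Base (1 : Fin 2) : Fin chevD4.rank) : ℕ) = 1 := by
  decide +kernel

theorem gmap_mat {K : Type u} [Field K] (ι : K →+* k) :
    gmap chevD4 ι (d4_031_facts.mat (F := K)) = d4_031_facts.mat := by
  apply Units.ext
  ext a b
  rw [gmap_apply]
  simp only [GraphFacts.mat, Matrix.of_apply]
  split
  · rcases b with j | r <;> simp [graphWeight]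
  · exact map_zero ι

theorem gmap_aut {K : Type u} [Field K] (ι : K →+* k) (g : GL chevD4.Idx K) :
    gmap chevD4 ι (d4_031_facts.aut g) = d4_031_facts.aut (gmap chevD4 ι g) := by
  rw [GraphFacts.aut_eq, GraphFacts.aut_eq, map_mul, map_mul, map_inv, gmap_mat]

/-- The twisted Frobenius. -/
noncomputable def frob (σ : k →+* k) : GL chevD4.Idx k →* GL chevD4.Idx k :=
  (d4_031_facts.aut (F := k)).toMonoidHom.comp (gmap chevD4 σ)

variable (σ : k →+* k)

theorem frob_torusHom (c : Fin chevD4.rank → kˣ) :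
    frob σ (torusHom c) =
      torusHom fun i => Units.map σ.toMonoidHom (c (d4_031_π.symm i)) := by
  show d4_031_facts.aut (gmap chevD4 σ (torusHom c)) = _
  rw [gmap_torusHom]
  exact (twistD4 k (RingHom.id k) fun _ => rfl).aut_torusHom _

theorem frob_rootPair {x : GL chevD4.Idx k} (hx : x ∈ rootPairGroup facts_chevD4 mid) :
    frob σ x = gmap chevD4 σ x := by
  refine MonoidHom.eqOn_closure (f := frob σ) (g := gmap chevD4 σ) ?_ hx
  rintro _ ⟨r, t, hr, rfl⟩
  show d4_031_facts.aut (gmap chevD4 σ (xG facts_chevD4 r t)) = _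
  rw [gmap_xG facts_chevD4 facts_chevD4]
  have hlt : r < chevD4.nroots := by
    rcases hr with rfl | rfl
    exacts [facts_chevD4.{u}.simple_lt _ mid.2,
      neg_lt facts_chevD4.{u} (facts_chevD4.{u}.simple_lt _ mid.2)]
  have hρ : ((d4_031_ρ ⟨r, hlt⟩ : Fin chevD4.nroots) : ℕ) = r := by
    have h := node_facts.2.2.1 ⟨r, hlt⟩
    rcases hr with rfl | rfl <;> exact h.trans (by dsimp only; decide +kernel)
  have h := d4_031_facts.aut_pm facts_chevD4 (F := k) (r := ⟨r, hlt⟩) (by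
    refine ⟨(mid : ℕ), mid.2, ?_⟩
    rcases hr with rfl | rfl
    exacts [Or.inl rfl, Or.inr rfl]) (σ t)
  rw [hρ] at h
  exact h

theorem chiU_twist (c : Fin chevD4.rank → kˣ) (r : Fin chevD4.nroots) :
    chiU (fun i => Units.map σ.toMonoidHom (c (d4_031_π.symm i))) (d4_031_ρ r : ℕ) =
      Units.map σ.toMonoidHom (chiU c (r : ℕ)) := by
  have h := (twistD4 k (RingHom.id k) fun _ => rfl).chiU_perm
    (fun i => Units.map σ.toMonoidHom (c i)) r
  refine h.trans ?_
  simp [chiU, map_prod]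

theorem chiU_basis (c : Fin chevD4.rank → kˣ) (s : Fin chevD4.nroots) :
    chiU c (s : ℕ) = ∏ j : Fin 4, chiU c (orb j) ^ (K.getD s []).getD j 0 := by
  have h1 : ∀ j : Fin 4, chiU c (orb j) ^ (K.getD s []).getD j 0 =
      ∏ l : Fin chevD4.rank, c l ^ ((K.getD s []).getD j 0 * chevD4.cartan l (orb j)) := fun j => by
    rw [chiU, ← Finset.prod_zpow]
    exact Finset.prod_congr rfl fun l _ => by rw [← zpow_mul, mul_comm]
  simp only [h1]
  rw [Finset.prod_comm]
  simp only [zpow_sum_aux, ← K_spec]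
  rfl

theorem chiU_zpow_left (d : Fin chevD4.rank → kˣ) (z : ℤ) (s : ℕ) :
    chiU (d ^ z) s = chiU d s ^ z := by
  rw [chiU, chiU, ← Finset.prod_zpow]
  exact Finset.prod_congr rfl fun l _ => by rw [Pi.pow_apply, ← zpow_mul, ← zpow_mul, mul_comm]

theorem self_centralizing {F : Type u} [Field F] [Fintype F] (q : ℕ) (hq : IsPrimePow q)
    (hF : Fintype.card F = q ^ 3) :
    ∃ H : Subgroup ↥(twistedD4 F q), IsCyclic ↥H ∧ Nat.card ↥H = (q ^ 3 - 1) * (q + 1) ∧
      Subgroup.centralizer (H : Set ↥(twistedD4 F q)) = H := by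
  classical
  have hq2 : 2 ≤ q := hq.two_le
  have hqz : (2 : ℤ) ≤ q := by exact_mod_cast hq2
  obtain ⟨φ, hφ, -, hφq, hG1⟩ := exists_twistD4 hq hF
  set T := twistD4 F φ hφ with hT
  let k := AlgebraicClosure F
  let ι : F →+* k := algebraMap F k
  obtain ⟨p, e, hp, he, hpe⟩ := (isPrimePow_nat_iff q).1 hq
  haveI := Fact.mk hp
  obtain ⟨pF, hpF⟩ := CharP.exists F
  obtain ⟨eF, hpr, heF⟩ := FiniteField.card F pF
  have hpp : pF = p := (Nat.prime_dvd_prime_iff_eq hpr hp).1
    (hpr.dvd_of_dvd_pow (n := e * 3) (by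
      rw [pow_mul, hpe, ← hF, heF]; exact dvd_pow_self _ eF.ne_zero))
  haveI : CharP k p := hpp ▸ charP_of_injective_algebraMap ι.injective pF
  let σ : k →+* k := iterateFrobenius k p e
  have hσ : ∀ t : k, σ t = t ^ q := fun t => by
    show iterateFrobenius k p e t = _
    rw [iterateFrobenius_def, hpe]
  have hφ' : ∀ t : F, φ t = t ^ q := fun t => by simpa using hφq 1 t
  have hσι : ∀ a : F, σ (ι a) = ι (φ a) := fun a => by rw [hσ, hφ', map_pow]
  have hσu : ∀ x : kˣ, Units.map σ.toMonoidHom x = x ^ q := fun x =>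
    Units.ext (by simpa using hσ (x : k))
  have hrange : ∀ z : k, z ^ q ^ 3 = z → ∃ a : F, ι a = z := by
    intro z hz
    have h3 : 2 ≤ q ^ 3 := le_trans hq2 (Nat.le_self_pow (by norm_num) q)
    open Polynomial in
    have hroots : z ∈ ((Finset.univ.image ι).val : Multiset k) := by
      have hdeg : ((X : k[X]) ^ q ^ 3 - X).natDegree = q ^ 3 :=
        FiniteField.X_pow_card_sub_X_natDegree_eq k h3
      have hne : ((X : k[X]) ^ q ^ 3 - X) ≠ 0 := FiniteField.X_pow_card_sub_X_ne_zero k h3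
      have heq : (Finset.univ.image ι).val = ((X : k[X]) ^ q ^ 3 - X).roots := by
        refine Multiset.eq_of_le_of_card_le
          ((Multiset.le_iff_subset (Finset.nodup _)).2 fun x hx => ?_) ?_
        · obtain ⟨a, -, rfl⟩ := Finset.mem_image.1 hx
          rw [mem_roots hne, IsRoot.def, eval_sub, eval_pow, eval_X, ← map_pow, ← hF,
            FiniteField.pow_card, sub_self]
        · refine le_trans (card_roots' _) ?_
          rw [hdeg, Finset.card_val, Finset.card_image_of_injective _ ι.injective,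
            Finset.card_univ, hF]
      rw [heq, mem_roots hne, IsRoot.def, eval_sub, eval_pow, eval_X, hz, sub_self]
    obtain ⟨a, -, ha⟩ := Finset.mem_image.1 hroots
    exact ⟨a, ha⟩
  -- the order
  set M := (q ^ 3 - 1) * (q + 1) with hM
  have hMz : (M : ℤ) = ((q : ℤ) ^ 3 - 1) * ((q : ℤ) + 1) := by
    rw [hM, Nat.cast_mul, Nat.cast_sub (Nat.one_le_pow _ _ (by omega))]
    push_cast
    rfl
  have hMphi : (M : ℤ) = evFin phi q := by
    rw [hMz, evFin, phi]
    simp [Fin.sum_univ_succ]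
    ring
  have hqk : (q : k) = 0 := by
    rw [← hpe, Nat.cast_pow, CharP.cast_eq_zero, zero_pow he.ne']
  haveI hMk : NeZero (M : k) := ⟨by
    rw [hM, Nat.cast_mul, Nat.cast_sub (Nat.one_le_pow _ _ (by omega))]
    push_cast
    rw [hqk]
    simp⟩
  haveI : NeZero M := ⟨fun h => (NeZero.ne (M : k)) (by rw [h, Nat.cast_zero])⟩
  obtain ⟨μ0, hμ0⟩ := HasEnoughRootsOfUnity.exists_primitiveRoot k M
  set μ : kˣ := (hμ0.isUnit (NeZero.ne M)).unit with hμ
  have hμ0v : (μ : k) = μ0 := rfl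
  have hμprim : IsPrimitiveRoot μ M := IsPrimitiveRoot.coe_units_iff.1 hμ0
  have hdvd : ∀ a b : ℤ, μ ^ a = μ ^ b ↔ (M : ℤ) ∣ a - b := fun a b => by
    rw [← hμprim.zpow_eq_one_iff_dvd, zpow_sub, mul_inv_eq_one]
  have hsep : ∀ e : Fin 4 → ℤ, sepB e = true → ¬ (M : ℤ) ∣ evFin e q := by
    intro e he hdvd
    simp only [sepB, Bool.and_eq_true, Bool.or_eq_true] at he
    obtain ⟨⟨h1, h2⟩, h3⟩ := he
    have hsn : evFin (Fin.snoc e 0 : Fin 5 → ℤ) q = evFin e q := by
      rw [evFin, Fin.sum_univ_castSucc]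
      simp [evFin, -Fin.reduceLast]
    have hadd : ∀ f g : Fin 5 → ℤ, evFin (fun j => f j + g j) q = evFin f q + evFin g q :=
      fun f g => by simp [evFin, add_mul, Finset.sum_add_distrib]
    have hsub : ∀ f g : Fin 5 → ℤ, evFin (fun j => f j - g j) q = evFin f q - evFin g q :=
      fun f g => by simp [evFin, sub_mul, Finset.sum_sub_distrib]
    have a1 := pos_of_posB h1 hqz
    have a2 := pos_of_posB h2 hqz
    rw [evList_ofFn, hsub, hsn, ← hMphi] at a1
    rw [evList_ofFn, hadd, hsn, ← hMphi] at a2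
    have hzero := Int.eq_zero_of_abs_lt_dvd hdvd (abs_lt.2 ⟨by omega, by omega⟩)
    rcases h3 with h3 | h3
    · have a3 := pos_of_posB h3 hqz
      rw [evList_ofFn, hzero] at a3
      exact lt_irrefl _ a3
    · have a3 := pos_of_posB h3 hqz
      rw [evList_ofFn, show evFin (fun j => -e j) (q : ℤ) = -evFin e q by
        simp [evFin, Finset.sum_neg_distrib], hzero, neg_zero] at a3
      exact lt_irrefl _ a3
  -- the torus element
  let ev : Fin chevD4.rank → ℤ := fun l => evFin (P l) q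
  let c : Fin chevD4.rank → kˣ := fun l => μ ^ ev l
  let c' : Fin chevD4.rank → kˣ := fun i => Units.map σ.toMonoidHom (c (d4_031_π.symm i))
  have hchi : ∀ s : ℕ, chiU c s = μ ^ evFin (E s) q := by
    intro s
    have h : evFin (E s) (q : ℤ) = ∑ l : Fin chevD4.rank, ev l * chevD4.cartan l s := by
      simp only [evFin, E, ev, Finset.sum_mul]
      rw [Finset.sum_comm]
      exact Finset.sum_congr rfl fun l _ => Finset.sum_congr rfl fun j _ => by ring
    rw [h, chiU, ← zpow_sum_aux μ]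
    exact Finset.prod_congr rfl fun l _ => (zpow_mul μ _ _).symm
  have hev : ev (0 : Fin 4) = (q : ℤ) + 1 ∧ ev (1 : Fin 4) = (q : ℤ) ^ 2 + q + 1 ∧
      ev (2 : Fin 4) = (q : ℤ) ^ 2 + q ∧ ev (3 : Fin 4) = (q : ℤ) ^ 3 + (q : ℤ) ^ 2 := by
    refine ⟨?_, ?_, ?_, ?_⟩ <;>
      · show evFin (P _) (q : ℤ) = _
        simp [evFin, P, Fin.sum_univ_succ]
        ring
  obtain ⟨he0, he1, he2, he3⟩ := hev
  have hinv := pi_inv
  have hwt : wordC chevD4 [mid] c' = c := by
    have h1 : c' = fun i => μ ^ ((q : ℤ) * ev (d4_031_π.symm i)) := by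
      funext i
      show Units.map σ.toMonoidHom (c (d4_031_π.symm i)) = _
      rw [hσu, ← zpow_natCast, ← zpow_mul, mul_comm]
    rw [h1, Eigen.wordC_zpow]
    funext l
    show _ = μ ^ ev l
    rw [hdvd]
    simp only [Eigen.wordV, List.foldr_cons, List.foldr_nil]
    change Fin 4 at l
    obtain ⟨i0, i1, i2, i3⟩ := hinv
    obtain ⟨r0, r1, r2, r3⟩ := reflV_mid fun i => (q : ℤ) * ev (d4_031_π.symm i)
    match l with
    | 0 => rw [r0, i0, he3, he0, hMz]; exact ⟨1, by ring⟩
    | 1 => rw [r1, i0, i1, i2, i3, he3, he1, he0, he2, hMz]; exact ⟨1, by ring⟩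
    | 2 => rw [r2, i2, he0, he2, hMz]; exact ⟨0, by ring⟩
    | 3 => rw [r3, i3, he2, he3, hMz]; exact ⟨0, by ring⟩
  set π1 := pWord facts_chevD4.{u} [mid] with hπ1
  set n : GL chevD4.Idx k := nWord facts_chevD4 [mid] with hn
  have hnL : n ∈ rootPairGroup facts_chevD4 mid := by
    have h : n = nG facts_chevD4 (chevD4.simple (mid : ℕ)) 1 := by
      rw [hn, nWord, List.map_singleton, List.prod_singleton, nS]
    rw [h, nG]
    exact Subgroup.mul_mem _ (Subgroup.mul_mem _ (xG_mem_rootPair _ _ (Or.inl rfl) _)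
      (xG_mem_rootPair _ _ (Or.inr rfl) _)) (xG_mem_rootPair _ _ (Or.inl rfl) _)
  obtain ⟨g, hg, hgn⟩ := exists_lang_rootPair facts_chevD4 mid hq2 σ hσ hnL
  have hgfrob : frob σ g = g * n := by rw [frob_rootPair σ hg, hgn]
  have hconj : ∀ d : Fin chevD4.rank → kˣ, frob σ (g * torusHom d * g⁻¹) =
      g * torusHom (wordC chevD4 [mid]
        fun i => Units.map σ.toMonoidHom (d (d4_031_π.symm i))) * g⁻¹ := by
    intro d
    rw [map_mul, map_mul, map_inv, hgfrob, frob_torusHom]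
    rw [show torusHom (wordC chevD4 [mid]
        fun i => Units.map σ.toMonoidHom (d (d4_031_π.symm i))) =
        n * torusHom (fun i => Units.map σ.toMonoidHom (d (d4_031_π.symm i))) * n⁻¹ by
      rw [hn, ← torusHom_wordC facts_chevD4 [mid], mul_inv_cancel_right]]
    group
  set y := g * torusHom c * g⁻¹ with hy
  have hyfix : frob σ y = y := by rw [hy, hconj]; exact congrArg (fun d => g * torusHom d * g⁻¹) hwt
  -- membership in the twisted group
  obtain ⟨gF, hgF, hgFι⟩ : ∃ x ∈ T.G1, gmap chevD4 ι x = y := by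
    let ca : Fin chevD4.rank → kˣ := fun i => if i = mid then 1 else c i
    have hcaq : ∀ i, (ca i : k) ^ q ^ 3 = ca i := by
      intro i
      show ((ca i : kˣ) : k) ^ q ^ 3 = _
      rw [← Units.val_pow_eq_pow_val]
      congr 1
      show (if i = mid then 1 else μ ^ ev i) ^ q ^ 3 = if i = mid then 1 else μ ^ ev i
      split
      · exact one_pow _
      · rename_i hi
        rw [← zpow_natCast, ← zpow_mul, hdvd, hMz]
        change Fin 4 at i
        push_cast
        match i, hi with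
        | 0, _ => rw [he0]; exact ⟨1, by ring⟩
        | 1, hi => exact absurd rfl hi
        | 2, _ => rw [he2]; exact ⟨(q : ℤ), by ring⟩
        | 3, _ => rw [he3]; exact ⟨(q : ℤ) ^ 2, by ring⟩
    choose a ha using fun i => hrange _ (hcaq i)
    have ha0 : ∀ i, a i ≠ 0 := fun i h => (ca i).ne_zero (by rw [← ha i, h, map_zero])
    let cK : Fin chevD4.rank → Fˣ := fun i => Units.mk0 (a i) (ha0 i)
    have hcK : ∀ i, Units.map ι.toMonoidHom (cK i) = ca i := fun i => Units.ext (ha i)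
    have hca : ∀ i : Fin chevD4.rank, (i : ℕ) ≠ 1 → ca i = μ ^ ev i := fun i hi =>
      if_neg fun h => hi (congrArg Fin.val h)
    have hcam : ∀ i : Fin chevD4.rank, (i : ℕ) = 1 → ca i = 1 := fun i hi => if_pos (Fin.ext hi)
    have hcaσ : (fun i => Units.map σ.toMonoidHom (ca (d4_031_π.symm i))) = ca := by
      funext i
      rw [hσu]
      change Fin 4 at i
      obtain ⟨i0, i1, i2, i3⟩ := hinv
      match i with
      | 0 =>
        rw [i0, hca (3 : Fin 4) (fun h => absurd h (by decide)),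
          hca (0 : Fin 4) Nat.zero_ne_one, ← zpow_natCast, ← zpow_mul, hdvd, hMz, he0, he3]
        exact ⟨1, by ring⟩
      | 1 => rw [i1, hcam (1 : Fin 4) rfl, one_pow]
      | 2 =>
        rw [i2, hca (0 : Fin 4) Nat.zero_ne_one,
          hca (2 : Fin 4) (fun h => absurd h (by decide)),
          ← zpow_natCast, ← zpow_mul, hdvd, hMz, he0, he2]
        exact ⟨0, by ring⟩
      | 3 =>
        rw [i3, hca (2 : Fin 4) (fun h => absurd h (by decide)),
          hca (3 : Fin 4) (fun h => absurd h (by decide)),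
          ← zpow_natCast, ← zpow_mul, hdvd, hMz, he2, he3]
        exact ⟨0, by ring⟩
    have hcKfix : cK ∈ T.cfix := by
      rw [T.mem_cfix]
      funext i
      apply Units.map_injective (f := ι.toMonoidHom) ι.injective
      rw [hcK, ← congrFun hcaσ i, ← hcK]
      exact Units.ext (hσι _).symm
    have hA : gmap chevD4 ι (torusHom cK) = torusHom ca := by
      rw [gmap_torusHom]; exact congrArg _ (funext hcK)
    set h := (torusHom ca)⁻¹ * y with hh
    have hhL : h ∈ rootPairGroup facts_chevD4 mid := by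
      have hsplit : c = ca * Pi.mulSingle mid (c mid) := by
        funext i
        show c i = (if i = mid then 1 else c i) * _
        by_cases hi : i = mid
        · subst hi; simp
        · simp [hi, Pi.mulSingle_eq_of_ne hi]
      have e : h = (torusHom ca)⁻¹ * g * torusHom ca * torusHom (Pi.mulSingle mid (c mid)) *
          g⁻¹ := by
        rw [hh, hy]
        conv_lhs => rw [hsplit, map_mul]
        group
      rw [e]
      refine Subgroup.mul_mem _ (Subgroup.mul_mem _ ?_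
        (torus_simple_mem_rootPair _ _ _)) (Subgroup.inv_mem _ hg)
      have := torus_conj_rootPair facts_chevD4 mid ca⁻¹ hg
      rwa [map_inv, inv_inv] at this
    have hhfix : gmap chevD4 σ h = h := by
      rw [← frob_rootPair σ hhL, hh, map_mul, map_inv, hyfix, frob_torusHom, hcaσ]
    obtain ⟨m, hm⟩ := rootPair_le_range facts_chevD4 mid hhL
    have hmfix : Matrix.SpecialLinearGroup.map σ m = m :=
      sl2Simple_injective facts_chevD4 mid ⟨0, by decide⟩ node_facts.2.1
        (by rw [← gmap_sl2Simple, hm, hhfix])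
    have hent : ∀ a b : Fin 2, σ (m.1 a b) = m.1 a b := fun a b =>
      congrArg (fun x : SL(2, k) => x.1 a b) hmfix
    obtain ⟨s0, a1, hs0⟩ : ∃ (a : Fin T.m), T.len a = 1 ∧ T.node a 0 = mid :=
      ⟨(1 : Fin 2), base_mid.1, Fin.ext base_mid.2⟩
    have hy1 : ∀ (b : Bool) (t : F), φ t = t →
        xG facts_chevD4 (if b then chevD4.simple (mid : ℕ) else
          chevD4.neg (chevD4.simple (mid : ℕ))) t ∈ T.G1 := by
      intro b t ht
      have e : T.y b s0 t = xG facts_chevD4 (if b then chevD4.simple (mid : ℕ) else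
          chevD4.neg (chevD4.simple (mid : ℕ))) t := by
        rw [Twist.y, Twist.yv, a1, List.range_one, List.map_singleton, List.prod_singleton]
        cases b <;> simp [Twist.rt, hs0, pow_zero] <;> rfl
      rw [← e]
      refine T.y_mem_G1 ?_ b
      show (T.φ ^ T.len s0) t = t
      rw [a1, pow_one]
      exact ht
    have hS := sl2Simple_rational facts_chevD4 mid (T.G1.map (gmap chevD4 ι))
      (fun t => σ t = t) (fun t ht => by
        have h3 : t ^ q ^ 3 = t := by
          have : ∀ j, t ^ q ^ j = t := fun j => by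
            induction j with
            | zero => simp
            | succ j ih => rw [pow_succ, pow_mul, ih, ← hσ, ht]
          exact this 3
        obtain ⟨a, rfl⟩ := hrange t h3
        have hφa : φ a = a := ι.injective (by rw [← hσι, ht])
        exact ⟨⟨_, hy1 true a hφa, gmap_xG facts_chevD4 facts_chevD4 ι _ a⟩,
          ⟨_, hy1 false a hφa, gmap_xG facts_chevD4 facts_chevD4 ι _ a⟩⟩)
      (fun t ht => by rw [map_neg, ht]) (fun t ht => by rw [map_inv₀, ht]) (map_one σ)
      (fun s t hs ht => by rw [map_mul, hs, ht]) m hent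
    rw [hm] at hS
    obtain ⟨hK, hhK, ehK⟩ := hS
    refine ⟨torusHom cK * hK, Subgroup.mul_mem _ (T.T1_le_G1 ⟨cK, hcKfix, rfl⟩) hhK, ?_⟩
    rw [map_mul, hA, ehK, hh, mul_inv_cancel_left]
  -- the order of the generator
  have horbv : ∀ j : ℕ, j < 5 → orb j < chevD4.nroots := fun j hj => orb_spec.1 ⟨j, hj⟩
  have hstep : ∀ d : Fin chevD4.rank → kˣ,
      torusHom d * n = n * torusHom (fun i => Units.map σ.toMonoidHom (d (d4_031_π.symm i))) →
      ∀ r : Fin chevD4.nroots,
        chiU d ((π1 * d4_031_ρ) r : ℕ) = chiU d (r : ℕ) ^ q := by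
    intro d hd r
    rw [Equiv.Perm.mul_apply, (torus_mul_nWord_iff facts_chevD4 [mid] d _).1 hd, chiU_twist, hσu]
  have hτval : ∀ r : Fin chevD4.nroots, ((π1 * d4_031_ρ) r : ℕ) = tau r := fun r => by
    rw [Equiv.Perm.mul_apply, hπ1, pWord_wStep, tau, ← node_facts.2.2.1 r]
    rfl
  let r0F : Fin chevD4.nroots := ⟨18, by decide +kernel⟩
  set τ := π1 * d4_031_ρ with hτ
  have horb : ∀ j : ℕ, ((τ ^ j) r0F : ℕ) = orb j := by
    intro j
    induction j with
    | zero => rfl
    | succ j ih => rw [pow_succ', Equiv.Perm.mul_apply, hτval, ih, orb, orb,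
        Function.iterate_succ_apply']
  have horbchi : ∀ d : Fin chevD4.rank → kˣ,
      (∀ r : Fin chevD4.nroots, chiU d (τ r : ℕ) = chiU d (r : ℕ) ^ q) →
      ∀ j : ℕ, chiU d (orb j) = chiU d 18 ^ q ^ j := by
    intro d hd j
    induction j with
    | zero => simp [orb]
    | succ j ih => rw [← horb, pow_succ' τ, Equiv.Perm.mul_apply, hd, horb, ih, ← pow_mul,
        ← pow_succ]
  have hcn : torusHom c * n =
      n * torusHom (fun i => Units.map σ.toMonoidHom (c (d4_031_π.symm i))) := by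
    rw [hn, ← torusHom_wordC facts_chevD4 [mid]]
    exact congrArg (fun d => torusHom d * _) hwt.symm
  have hcstep := hstep c hcn
  have hE18 : evFin (E 18) (q : ℤ) = 1 + (q : ℤ) - (q : ℤ) ^ 2 := by
    have h : ∀ j : Fin 4, E 18 j = ![(1 : ℤ), 1, -1, 0] j := by decide +kernel
    rw [evFin, Finset.sum_congr rfl fun j _ => by rw [h j]]
    simp [Fin.sum_univ_succ]
    ring
  set es := evFin (E 18) (q : ℤ) with hes
  have hcop : IsCoprime (M : ℤ) es := by
    rw [hMz, hE18, show ((q : ℤ) ^ 3 - 1) = ((q : ℤ) - 1) * ((q : ℤ) ^ 2 + q + 1) by ring]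
    have h1 : IsCoprime ((q : ℤ) + 1) (1 + (q : ℤ) - (q : ℤ) ^ 2) :=
      ⟨-((q : ℤ) - 2), -1, by ring⟩
    have h2 : IsCoprime ((q : ℤ) - 1) (1 + (q : ℤ) - (q : ℤ) ^ 2) := ⟨(q : ℤ), 1, by ring⟩
    obtain ⟨t, ht⟩ : ∃ t : ℤ, (q : ℤ) * ((q : ℤ) - 1) = 2 * t := by
      rcases Int.emod_two_eq_zero_or_one (q : ℤ) with h | h
      · exact ⟨((q : ℤ) / 2) * ((q : ℤ) - 1), by
          rw [← mul_assoc, Int.mul_ediv_cancel' (Int.dvd_of_emod_eq_zero h)]⟩
      · exact ⟨(q : ℤ) * (((q : ℤ) - 1) / 2), by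
          rw [mul_left_comm, Int.mul_ediv_cancel' (by omega)]⟩
    have h3 : IsCoprime (2 : ℤ) (1 + (q : ℤ) - (q : ℤ) ^ 2) :=
      ⟨t, 1, by linear_combination (-1 : ℤ) * ht⟩
    have h4 : IsCoprime ((q : ℤ) ^ 2 + q + 1) (1 + (q : ℤ) - (q : ℤ) ^ 2) := by
      have := IsCoprime.mul_left h3 h1
      rw [show (q : ℤ) ^ 2 + q + 1 =
        2 * ((q : ℤ) + 1) + (-1) * (1 + (q : ℤ) - (q : ℤ) ^ 2) by ring]
      exact IsCoprime.add_mul_right_left this (-1)
    exact IsCoprime.mul_left (IsCoprime.mul_left h2 h4) h1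
  have hchi18 : chiU c 18 = μ ^ es := hchi 18
  let gμ : ↥(twistedD4 F q) := ⟨gF, hG1 ▸ hgF⟩
  have hconjpow : ∀ m : ℕ, gmap chevD4 ι (gF ^ m) = g * torusHom (c ^ m) * g⁻¹ := fun m => by
    rw [map_pow, hgFι, hy, conj_pow, map_pow]
  have hchipow : ∀ (m : ℕ) (s : ℕ), chiU (c ^ m) s = chiU c s ^ m := fun m s => by
    rw [← zpow_natCast, chiU_zpow_left, zpow_natCast]
  have hpow : ∀ m : ℕ, gμ ^ m = 1 ↔ μ ^ m = 1 := by
    intro m
    rw [Subtype.ext_iff, SubmonoidClass.coe_pow, OneMemClass.coe_one]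
    show gF ^ m = 1 ↔ _
    rw [← (gmap_injective (D := chevD4) ι).eq_iff, hconjpow, map_one, conj_eq_one_iff,
      torusHom_eq_one_iff]
    constructor
    · intro h
      have h1 := h ⟨18, by decide +kernel⟩
      rw [hchipow, hchi18, ← zpow_natCast, ← zpow_mul, ← zpow_zero μ, hdvd, sub_zero] at h1
      rw [← zpow_natCast, ← zpow_zero μ, hdvd, sub_zero]
      exact hcop.dvd_of_dvd_mul_left h1
    · intro h s
      rw [hchipow, hchi, ← zpow_natCast, ← zpow_mul, mul_comm, zpow_mul, zpow_natCast, h, one_zpow]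
  refine ⟨Subgroup.zpowers gμ, inferInstance,
    by rw [Nat.card_zpowers, orderOf_eq_orderOf_iff.2 hpow, ← hμprim.eq_orderOf],
    le_antisymm ?_ ?_⟩
  swap
  · intro x hx
    rw [Subgroup.mem_centralizer_iff]
    intro z hz
    obtain ⟨i, rfl⟩ := Subgroup.mem_zpowers_iff.1 hx
    obtain ⟨j, rfl⟩ := Subgroup.mem_zpowers_iff.1 (SetLike.mem_coe.1 hz)
    rw [← zpow_add, ← zpow_add, add_comm]
  intro x hx
  have hxμ : gF * (x : GL chevD4.Idx F) = (x : GL chevD4.Idx F) * gF :=
    congrArg Subtype.val (Subgroup.mem_centralizer_iff.1 hx gμ (Subgroup.mem_zpowers gμ))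
  have hxG1 : (x : GL chevD4.Idx F) ∈ T.G1 := hG1.symm ▸ x.2
  set xι := gmap chevD4 ι (x : GL chevD4.Idx F) with hxι
  obtain ⟨d, hd⟩ := eq_torusHom_of_comm facts_chevD4 (c := c) (g := g⁻¹ * xι * g)
    (fun s h => by
      rw [hchi, ← zpow_zero μ, hdvd, sub_zero] at h
      exact hsep _ (regular s) h)
    (fun v hv => by
      set π' := pWord facts_chevD4.{u} v with hπ'
      have hkey : ∀ j : ℕ, j < 4 → π' ((τ ^ j) r0F) = (τ ^ j) r0F := by
        intro j hj
        obtain ⟨s, hs⟩ := (τ ^ j).surjective (π' ((τ ^ j) r0F))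
        have hiter : ∀ (i : ℕ) (r : Fin chevD4.nroots),
            chiU c ((τ ^ i) r : ℕ) = chiU c (r : ℕ) ^ q ^ i := by
          intro i
          induction i with
          | zero => intro r; simp
          | succ i ih =>
            intro r
            rw [pow_succ' τ, Equiv.Perm.mul_apply, hcstep, ih, ← pow_mul, ← pow_succ]
        have h1 := hv ((τ ^ j) r0F)
        rw [← hs, hiter, hiter, hchi, hchi, ← zpow_natCast, ← zpow_natCast, ← zpow_mul,
          ← zpow_mul, hdvd, ← sub_mul] at h1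
        have hcq : IsCoprime (M : ℤ) ((q ^ j : ℕ) : ℤ) := by
          push_cast
          refine IsCoprime.pow_right ?_
          rw [hMz]
          exact ⟨-1, ((q : ℤ) ^ 3 + (q : ℤ) ^ 2 - 1), by ring⟩
        have h2 := hcq.dvd_of_dvd_mul_right h1
        have hs18 : s = r0F := by
          refine Fin.ext ((separated s).resolve_right fun h => hsep _ h ?_)
          rw [show evFin (fun i => E s i - E 18 i) (q : ℤ) = evFin (E s) q - evFin (E 18) q by
            simp [evFin, sub_mul, Finset.sum_sub_distrib]]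
          exact h2
        rw [← hs, hs18]
      ext1 s
      refine orbit_inj _ _ fun j => ?_
      rw [← horb]
      conv_lhs => rw [← hkey j j.2]
      exact pairing_pWord facts_chevD4 v _ s)
    (Subgroup.mul_mem _ (Subgroup.mul_mem _
      (Subgroup.inv_mem _ (rootPair_le_group _ _ hg))
      (gmap_mem_group facts_chevD4 facts_chevD4 ι (T.G1_le_group hxG1)))
      (rootPair_le_group _ _ hg))
    (by
      have h1 := congrArg (gmap chevD4 ι) hxμ
      rw [map_mul, map_mul, hgFι, hy] at h1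
      calc torusHom c * (g⁻¹ * xι * g)
          = g⁻¹ * ((g * torusHom c * g⁻¹) * xι) * g := by group
        _ = g⁻¹ * (xι * (g * torusHom c * g⁻¹)) * g := by rw [h1]
        _ = g⁻¹ * xι * g * torusHom c := by group)
  -- the parameter
  have hxfix : frob σ xι = xι := by
    have h := T.mem_fx.1 (T.G1_le_fx hxG1)
    rw [T.σ_apply] at h
    conv_rhs => rw [hxι, ← h]
    show d4_031_facts.aut (gmap chevD4 σ (gmap chevD4 ι (x : GL chevD4.Idx F))) = _
    show _ = gmap chevD4 ι (d4_031_facts.aut (gmap chevD4 φ (x : GL chevD4.Idx F)))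
    rw [gmap_aut]
    congr 1
    apply Units.ext
    ext a b
    simp only [gmap_apply]
    exact hσι _
  have hdn : torusHom d * n =
      n * torusHom (fun i => Units.map σ.toMonoidHom (d (d4_031_π.symm i))) := by
    have h1 : frob σ (g⁻¹ * xι * g) = n⁻¹ * (g⁻¹ * xι * g) * n := by
      rw [map_mul, map_mul, map_inv, hgfrob, hxfix]; group
    rw [hd, frob_torusHom] at h1
    rw [h1]; group
  have hdorb := horbchi d (hstep d hdn)
  have hcorb := horbchi c hcstep
  set ζ := chiU d 18 with hζ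
  have hζM : ζ ^ M = 1 := by
    have h0 : ∏ j : Fin 5, chiU d (orb j) ^ phi j = 1 := by
      have hd1 : ∀ j : Fin 5, chiU d (orb j) ^ phi j =
          ∏ l : Fin chevD4.rank, d l ^ (phi j * chevD4.cartan l (orb j)) := fun j => by
        rw [chiU, ← Finset.prod_zpow]
        exact Finset.prod_congr rfl fun l _ => by rw [← zpow_mul, mul_comm]
      simp only [hd1]
      rw [Finset.prod_comm]
      refine Finset.prod_eq_one fun l _ => ?_
      rw [zpow_sum_aux, orb_spec.2 l, zpow_zero]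
    simp only [hdorb, ← zpow_natCast, ← zpow_mul] at h0
    rw [zpow_sum_aux] at h0
    rw [← zpow_natCast, hMphi]
    rw [show evFin phi (q : ℤ) = ∑ j : Fin 5, ((q ^ (j : ℕ) : ℕ) : ℤ) * phi j from
      Finset.sum_congr rfl fun j _ => by push_cast; ring]
    exact h0
  obtain ⟨m0, -, hm0⟩ := hμ0.eq_pow_of_pow_eq_one
    (by rw [← Units.val_pow_eq_pow_val, hζM, Units.val_one] : (ζ : k) ^ M = 1)
  obtain ⟨u, v, huv⟩ := hcop
  refine Subgroup.mem_zpowers_iff.2 ⟨v * m0, ?_⟩
  apply Subtype.ext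
  rw [SubgroupClass.coe_zpow]
  apply gmap_injective ι
  show gmap chevD4 ι (gF ^ (v * (m0 : ℤ))) = xι
  rw [map_zpow, hgFι, hy, conj_zpow, ← map_zpow,
    show xι = g * torusHom d * g⁻¹ by rw [← hd]; group]
  congr 2
  rw [torusHom_eq_iff facts_chevD4]
  have hcz : ∀ s : ℕ, chiU (c ^ (v * (m0 : ℤ))) s = chiU c s ^ (v * (m0 : ℤ)) :=
    fun s => chiU_zpow_left c _ s
  have h18 : chiU c 18 ^ (v * (m0 : ℤ)) = ζ := by
    rw [hchi18, ← zpow_mul, show ζ = μ ^ (m0 : ℤ) from Units.ext (by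
      rw [zpow_natCast, Units.val_pow_eq_pow_val, hμ0v, hm0]), hdvd]
    exact ⟨-(u * m0), by linear_combination (m0 : ℤ) * huv⟩
  intro s
  rw [chiU_basis (c ^ (v * (m0 : ℤ))) s, chiU_basis d s]
  refine Finset.prod_congr rfl fun j _ => ?_
  rw [hcz, hcorb j, hdorb j, ← h18]
  congr 1
  simp only [← zpow_natCast, ← zpow_mul]
  congr 1
  ring

end Cfsg.Agent.Chev.D4Torus
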