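import Cfsg.Agent.Chev.Twist.D4Main

/-!
The statements on ³E₆.
-/

set_option autoImplicit false

namespace Cfsg.Agent.Chev

open Cfsg.Lie
open scoped MatrixGroups

universe u

theorem exists_twistD4 {K : Type u} [Field K] [Fintype K] {q : ℕ} (hq : IsPrimePow q)
    (hK : Fintype.card K = q ^ 3) :
    ∃ (φ : K →+* K) (hφ : ∀ t, (φ ^ 3) t = t), 2 ≤ q ∧ (∀ (j : ℕ) (t : K), (φ ^ j) t = t ^ q ^ j) ∧
      (twistD4 K φ hφ).G1 = twistedD4 K q := by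
  obtain ⟨φ, h1, h2, h3⟩ := exists_pow_hom K hq hK
  exact ⟨φ, h2, hq.two_le, h3, d4_G1_eq φ h2 h1⟩

end Cfsg.Agent.Chev
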