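import Cfsg.Agent.Chev.Twist.D4

/-!
Orders, perfectness and simplicity of ³D₄.
-/

set_option autoImplicit false
set_option maxRecDepth 100000
set_option maxHeartbeats 4000000

namespace Cfsg.Agent.Chev

open Cfsg.Lie
open scoped MatrixGroups commutatorElement

universe u

theorem d4_cartan_table : ∀ i j : Fin chevD4.rank, chevD4.cartan j (chevD4.simple i) =
    ((([[2, -1, 0, 0], [-1, 2, -1, -1], [0, -1, 2, 0], [0, -1, 0, 2]] : List (List ℤ)).getD i
      []).getD j 0) := by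
  decide +kernel

theorem d4_symm_vals : d4_031_π.symm (2 : Fin 4) = (0 : Fin 4) ∧
    d4_031_π.symm (3 : Fin 4) = (2 : Fin 4) ∧ d4_031_π.symm (0 : Fin 4) = (3 : Fin 4) :=
  ⟨d4_031_π.symm_apply_eq.2 (Fin.ext (by decide +kernel)),
    d4_031_π.symm_apply_eq.2 (Fin.ext (by decide +kernel)),
    d4_031_π.symm_apply_eq.2 (Fin.ext (by decide +kernel))⟩

theorem d4_conj_roots :
    (orbNats d4_031_π d4Base d4Len 0).foldr (fun i s => chevD4.reflectRoot i s) 14 = 22 ∧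
    (orbNats d4_031_π d4Base d4Len 1).foldr (fun i s => chevD4.reflectRoot i s) 23 = 22 ∧
    (orbNats d4_031_π d4Base d4Len 0).foldr (fun i s => chevD4.reflectRoot i s) 22 = 14 ∧
    chevD4.simple (d4Base 1) = 14 := by decide +kernel

variable {K : Type u} [Field K]

theorem d4_center_eqs (c : Fin 4 → Kˣ)
    (h : ∀ i : Fin chevD4.rank, chiU (D := chevD4) c (chevD4.simple i) = 1) :
    c 0 ^ 2 = c 1 ∧ c 1 ^ 2 = c 0 * c 2 * c 3 ∧ c 2 ^ 2 = c 1 ∧ c 3 ^ 2 = c 1 := by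
  have e : ∀ i : Fin 4, ∏ j : Fin 4, c j ^
      ((([[2, -1, 0, 0], [-1, 2, -1, -1], [0, -1, 2, 0], [0, -1, 0, 2]] : List (List ℤ)).getD i
        []).getD j 0) = 1 := by
    intro i
    refine Eq.trans (Finset.prod_congr rfl fun j _ => ?_) (h i)
    exact congrArg (c j ^ ·) (d4_cartan_table i j).symm
  have e0 := e 0; have e1 := e 1; have e2 := e 2; have e3 := e 3
  simp only [Fin.prod_univ_four, List.getD_eq_getElem?_getD, Fin.val_zero, Fin.val_one,
    Fin.val_two, show ((3 : Fin 4) : ℕ) = 3 from rfl, List.getElem?_cons_zero,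
    List.getElem?_cons_succ, Option.getD_some, zpow_two, zpow_neg_one, zpow_zero, mul_one,
    one_mul, ← pow_two] at e0 e1 e2 e3
  refine ⟨mul_inv_eq_one.1 e0, ?_, ?_, ?_⟩
  · rw [mul_comm (c 0)⁻¹, mul_assoc, mul_assoc, ← mul_inv, ← mul_inv, mul_inv_eq_one,
      ← mul_assoc] at e1
    exact e1
  · rw [inv_mul_eq_one] at e2; exact e2.symm
  · rw [inv_mul_eq_one] at e3; exact e3.symm

variable (φ : K →+* K) (hφ : ∀ t, (φ ^ 3) t = t) {q : ℕ}
  (hqφ : ∀ (j : ℕ) (t : K), (φ ^ j) t = t ^ q ^ j)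

theorem d4_card_ker :
    Nat.card {c : ↥(twistD4 K φ hφ).cfix //
      ∀ i : Fin chevD4.rank, chiU (c : Fin chevD4.rank → Kˣ) (chevD4.simple i) = 1} = 1 := by
  set T := twistD4 K φ hφ with hT
  have key : ∀ c ∈ T.cfix,
      (∀ i : Fin chevD4.rank, chiU (c : Fin chevD4.rank → Kˣ) (chevD4.simple i) = 1) →
      (c : Fin 4 → Kˣ) = fun _ => 1 := by
    intro c hc h
    change Fin 4 → Kˣ at c
    obtain ⟨h0, h1, h2, h3⟩ := d4_center_eqs c h
    have hf : ∀ i : Fin 4, c i = Units.map φ.toMonoidHom (c (d4_031_π.symm i)) :=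
      fun i => (congrFun (T.mem_cfix.1 hc) i).symm
    have f2 := hf 2; have f3 := hf 3; have f0 := hf 0
    rw [d4_symm_vals.1] at f2
    rw [d4_symm_vals.2.1] at f3
    rw [d4_symm_vals.2.2] at f0
    set a := c 0 with ha
    set e := c 2 * a⁻¹ with he
    have he2 : e ^ 2 = 1 := by rw [he, mul_pow, h2, inv_pow, h0, mul_inv_cancel]
    have hφe : Units.map φ.toMonoidHom e = e := by
      have h' : ((e : Kˣ) : K) = 1 ∨ ((e : Kˣ) : K) = -1 := by
        refine sq_eq_one_iff.1 ?_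
        rw [← Units.val_pow_eq_pow_val, he2, Units.val_one]
      refine Units.ext ?_
      rw [Units.coe_map]
      show φ (e : K) = e
      rcases h' with h' | h' <;> rw [h'] <;> simp
    have c2 : c 2 = e * a := by rw [he, inv_mul_cancel_right]
    have c3 : c 3 = a := by
      rw [f3, c2, map_mul, hφe, ← f2, c2, ← mul_assoc, ← pow_two, he2, one_mul]
    have c2' : c 2 = a := by rw [f2, ← c3, ← f0, c3]
    have h1' : (a ^ 2) ^ 2 = a * a * a := by rw [h0, h1, c2', c3]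
    have a1 : a = 1 := by
      rw [← pow_mul, show 2 * 2 = 3 + 1 from rfl, pow_succ, pow_three'] at h1'
      exact mul_eq_left.1 h1'
    funext i
    fin_cases i
    · exact a1
    · exact h0.symm.trans (by rw [a1, one_pow])
    · exact c2'.trans a1
    · exact c3.trans a1
  rw [Nat.card_eq_one_iff_unique]
  refine ⟨⟨fun ⟨⟨c, hc⟩, h⟩ ⟨⟨d, hd⟩, h'⟩ => Subtype.ext (Subtype.ext
    ((key c hc h).trans (key d hd h').symm))⟩, ⟨⟨1, fun i => ?_⟩⟩⟩
  simp [chiU]

variable [Fintype K] (hq2 : 2 ≤ q) (hK : Fintype.card K = q ^ 3)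
include hqφ hq2 hK

theorem d4_card_par (a : Fin 2) :
    Nat.card {t : K // (twistD4 K φ hφ).Par a t} = q ^ d4Len a := by
  have : Nat.card {t : K // t ^ q ^ d4Len a = t} = q ^ d4Len a :=
    card_fixed hq2 hK ((d4_orbits).len_dvd a)
  rw [← this]
  refine Nat.card_congr (Equiv.subtypeEquivRight fun t => ?_)
  show (φ ^ d4Len a) t = t ↔ _
  rw [hqφ]

theorem d4_card_par_units (a : Fin 2) :
    Nat.card {u : Kˣ // (twistD4 K φ hφ).Par a (u : K)} = q ^ d4Len a - 1 := by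
  have : Nat.card {u : Kˣ // (u : K) ^ q ^ d4Len a = u} = q ^ d4Len a - 1 :=
    card_units_fixed hq2 hK ((d4_orbits).len_dvd a)
  rw [← this]
  refine Nat.card_congr (Equiv.subtypeEquivRight fun t => ?_)
  show (φ ^ d4Len a) (t : K) = (t : K) ↔ _
  rw [hqφ]

theorem d4_card_T1 :
    Nat.card ↥(twistD4 K φ hφ).T1 = (q - 1) ^ 2 * (q ^ 2 + q + 1) := by
  have h := (twistD4 K φ hφ).card_T1_mul
  rw [d4_card_ker φ hφ, one_mul, Twist.card_cfix] at h
  rw [h]
  show ∏ a : Fin 2, Nat.card {u : Kˣ // (twistD4 K φ hφ).Par a (u : K)} = _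
  rw [Fin.prod_univ_two, d4_card_par_units φ hφ hqφ hq2 hK, d4_card_par_units φ hφ hqφ hq2 hK]
  show (q ^ 3 - 1) * (q ^ 1 - 1) = _
  obtain ⟨n, rfl⟩ : ∃ n, q = n + 1 := ⟨q - 1, by omega⟩
  rw [pow_one, Nat.add_sub_cancel,
    Nat.sub_eq_of_eq_add (show (n + 1) ^ 3 = n * ((n + 1) ^ 2 + (n + 1) + 1) + 1 by ring)]
  ring

theorem d4_card_G1 :
    Nat.card ↥(twistD4 K φ hφ).G1 = q ^ 12 * (q ^ 2 - 1) * (q ^ 6 - 1) * (q ^ 8 + q ^ 4 + 1) := by
  have := (d4Fold φ hφ).card_G1 (q := q) (fun a => d4_card_par φ hφ hqφ hq2 hK a)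
    g2_checks g2_rows g2_chain g2_all d4Fold_id
  rw [show half chevD4 = 12 by decide +kernel, d4_card_T1 φ hφ hqφ hq2 hK] at this
  simp only [pprod, List.foldr, peval_pmul, peval_padd, peval_pmon, peval] at this
  have h2 : (2 : ℤ) ≤ (q : ℤ) := by exact_mod_cast hq2
  have hne : ((q : ℤ) - 1) ^ 2 * ((q : ℤ) ^ 2 + q + 1) ≠ 0 := by
    exact mul_ne_zero (pow_ne_zero _ (by omega)) (by positivity)
  have hge : ∀ k, 1 ≤ q ^ k := fun k => Nat.one_le_pow _ _ (by omega)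
  apply Nat.cast_injective (R := ℤ)
  push_cast [Nat.cast_sub (hge 2), Nat.cast_sub (hge 6), Nat.cast_sub (show 1 ≤ q by omega)]
    at this ⊢
  refine mul_right_cancel₀ hne ?_
  linear_combination this

theorem d4_perfect : commutator ↥(twistD4 K φ hφ).G1 = ⊤ := by
  set T := twistD4 K φ hφ with hT
  refine T.commutator_eq_top ?_
  intro a t ht
  change Fin 2 at a
  have hconj := fun g hg x hx => T.conj_mem_comm (x := x) (g := g) hg hx
  have hG : ∀ g ∈ T.G1, ∀ x ∈ T.G1, g * x * g⁻¹ ∈ T.G1 := fun g hg x hx =>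
    Subgroup.mul_mem _ (Subgroup.mul_mem _ hg hx) (Subgroup.inv_mem _ hg)
  have h14 : T.XIn T.G1 14 := d4_conj_roots.2.2.2 ▸ T.xIn_single (a := (1 : Fin 2)) rfl
  have h22 : T.XIn T.G1 22 := by
    have e := (T.pW_single_val (0 : Fin 2) ⟨14, by decide +kernel⟩).trans d4_conj_roots.1
    exact e ▸ T.xIn_conj hG [(0 : Fin 2)] (r := ⟨14, by decide +kernel⟩) h14
  by_cases hl : d4Len a = 3
  · have hS : 2 < Nat.card ↥{u : Kˣ | T.Par a (u : K)} := by
      have h := d4_card_par_units φ hφ hqφ hq2 hK a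
      rw [hl] at h
      refine lt_of_lt_of_eq ?_ h.symm
      have : 2 ^ 3 ≤ q ^ 3 := Nat.pow_le_pow_left hq2 3
      omega
    obtain ⟨u, hu, hu2⟩ := exists_sq_ne_one hS
    exact T.y_mem_comm_of_sq hu hu2 ht
  · have h23 : T.XIn ⁅T.G1, T.G1⁆ 23 := by
      obtain ⟨c, hc, hct⟩ : ∃ c ∈ ([1, -1] : List ℤ),
          chevD4.commTerms 14 22 = [(23, c, 1, 1)] := by decide +kernel
      exact T.xIn_commutator (by decide +kernel) (by decide +kernel) (by decide +kernel)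
        (by decide +kernel) (by simpa using hc) hct h14 h22
    have e1 := (T.pW_single_val (1 : Fin 2) ⟨23, by decide +kernel⟩).trans d4_conj_roots.2.1
    have k22 : T.XIn ⁅T.G1, T.G1⁆ 22 :=
      e1 ▸ T.xIn_conj hconj [(1 : Fin 2)] (r := ⟨23, by decide +kernel⟩) h23
    have e2 := (T.pW_single_val (0 : Fin 2) ⟨22, by decide +kernel⟩).trans d4_conj_roots.2.2.1
    have k14 : T.XIn ⁅T.G1, T.G1⁆ 14 :=
      e2 ▸ T.xIn_conj hconj [(0 : Fin 2)] (r := ⟨22, by decide +kernel⟩) k22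
    have ha : a = 1 ∧ d4Len a = 1 :=
      (by decide +kernel : ∀ b : Fin 2, ¬ d4Len b = 3 → b = 1 ∧ d4Len b = 1) a hl
    obtain ⟨rfl, hlen⟩ := ha
    rw [T.y_single (a := (1 : Fin 2)) hlen]
    refine (d4_conj_roots.2.2.2.symm ▸ k14 : T.XIn ⁅T.G1, T.G1⁆ (chevD4.simple (d4Base 1))) t ?_
    change (φ ^ d4Len 1) t = t at ht
    rwa [hlen, pow_one] at ht

theorem d4_twist_simple : IsSimpleGroup ↥(twistD4 K φ hφ).G1 ∧ ¬ IsMulCommutative ↥(twistD4 K φ hφ).G1 := by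
  set T := twistD4 K φ hφ with hT
  refine T.isSimpleGroup (d4_perfect φ hφ hqφ hq2 hK) fun f hf => ?_
  have h01 : f (0 : Fin 2) = f (1 : Fin 2) :=
    hf (0 : Fin 2) (1 : Fin 2) ((d4Fold φ hφ).wA_ne T (0 : Fin 2) (1 : Fin 2) (by
      refine le_of_le_of_eq ?_ (g2_orderOf (0 : Fin 2) (1 : Fin 2)).symm
      decide +kernel))
  have key : ∀ a : Fin 2, f a = f (0 : Fin 2) := by
    intro a
    fin_cases a
    · rfl
    · exact h01.symm
  exact fun a b => (key a).trans (key b).symm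

end Cfsg.Agent.Chev
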