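import Cfsg.Agent.Chev.Twist.Weyl
import Cfsg.Agent.Chev.TorusCard

/-!
The Bruhat decomposition of a twisted group.
-/

set_option autoImplicit false
set_option maxHeartbeats 1000000

namespace Cfsg.Agent.Chev

open Cfsg.Lie
open scoped MatrixGroups

universe u

namespace Twist

variable {D : ChevalleyDatum} {F : Type u} [Field F] (T : Twist D F)

/-- The fixed Borel subgroup. -/
noncomputable def B1 : Subgroup (GL D.Idx F) := T.U1 ⊔ T.T1

/-- The fixed monomial subgroup. -/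
noncomputable def N1 : Subgroup (GL D.Idx F) := Subgroup.closure (↑T.T1 ∪ Set.range T.nA)

theorem T1_le_normalizer : T.T1 ≤ Subgroup.normalizer (T.U1 : Set (GL D.Idx F)) := by
  rintro g hg
  have key : ∀ h ∈ T.T1, ∀ u ∈ T.U1, h * u * h⁻¹ ∈ T.U1 := fun h hh u hu =>
    ⟨(Subgroup.mem_normalizer_iff.1
        (diagonal_le_normalizer T.hF (T.T1_le_diagonal hh)) u).1 hu.1,
      Subgroup.mul_mem _ (Subgroup.mul_mem _ (T.T1_le_fx hh) hu.2)
        (Subgroup.inv_mem _ (T.T1_le_fx hh))⟩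
  rw [Subgroup.mem_normalizer_iff]
  refine fun u => ⟨key g hg u, fun hu => ?_⟩
  have := key g⁻¹ (Subgroup.inv_mem _ hg) _ hu
  simpa [mul_assoc] using this

theorem mem_B1 {g : GL D.Idx F} : g ∈ T.B1 ↔ ∃ u ∈ T.U1, ∃ h ∈ T.T1, u * h = g := by
  rw [B1, ← SetLike.mem_coe, Subgroup.coe_mul_of_right_le_normalizer_left _ _ T.T1_le_normalizer,
    Set.mem_mul]
  rfl

theorem B1_le_G1 : T.B1 ≤ T.G1 := sup_le T.U1_le_G1 T.T1_le_G1

theorem B1_le_borel : T.B1 ≤ D.borelSubgroup F :=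
  sup_le (le_trans inf_le_left le_sup_left) (le_trans T.T1_le_diagonal le_sup_right)

theorem N1_le_G1 : T.N1 ≤ T.G1 := by
  refine (Subgroup.closure_le _).2 (Set.union_subset T.T1_le_G1 ?_)
  rintro _ ⟨a, rfl⟩
  exact T.nA_mem_G1 a

theorem N1_le_monomial : T.N1 ≤ D.monomialSubgroup F := by
  refine (Subgroup.closure_le _).2 (Set.union_subset (fun g h => Subgroup.mem_sup_left (T.T1_le_diagonal h)) ?_)
  rintro _ ⟨a, rfl⟩
  exact nWord_mem T.hF _

theorem nA_mem_N1 (a : Fin T.m) : T.nA a ∈ T.N1 := Subgroup.subset_closure (Or.inr ⟨a, rfl⟩)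

theorem T1_le_N1 : T.T1 ≤ T.N1 := fun _ h => Subgroup.subset_closure (Or.inl h)

theorem nW_mem_N1 (ws : List (Fin T.m)) : T.nW ws ∈ T.N1 := by
  induction ws with
  | nil => exact Subgroup.one_mem _
  | cons a ws ih => rw [T.nW_cons]; exact Subgroup.mul_mem _ (T.nA_mem_N1 a) ih

theorem N1_le_normalizer : T.N1 ≤ Subgroup.normalizer (T.T1 : Set (GL D.Idx F)) := by
  refine (Subgroup.closure_le _).2 (Set.union_subset Subgroup.le_normalizer ?_)
  rintro _ ⟨a, rfl⟩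
  exact T.nA_mem_normalizer a

theorem torus_nW {h : GL D.Idx F} (hh : h ∈ T.T1) (ws : List (Fin T.m)) :
    ∃ h' ∈ T.T1, h * T.nW ws = T.nW ws * h' :=
  ⟨(T.nW ws)⁻¹ * h * T.nW ws, by
    have := (Subgroup.mem_normalizer_iff.1
      (Subgroup.inv_mem _ (T.N1_le_normalizer (T.nW_mem_N1 ws))) h).1 hh
    rwa [inv_inv] at this, by group⟩

theorem nW_torus {h : GL D.Idx F} (hh : h ∈ T.T1) (ws : List (Fin T.m)) :
    ∃ h' ∈ T.T1, T.nW ws * h = h' * T.nW ws :=
  ⟨T.nW ws * h * (T.nW ws)⁻¹,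
    (Subgroup.mem_normalizer_iff.1 (T.N1_le_normalizer (T.nW_mem_N1 ws)) h).1 hh, by group⟩

theorem nA_inv (a : Fin T.m) : ∃ h ∈ T.T1, (T.nA a)⁻¹ = h * T.nA a :=
  ⟨(T.nA a * T.nA a)⁻¹, Subgroup.inv_mem _ (T.nA_sq a), by group⟩

theorem mem_N1 {g : GL D.Idx F} : g ∈ T.N1 ↔ ∃ ws, ∃ h ∈ T.T1, g = T.nW ws * h := by
  constructor
  · intro hg
    induction hg using Subgroup.closure_induction_left with
    | one => exact ⟨[], 1, Subgroup.one_mem _, by rw [T.nW_nil, mul_one]⟩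
    | mul_left x hx y _ ih =>
      obtain ⟨ws, h, hh, rfl⟩ := ih
      rcases hx with hx | ⟨a, rfl⟩
      · obtain ⟨h', hh', e⟩ := T.torus_nW hx ws
        exact ⟨ws, h' * h, Subgroup.mul_mem _ hh' hh, by rw [← mul_assoc, e, mul_assoc]⟩
      · exact ⟨a :: ws, h, hh, by rw [T.nW_cons, mul_assoc]⟩
    | inv_mul_cancel x hx y _ ih =>
      obtain ⟨ws, h, hh, rfl⟩ := ih
      rcases hx with hx | ⟨a, rfl⟩
      · obtain ⟨h', hh', e⟩ := T.torus_nW (Subgroup.inv_mem _ hx) ws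
        exact ⟨ws, h' * h, Subgroup.mul_mem _ hh' hh, by rw [← mul_assoc, e, mul_assoc]⟩
      · obtain ⟨d, hd, e⟩ := T.nA_inv a
        obtain ⟨h', hh', e'⟩ := T.torus_nW hd (a :: ws)
        refine ⟨a :: ws, h' * h, Subgroup.mul_mem _ hh' hh, ?_⟩
        rw [e, ← mul_assoc (T.nW (a :: ws)), ← e', T.nW_cons]
        group
  · rintro ⟨ws, h, hh, rfl⟩
    exact Subgroup.mul_mem _ (T.nW_mem_N1 ws) (T.T1_le_N1 hh)

theorem σ_conj_nS {g : GL D.Idx F} (hg : g ∈ T.fx) {a b : Fin T.m} {j₀ : ℕ} {e : F}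
    (hφe : T.φ e = e) (h : g * nS T.hF (T.node a 0 : ℕ) * g⁻¹ = nG T.hF (D.simple (T.node b j₀)) e) :
    ∀ i, g * nS T.hF (T.node a i : ℕ) * g⁻¹ = nG T.hF (D.simple (T.node b (i + j₀))) e := by
  intro i
  induction i with
  | zero => rw [Nat.zero_add]; exact h
  | succ i ih =>
    have := congrArg T.σ ih
    rw [map_mul, map_mul, map_inv, T.mem_fx.1 hg, T.σ_nS, T.σ_nG_simple, hφe] at this
    rw [T.node_succ, show i + 1 + j₀ = i + j₀ + 1 by omega, T.node_succ b (i + j₀)]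
    exact this

theorem isMon_nG (i : Fin D.rank) {t : F} (ht : t ≠ 0) :
    IsMon T.hF (nG T.hF (D.simple i) t) (wPerm T.hF i) := by
  rw [show t = ((Units.mk0 t ht : Fˣ) : F) from rfl, nG_eq_torus_mul T.hF i.2]
  have := isMon_mul T.hF (isMon_torus T.hF (coH (D.simple i) (Units.mk0 t ht)))
    (isMon_nS T.hF i (F := F))
  rwa [one_mul] at this

theorem pm_one {e : F} (he : e = 1 ∨ e = -1) : e ≠ 0 := by
  rcases he with rfl | rfl <;> simp

theorem node_period {a : Fin T.m} {j L : ℕ} (h : T.node a (j + L) = T.node a j) :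
    T.len a ∣ L := by
  have hL := T.hO.len_pos a
  rw [T.node_mod a (j + L), T.node_mod a j] at h
  have := (T.node_inj (Nat.mod_lt _ hL) (Nat.mod_lt _ hL) h).2
  exact (Nat.modEq_iff_dvd' (Nat.le_add_right j L)).1 (Eq.symm this) |>.trans (by simp)

theorem orbit_conj {g : GL D.Idx F} (hg : g ∈ T.fx) {a b : Fin T.m} {j₀ : ℕ} {e : F}
    (he : e = 1 ∨ e = -1)
    (h : g * nS T.hF (T.node a 0 : ℕ) * g⁻¹ = nG T.hF (D.simple (T.node b j₀)) e) :
    g * T.nA a * g⁻¹ = T.nn b e := by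
  have hφ : ∀ f : F →+* F, f e = e := fun f => by rcases he with rfl | rfl <;> simp
  have hall := T.σ_conj_nS hg (hφ _) h
  have h1 : T.len b ∣ T.len a := by
    refine T.node_period (j := j₀) ?_
    have h2 := hall (T.len a)
    have h3 := h
    rw [← T.node_add a 0, Nat.zero_add, h2] at h3
    have h4 := wPerm_injective T.hF (isMon_unique T.hF (T.isMon_nG _ (pm_one he))
      (h3 ▸ T.isMon_nG _ (pm_one he)))
    rw [Nat.add_comm (T.len a)] at h4
    first | exact h4 | exact h4.symm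
  have h2 : T.len a ∣ T.len b := by
    refine T.node_period (j := 0) ?_
    have h2 := hall (T.len b)
    rw [Nat.add_comm (T.len b) j₀, T.node_add, ← h] at h2
    rw [mul_left_inj, mul_right_inj] at h2
    rw [Nat.zero_add]
    have h3 := isMon_nS T.hF (T.node a (T.len b)) (F := F)
    rw [h2] at h3
    exact wPerm_injective T.hF (isMon_unique T.hF h3 (isMon_nS T.hF _))
  have hlen : T.len a = T.len b := Nat.dvd_antisymm h2 h1
  rw [T.nn_eq, ← MulAut.conj_apply, nA, orb, nWord, List.map_map, map_list_prod, List.map_map, hlen]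
  refine Eq.trans ?_ (Eq.trans (prod_range_add_eq (f := fun j => nG T.hF (D.simple (T.node b j)) e)
    (fun i j => T.commute_nG' b i j e) (fun i => by rw [T.node_add]) j₀) ?_)
  · refine congrArg List.prod (List.map_congr_left fun i _ => ?_)
    simp only [Function.comp_apply, MulAut.conj_apply]
    exact hall i
  · refine congrArg List.prod (List.map_congr_left fun i _ => ?_)
    rw [hφ]

theorem exchange_ws : ∀ (ws : List (Fin T.m)) (a : Fin T.m),
    (T.pW ws (sRoot T.hF (T.base a)) : ℕ) < half D →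
    ∃ u b v, ws = u ++ b :: v ∧ ∃ h ∈ T.T1, T.nW ws * T.nA a = T.nW (u ++ v) * h := by
  intro ws a
  induction ws with
  | nil => exact fun h => absurd h (not_lt.2 (T.hF.simple_pos _ (T.base a).2))
  | cons b ws ih =>
    intro h
    by_cases hpos : half D ≤ (T.pW ws (sRoot T.hF (T.base a)) : ℕ)
    · have hs : T.Simp b (T.pW ws (sRoot T.hF (T.base a))) := by
        rw [T.pW_cons, Equiv.Perm.mul_apply] at h
        exact (T.wA_neg_iff hpos).1 h
      obtain ⟨j₀, -, hj⟩ := hs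
      refine ⟨[], b, ws, rfl, ?_⟩
      obtain ⟨e, he, hK⟩ := nWord_conj_nG T.hF (T.flat ws) (sRoot T.hF (T.base a)) (F := F)
      have hK1 : T.nW ws * nS T.hF (T.node a 0 : ℕ) * (T.nW ws)⁻¹ =
          nG T.hF (D.simple (T.node b j₀)) e := by
        have h1 := hK 1
        rw [mul_one, show pWord T.hF (T.flat ws) (sRoot T.hF (T.base a)) = _ from hj] at h1
        exact mul_inv_eq_iff_eq_mul.2 h1
      have hc := T.orbit_conj (T.G1_le_fx (T.N1_le_G1 (T.nW_mem_N1 ws))) he hK1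
      have hd : ∃ d ∈ T.T1, T.nA b * T.nn b e = d := by
        rcases he with rfl | rfl
        · exact ⟨_, T.nA_sq b, by rw [T.nn_one]⟩
        · exact ⟨1, Subgroup.one_mem _, by rw [T.nn_neg, T.nn_one, mul_inv_cancel]⟩
      obtain ⟨d, hd1, hd2⟩ := hd
      obtain ⟨d', hd', e'⟩ := T.torus_nW hd1 ws
      refine ⟨d', hd', ?_⟩
      rw [List.nil_append, T.nW_cons, mul_assoc,
        show T.nW ws * T.nA a = T.nn b e * T.nW ws from mul_inv_eq_iff_eq_mul.1 hc, ← mul_assoc,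
        hd2, e']
    · obtain ⟨u, c, v, rfl, h', hh', e⟩ := ih (not_le.1 hpos)
      exact ⟨b :: u, c, v, rfl, h', hh', by
        simp only [List.cons_append, T.nW_cons, mul_assoc, e]⟩

theorem T1_isMon {g : GL D.Idx F} (h : g ∈ T.T1) : IsMon T.hF g 1 := by
  obtain ⟨c, -, rfl⟩ := h
  exact isMon_torus T.hF c

theorem nW_mem_T1 : ∀ ws : List (Fin T.m), T.pW ws = 1 → T.nW ws ∈ T.T1 := by
  suffices H : ∀ n, ∀ ws : List (Fin T.m), ws.length = n → T.pW ws = 1 → T.nW ws ∈ T.T1 from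
    fun ws => H _ ws rfl
  intro n
  induction n using Nat.strong_induction_on with
  | _ n ih =>
    intro ws hn hw
    rcases List.eq_nil_or_concat ws with rfl | ⟨w', a, rfl⟩
    · exact Subgroup.one_mem _
    rw [List.concat_eq_append] at hn hw ⊢
    have hw' : T.pW w' = T.wA a := by
      rw [T.pW_append, T.pW_cons, T.pW_nil, mul_one, mul_eq_one_iff_eq_inv, T.wA_inv] at hw
      exact hw
    have hneg : (T.pW w' (sRoot T.hF (T.base a)) : ℕ) < half D := by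
      rw [hw', ← T.node_zero, T.wA_node]
      exact (neg_lt_half_iff T.hF (sRoot T.hF (T.node a 0)).2).2
        (T.hF.simple_pos _ (T.node a 0).2)
    obtain ⟨u, b, v, huv, h, hh, e⟩ := T.exchange_ws w' a hneg
    have e2 : T.nW (w' ++ [a]) = T.nW (u ++ v) * h := by
      rw [T.nW_append, T.nW_cons, T.nW_nil, mul_one, e]
    have hp : T.pW (u ++ v) = 1 := by
      have h1 := T.isMon_nW (w' ++ [a])
      rw [hw, e2] at h1
      have h2 := isMon_unique T.hF (isMon_mul T.hF (T.isMon_nW (u ++ v)) (T.T1_isMon hh)) h1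
      rwa [mul_one] at h2
    rw [e2]
    exact Subgroup.mul_mem _ (ih _ (by rw [← hn, huv]; simp) (u ++ v) rfl hp) hh

theorem N1_mem_T1 {g : GL D.Idx F} (hg : g ∈ T.N1) (h : IsMon T.hF g 1) : g ∈ T.T1 := by
  obtain ⟨ws, t, ht, rfl⟩ := T.mem_N1.1 hg
  have := isMon_unique T.hF (isMon_mul T.hF (T.isMon_nW ws) (T.T1_isMon ht)) h
  rw [mul_one] at this
  exact Subgroup.mul_mem _ (T.nW_mem_T1 ws this) ht

theorem N1_diagonal {g : GL D.Idx F} (hg : g ∈ T.N1) (h : g ∈ D.diagonalSubgroup F) : g ∈ T.T1 := by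
  obtain ⟨c, rfl⟩ := (mem_diagonal_iff T.hF).1 h
  exact T.N1_mem_T1 hg (isMon_torus T.hF c)

theorem conj_y_mem {n : GL D.Idx F} {π : Equiv.Perm (Fin D.nroots)} (hn : IsMon T.hF n π)
    (hfx : n ∈ T.fx) (hπ : T.InW1 π) {a : Fin T.m}
    (hpos : half D ≤ (π⁻¹ (sRoot T.hF (T.base a)) : ℕ)) {t : F} (ht : T.Par a t) :
    n⁻¹ * T.y true a t * n ∈ T.U1 := by
  refine ⟨?_, Subgroup.mul_mem _ (Subgroup.mul_mem _ (Subgroup.inv_mem _ hfx) (T.y_fx ht _)) hfx⟩
  have e : n⁻¹ * T.y true a t * n = n⁻¹ * T.y true a t * (n⁻¹)⁻¹ := by rw [inv_inv]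
  rw [e, ← MulAut.conj_apply, y, yv, map_list_prod, List.map_map]
  refine Subgroup.list_prod_mem _ fun x hx => ?_
  obtain ⟨j, -, rfl⟩ := List.mem_map.1 hx
  obtain ⟨v, hv⟩ := isMon_conj_mem T.hF (isMon_inv' T.hF hn) (T.rt true a j) ((T.φ ^ j) t)
  rw [Function.comp_apply, MulAut.conj_apply, hv]
  exact mem_posUnipotent_of T.hF (π⁻¹ (T.rt true a j)).2 ((T.node_sign (hπ.inv T) a j).2 hpos) _

theorem y_mem_U1 {a : Fin T.m} {t : F} (ht : T.Par a t) : T.y true a t ∈ T.U1 :=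
  ⟨closure_uGens_le T.hF _ (T.y_mem_uMinus a _), T.y_fx ht _⟩

theorem step (a : Fin T.m) (ws : List (Fin T.m)) {b : GL D.Idx F} (hb : b ∈ T.B1) :
    ∃ b₁ ∈ T.B1, ∃ b₂ ∈ T.B1, T.nA a * b * T.nW ws = b₁ * T.nW (a :: ws) * b₂ ∨
      T.nA a * b * T.nW ws = b₁ * T.nW ws * b₂ := by
  obtain ⟨u, hu, h, hh, rfl⟩ := T.mem_B1.1 hb
  obtain ⟨h', hh', e⟩ := T.torus_nW hh ws
  obtain ⟨x, hx, m, hm, hxf, hmf, rfl⟩ := T.split_fx (T.isMon_nA a) (T.rho_wA a) hu.1 hu.2
  obtain ⟨s, hs, rfl⟩ := T.exists_y hm hmf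
  have hX : T.nA a * x * (T.nA a)⁻¹ ∈ T.B1 := Subgroup.mem_sup_left
    ⟨conj_uPlus T.hF (T.isMon_nA a) hx,
      Subgroup.mul_mem _ (Subgroup.mul_mem _ (T.nA_fx a) hxf) (Subgroup.inv_mem _ (T.nA_fx a))⟩
  suffices H : ∃ b₁ ∈ T.B1, ∃ b₂ ∈ T.B1,
      T.nA a * T.y true a s * T.nW ws = b₁ * T.nW (a :: ws) * b₂ ∨
        T.nA a * T.y true a s * T.nW ws = b₁ * T.nW ws * b₂ by
    obtain ⟨b₁, hb₁, b₂, hb₂, H⟩ := H
    have e2 : T.nA a * (x * T.y true a s * h) * T.nW ws =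
        T.nA a * x * (T.nA a)⁻¹ * (T.nA a * T.y true a s * T.nW ws) * h' := by
      rw [show T.nA a * (x * T.y true a s * h) * T.nW ws =
        T.nA a * x * T.y true a s * (h * T.nW ws) by group, e]
      group
    refine ⟨_, Subgroup.mul_mem _ hX hb₁, b₂ * h',
      Subgroup.mul_mem _ hb₂ (Subgroup.mem_sup_right hh'), ?_⟩
    rcases H with H | H
    · left; rw [e2, H]; group
    · right; rw [e2, H]; group
  have hp := T.inW1_pW ws
  have hnfx : ∀ l, T.nW l ∈ T.fx := fun l => T.G1_le_fx (T.N1_le_G1 (T.nW_mem_N1 l))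
  by_cases hq : half D ≤ ((T.pW ws)⁻¹ (sRoot T.hF (T.base a)) : ℕ)
  · refine ⟨1, Subgroup.one_mem _, _,
      Subgroup.mem_sup_left (T.conj_y_mem (T.isMon_nW ws) (hnfx _) hp hq hs), Or.inl ?_⟩
    rw [T.nW_cons]
    group
  · have hq' : half D ≤ ((T.pW (a :: ws))⁻¹ (sRoot T.hF (T.base a)) : ℕ) := by
      rw [T.pW_cons, mul_inv_rev, Equiv.Perm.mul_apply, T.wA_inv, ← T.node_zero, T.wA_node,
        T.node_zero, weyl_negF T.hF (hp.inv T).1]
      exact (pos_negF_iff T.hF _).2 (not_le.1 hq)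
    by_cases hs0 : s = 0
    · subst hs0
      refine ⟨1, Subgroup.one_mem _, 1, Subgroup.one_mem _, Or.inl ?_⟩
      rw [T.y_zero, T.nW_cons]
      group
    set u : Fˣ := (Units.mk0 s hs0)⁻¹ with hu'
    have hupar : T.Par a (u : F) := by
      rw [hu', Units.val_inv_eq_inv_val]; exact T.par_inv hs
    have hnn : T.nn a (u : F) = T.y true a u * T.y false a (-s) * T.y true a u := by
      rw [nn, hu', Units.val_inv_eq_inv_val, inv_inv]
      rfl
    have hneg : T.y false a (-s) = T.y true a (-(u : F)) * T.nn a (u : F) * T.y true a (-(u : F)) := by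
      have hi := T.y_inv true a (u : F)
      rw [hnn, ← hi]
      group
    have hz := T.conj_y_mem (T.isMon_nW (a :: ws)) (hnfx _) (T.inW1_pW _) hq' (T.par_neg hupar)
    have hd : torusHom (T.hv a u) * (T.nA a * T.nA a) ∈ T.T1 :=
      Subgroup.mul_mem _ (T.mem_T1.2 ⟨_, T.hv_mem hupar, rfl⟩) (T.nA_sq a)
    refine ⟨T.y true a (-(u : F)) * (torusHom (T.hv a u) * (T.nA a * T.nA a)),
      Subgroup.mul_mem _ (Subgroup.mem_sup_left (T.y_mem_U1 (T.par_neg hupar)))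
        (Subgroup.mem_sup_right hd), _, Subgroup.mem_sup_left hz, Or.inr ?_⟩
    rw [show T.nA a * T.y true a s = T.y false a (-s) * T.nA a from
      mul_inv_eq_iff_eq_mul.1 (T.nA_conj_y a s), hneg, T.nn_torus, T.nW_cons]
    group

/-- Every element has a Bruhat decomposition. -/
theorem exists_bruhat {g : GL D.Idx F} (hg : g ∈ T.G1) :
    ∃ b ∈ T.B1, ∃ ws, ∃ b' ∈ T.B1, g = b * T.nW ws * b' := by
  let S : Set (GL D.Idx F) := {g | ∃ b ∈ T.B1, ∃ ws, ∃ b' ∈ T.B1, g = b * T.nW ws * b'}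
  have hB : ∀ x ∈ T.B1, ∀ y ∈ S, x * y ∈ S := by
    rintro x hx y ⟨b, hb, ws, b', hb', rfl⟩
    exact ⟨x * b, Subgroup.mul_mem _ hx hb, ws, b', hb', by group⟩
  have hn : ∀ a, ∀ y ∈ S, T.nA a * y ∈ S := by
    rintro a y ⟨b, hb, ws, b', hb', rfl⟩
    obtain ⟨b₁, hb₁, b₂, hb₂, h | h⟩ := T.step a ws hb
    · exact ⟨b₁, hb₁, a :: ws, b₂ * b', Subgroup.mul_mem _ hb₂ hb', by
        rw [← mul_assoc, ← mul_assoc (T.nA a) b, h]; group⟩
    · exact ⟨b₁, hb₁, ws, b₂ * b', Subgroup.mul_mem _ hb₂ hb', by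
        rw [← mul_assoc, ← mul_assoc (T.nA a) b, h]; group⟩
  have hgen : ∀ s a t, T.Par a t → ∀ y ∈ S, T.y s a t * y ∈ S := by
    intro s a t ht y hy
    cases s with
    | true => exact hB _ (Subgroup.mem_sup_left (T.y_mem_U1 ht)) _ hy
    | false =>
      obtain ⟨h, hh, e⟩ := T.nA_inv a
      have e2 : T.y false a t * y =
          T.nA a * (T.y true a (-t) * (h * (T.nA a * y))) := by
        rw [show T.y false a t = T.nA a * T.y true a (-t) * (T.nA a)⁻¹ by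
          rw [T.nA_conj_y, neg_neg], e]
        group
      rw [e2]
      exact hn a _ (hB _ (Subgroup.mem_sup_left (T.y_mem_U1 (T.par_neg ht))) _
        (hB _ (Subgroup.mem_sup_right hh) _ (hn a _ hy)))
  suffices g ∈ S from this
  induction hg using Subgroup.closure_induction_left with
  | one => exact ⟨1, Subgroup.one_mem _, [], 1, Subgroup.one_mem _, by simp [T.nW_nil]⟩
  | mul_left x hx y _ ih =>
    obtain ⟨s, a, t, ht, rfl⟩ := hx
    exact hgen s a t ht y ih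
  | inv_mul_cancel x hx y _ ih =>
    obtain ⟨s, a, t, ht, rfl⟩ := hx
    rw [T.y_inv]
    exact hgen s a _ (T.par_neg ht) y ih

/-- The Bruhat normal form. -/
theorem exists_nf {g : GL D.Idx F} (hg : g ∈ T.G1) :
    ∃ b ∈ T.B1, ∃ ws, ∃ x ∈ T.fm (T.pW ws), g = b * T.nW ws * x := by
  obtain ⟨b, hb, ws, b', hb', rfl⟩ := T.exists_bruhat hg
  obtain ⟨u, hu, h, hh, rfl⟩ := T.mem_B1.1 hb'
  obtain ⟨p, hp, m, hm, hpf, hmf, rfl⟩ :=
    T.split_fx (T.isMon_nW ws) (T.inW1_pW ws).2 hu.1 hu.2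
  obtain ⟨h', hh', e⟩ := T.nW_torus hh ws
  have hnf : T.nW ws ∈ T.fx := T.G1_le_fx (T.N1_le_G1 (T.nW_mem_N1 ws))
  have hp' : T.nW ws * p * (T.nW ws)⁻¹ ∈ T.U1 :=
    ⟨conj_uPlus T.hF (T.isMon_nW ws) hp,
      Subgroup.mul_mem _ (Subgroup.mul_mem _ hnf hpf) (Subgroup.inv_mem _ hnf)⟩
  have hm' : h⁻¹ * m * h ∈ T.fm (T.pW ws) := by
    refine ⟨?_, Subgroup.mul_mem _ (Subgroup.mul_mem _ (Subgroup.inv_mem _ (T.T1_le_fx hh)) hmf)
      (T.T1_le_fx hh)⟩
    obtain ⟨c, -, rfl⟩ := hh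
    have := torus_conj_uGens T.hF c⁻¹ hm
    rwa [map_inv, inv_inv] at this
  refine ⟨b * (T.nW ws * p * (T.nW ws)⁻¹) * h',
    Subgroup.mul_mem _ (Subgroup.mul_mem _ hb (Subgroup.mem_sup_left hp'))
      (Subgroup.mem_sup_right hh'), ws, _, hm', ?_⟩
  rw [mul_assoc _ h' (T.nW ws), ← e]
  group

theorem nf_unique {b b' x x' : GL D.Idx F} {ws ws' : List (Fin T.m)}
    (hb : b ∈ D.borelSubgroup F) (hb' : b' ∈ D.borelSubgroup F)
    (hx : x ∈ uMinus T.hF (T.pW ws)) (hx' : x' ∈ uMinus T.hF (T.pW ws'))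
    (e : b * T.nW ws * x = b' * T.nW ws' * x') :
    T.pW ws = T.pW ws' ∧ (ws = ws' → b = b' ∧ x = x') := by
  have hm : ∀ l, monPerm T.hF (T.nW l) = T.pW l := fun l => monPerm_eq T.hF (T.isMon_nW l)
  have h := normalForm_unique T.hF hb hb' (T.N1_le_monomial (T.nW_mem_N1 ws))
    (T.N1_le_monomial (T.nW_mem_N1 ws')) (by rw [hm]; exact hx) (by rw [hm]; exact hx') e
  refine ⟨?_, fun hw => h.2 (by rw [hw])⟩
  obtain ⟨c, hc⟩ := (mem_diagonal_iff T.hF).1 h.1
  have h2 := T.isMon_nW ws'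
  rw [show T.nW ws' = T.nW ws * torusHom c by rw [hc, mul_inv_cancel_left]] at h2
  have h3 := isMon_unique T.hF h2 (isMon_mul T.hF (T.isMon_nW ws) (isMon_torus T.hF c))
  rw [mul_one] at h3
  exact h3.symm

theorem G1_inf_borel : D.borelSubgroup F ⊓ T.G1 = T.B1 := by
  refine le_antisymm ?_ (le_inf T.B1_le_borel T.B1_le_G1)
  rintro g ⟨hgB, hg⟩
  obtain ⟨b, hb, ws, x, hx, rfl⟩ := T.exists_nf hg
  have hxB : x ∈ T.U1 := ⟨closure_uGens_le T.hF _ hx.1, hx.2⟩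
  have hn : T.nW ws ∈ D.borelSubgroup F := by
    have := Subgroup.mul_mem _ (Subgroup.mul_mem _
      (Subgroup.inv_mem _ (T.B1_le_borel hb)) hgB)
      (Subgroup.inv_mem _ (T.B1_le_borel (Subgroup.mem_sup_left hxB)))
    simpa [mul_assoc] using this
  have hd : T.nW ws ∈ T.T1 := T.N1_diagonal (T.nW_mem_N1 ws)
    ((borel_inf_monomial T.hF (F := F)).le ⟨hn, T.N1_le_monomial (T.nW_mem_N1 ws)⟩)
  exact Subgroup.mul_mem _ (Subgroup.mul_mem _ hb (Subgroup.mem_sup_right hd))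
    (Subgroup.mem_sup_left hxB)

theorem G1_inf_monomial : D.monomialSubgroup F ⊓ T.G1 = T.N1 := by
  refine le_antisymm ?_ (le_inf T.N1_le_monomial T.N1_le_G1)
  rintro g ⟨hgN, hg⟩
  obtain ⟨b, hb, ws, x, hx, rfl⟩ := T.exists_nf hg
  set g := b * T.nW ws * x with hgdef
  have hN := T.N1_le_monomial (T.nW_mem_N1 ws)
  have hm : monPerm T.hF (T.nW ws) = T.pW ws := monPerm_eq T.hF (T.isMon_nW ws)
  have hd := (normalForm_unique T.hF (b := b) (b' := 1) (n := T.nW ws) (n' := g) (x := x) (x' := 1)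
    (T.B1_le_borel hb) (Subgroup.one_mem _) hN hgN (by rw [hm]; exact hx.1) (Subgroup.one_mem _)
    (by rw [hgdef, one_mul, mul_one])).1
  obtain ⟨c, hc⟩ := (mem_diagonal_iff T.hF).1 hd
  obtain ⟨c', hc'⟩ := nWord_torus T.hF (T.flat ws) c (F := F)
  have e : b * T.nW ws * x = torusHom c' * T.nW ws * 1 := by
    rw [mul_one, ← hgdef, ← show T.nW ws * torusHom c = torusHom c' * T.nW ws from hc', hc,
      mul_inv_cancel_left]
  obtain ⟨hbc, rfl⟩ := (T.nf_unique (T.B1_le_borel hb)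
    (Subgroup.mem_sup_right (torusHom_mem T.hF c')) hx.1 (Subgroup.one_mem _) e).2 rfl
  obtain ⟨u, hu, h, hh, e'⟩ := T.mem_B1.1 hb
  obtain ⟨d, hdc, rfl⟩ := hh
  have hu1 := (posUnipotent_torus_unique T.hF hu.1 (Subgroup.one_mem _)
    (c := d) (c' := c') (by rw [e', hbc, one_mul])).1
  rw [hgdef, mul_one, ← e', hu1, one_mul]
  exact Subgroup.mul_mem _ (T.T1_le_N1 (T.mem_T1.2 ⟨d, hdc, rfl⟩)) (T.nW_mem_N1 ws)

theorem G1_inf_diagonal : D.diagonalSubgroup F ⊓ T.G1 = T.T1 := by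
  refine le_antisymm (fun g hg => ?_) (le_inf T.T1_le_diagonal T.T1_le_G1)
  have : g ∈ T.N1 := T.G1_inf_monomial.le ⟨Subgroup.mem_sup_left hg.1, hg.2⟩
  exact T.N1_diagonal this hg.1

theorem B1_inf_N1 {g : GL D.Idx F} (hb : g ∈ T.B1) (hn : g ∈ T.N1) : g ∈ T.T1 :=
  T.N1_diagonal hn ((borel_inf_monomial T.hF (F := F)).le ⟨T.B1_le_borel hb, T.N1_le_monomial hn⟩)

theorem wA_injective : Function.Injective T.wA := fun a b e => by
  have h := (T.wA_neg_iff (r := sRoot T.hF (T.base a)) (a := b)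
    (T.hF.simple_pos _ (T.base a).2)).1 (by
      rw [← e, ← T.node_zero, T.wA_node]
      exact (neg_lt_half_iff T.hF (sRoot T.hF (T.node a 0)).2).2
        (T.hF.simple_pos _ (T.node a 0).2))
  obtain ⟨j, -, hj⟩ := h
  exact T.orbit_eq (i := 0) (sRoot_injective T.hF hj)

/-- The representative of an orbit reflection in the twisted group. -/
def nG1 (a : Fin T.m) : ↥T.G1 := ⟨T.nA a, T.nA_mem_G1 a⟩

theorem conj_nA_not_mem (a : Fin T.m) :
    T.nA a * T.y true a 1 * T.nA a ∉ T.B1 := by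
  intro h
  have h1 := Subgroup.mul_mem _ h (Subgroup.mem_sup_right (S := T.U1)
    (Subgroup.inv_mem _ (T.nA_sq a)))
  have e : T.nA a * T.y true a 1 * T.nA a * (T.nA a * T.nA a)⁻¹ = T.y false a (-1) := by
    rw [← T.nA_conj_y]; group
  rw [e] at h1
  have hV : T.y false a (-1) ∈ D.negUnipotent F := Subgroup.list_prod_mem _ fun x hx => by
    obtain ⟨j, -, rfl⟩ := List.mem_map.1 hx
    exact mem_negUnipotent_of T.hF (T.rt false a j).2
      ((neg_lt_half_iff T.hF (sRoot T.hF (T.node a j)).2).2 (T.hF.simple_pos _ (T.node a j).2)) _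
  have h2 := borel_inf_upper T.hF (T.B1_le_borel h1) (negUnipotent_le_upperGroup T.hF hV)
  rw [← T.nA_conj_y, conj_eq_one_iff, ← T.y_zero true a] at h2
  exact one_ne_zero (T.y_injective h2)

/-- The (B,N)-pair of a twisted group. -/
noncomputable def bnPair1 : Cfsg.BNPair ↥T.G1 where
  B := (D.borelSubgroup F ⊓ T.G1).subgroupOf T.G1
  N := (D.monomialSubgroup F ⊓ T.G1).subgroupOf T.G1
  S := Set.range T.nG1
  sup_eq_top := by
    rw [eq_top_iff, T.G1_inf_borel, T.G1_inf_monomial]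
    rintro ⟨g, hg⟩ -
    obtain ⟨b, hb, ws, b', hb', rfl⟩ := T.exists_bruhat hg
    have e : (⟨b * T.nW ws * b', hg⟩ : ↥T.G1) = ⟨b, T.B1_le_G1 hb⟩ *
        ⟨T.nW ws, T.N1_le_G1 (T.nW_mem_N1 ws)⟩ * ⟨b', T.B1_le_G1 hb'⟩ := rfl
    rw [e]
    exact Subgroup.mul_mem _ (Subgroup.mul_mem _
      (Subgroup.mem_sup_left (Subgroup.mem_subgroupOf.2 hb))
      (Subgroup.mem_sup_right (Subgroup.mem_subgroupOf.2 (T.nW_mem_N1 ws))))
      (Subgroup.mem_sup_left (Subgroup.mem_subgroupOf.2 hb'))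
  conj_mem := by
    intro n hn t ht
    rw [T.G1_inf_borel, T.G1_inf_monomial, Subgroup.mem_inf, Subgroup.mem_subgroupOf,
      Subgroup.mem_subgroupOf] at ht
    rw [T.G1_inf_monomial, Subgroup.mem_subgroupOf] at hn
    rw [T.G1_inf_borel, Subgroup.mem_subgroupOf]
    exact Subgroup.mem_sup_right
      ((Subgroup.mem_normalizer_iff.1 (T.N1_le_normalizer hn) _).1 (T.B1_inf_N1 ht.1 ht.2))
  subset := by
    rintro g ⟨a, rfl⟩
    rw [SetLike.mem_coe, T.G1_inf_monomial, Subgroup.mem_subgroupOf]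
    exact T.nA_mem_N1 a
  sq_mem := by
    rintro g ⟨a, rfl⟩
    rw [T.G1_inf_borel, Subgroup.mem_subgroupOf]
    exact Subgroup.mem_sup_right (T.nA_sq a)
  inj := by
    rintro g ⟨a, rfl⟩ g' ⟨b, rfl⟩ h
    rw [T.G1_inf_borel, Subgroup.mem_subgroupOf] at h
    have hd := T.B1_inf_N1 h
      (Subgroup.mul_mem _ (Subgroup.inv_mem _ (T.nA_mem_N1 a)) (T.nA_mem_N1 b))
    have h1 := isMon_mul T.hF (T.isMon_nA a) (T.T1_isMon hd)
    change IsMon T.hF (T.nA a * ((T.nA a)⁻¹ * T.nA b)) _ at h1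
    rw [mul_inv_cancel_left, mul_one] at h1
    rw [T.wA_injective (isMon_unique T.hF h1 (T.isMon_nA b))]
  closure_sup := by
    rw [T.G1_inf_borel, T.G1_inf_monomial]
    refine le_antisymm (sup_le ((Subgroup.closure_le _).2 ?_) inf_le_right) ?_
    · rintro g ⟨a, rfl⟩
      exact Subgroup.mem_subgroupOf.2 (T.nA_mem_N1 a)
    · rintro ⟨g, hg⟩ hN
      obtain ⟨ws, h, hh, e⟩ := T.mem_N1.1 (Subgroup.mem_subgroupOf.1 hN)
      have hg' : (⟨g, hg⟩ : ↥T.G1) = (ws.map T.nG1).prod * ⟨h, T.T1_le_G1 hh⟩ := by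
        refine Subtype.ext (e.trans ?_)
        rw [Subgroup.coe_mul]
        congr 1
        clear e
        induction ws with
        | nil => rfl
        | cons a ws ih => rw [List.map_cons, List.prod_cons, Subgroup.coe_mul, ← ih, T.nW_cons]; rfl
      rw [hg']
      refine Subgroup.mul_mem _ (Subgroup.mem_sup_left (Subgroup.list_prod_mem _ fun x hx => ?_))
        (Subgroup.mem_sup_right ⟨Subgroup.mem_subgroupOf.2 (Subgroup.mem_sup_right hh),
          Subgroup.mem_subgroupOf.2 (T.T1_le_N1 hh)⟩)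
      obtain ⟨a, -, rfl⟩ := List.mem_map.1 hx
      exact Subgroup.subset_closure ⟨a, rfl⟩
  mul_mem_union := by
    rintro s ⟨a, rfl⟩ n hn b hb
    rw [T.G1_inf_monomial, Subgroup.mem_subgroupOf] at hn
    rw [T.G1_inf_borel] at hb ⊢
    rw [Subgroup.mem_subgroupOf] at hb
    obtain ⟨ws, h, hh, e⟩ := T.mem_N1.1 hn
    obtain ⟨b₁, hb₁, b₂, hb₂, H⟩ := T.step a ws hb
    have hh' : h⁻¹ * (b₂ * h) ∈ T.B1 :=
      Subgroup.mul_mem _ (Subgroup.mem_sup_right (Subgroup.inv_mem _ hh))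
        (Subgroup.mul_mem _ hb₂ (Subgroup.mem_sup_right hh))
    rcases H with H | H
    · refine Or.inl (DoubleCoset.mem_doubleCoset.2 ⟨⟨b₁, T.B1_le_G1 hb₁⟩,
        Subgroup.mem_subgroupOf.2 hb₁, ⟨h⁻¹ * (b₂ * h), T.B1_le_G1 hh'⟩,
        Subgroup.mem_subgroupOf.2 hh', Subtype.ext ?_⟩)
      show T.nA a * b * n = b₁ * (T.nA a * n) * (h⁻¹ * (b₂ * h))
      rw [e, ← mul_assoc (T.nA a * b), H, T.nW_cons]
      group
    · refine Or.inr (DoubleCoset.mem_doubleCoset.2 ⟨⟨b₁, T.B1_le_G1 hb₁⟩,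
        Subgroup.mem_subgroupOf.2 hb₁, ⟨h⁻¹ * (b₂ * h), T.B1_le_G1 hh'⟩,
        Subgroup.mem_subgroupOf.2 hh', Subtype.ext ?_⟩)
      show T.nA a * b * n = b₁ * n * (h⁻¹ * (b₂ * h))
      rw [e, ← mul_assoc (T.nA a * b), H]
      group
  conj_ne := by
    rintro s ⟨a, rfl⟩ h
    rw [T.G1_inf_borel] at h
    have := h.le ⟨⟨T.y true a 1, T.y_mem_G1 (T.par_one a) true⟩,
      Subgroup.mem_subgroupOf.2 (Subgroup.mem_sup_left (T.y_mem_U1 (T.par_one a))), rfl⟩
    exact T.conj_nA_not_mem a (Subgroup.mem_subgroupOf.1 this)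

/-- The Weyl group of the twisted group. -/
def w1 : Subgroup (Equiv.Perm (Fin D.nroots)) where
  carrier := {p | T.InW1 p}
  one_mem' := T.inW1_one
  mul_mem' h h' := InW1.mul T h h'
  inv_mem' h := InW1.inv T h

theorem card_B1 : Nat.card ↥T.B1 = Nat.card ↥T.U1 * Nat.card ↥T.T1 := by
  rw [← Nat.card_prod]
  refine (Nat.card_congr (Equiv.ofBijective
    (fun p : ↥T.U1 × ↥T.T1 => (⟨(p.1 : GL D.Idx F) * p.2, Subgroup.mul_mem _
      (Subgroup.mem_sup_left p.1.2) (Subgroup.mem_sup_right p.2.2)⟩ : ↥T.B1)) ⟨?_, ?_⟩)).symm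
  · rintro ⟨⟨a, ha⟩, b, hb⟩ ⟨⟨a', ha'⟩, b', hb'⟩ e
    have e' : a * b = a' * b' := congrArg Subtype.val e
    obtain ⟨c, -, rfl⟩ := hb
    obtain ⟨c', -, rfl⟩ := hb'
    obtain ⟨h1, h2⟩ := posUnipotent_torus_unique T.hF ha.1 ha'.1 e'
    subst h1
    exact Prod.ext rfl (Subtype.ext h2)
  · rintro ⟨g, hg⟩
    obtain ⟨u, hu, h, hh, e⟩ := T.mem_B1.1 hg
    exact ⟨(⟨u, hu⟩, ⟨h, hh⟩), Subtype.ext e⟩

open Classical in
/-- The sum of `q ^ N(w)` over the Weyl group of the twisted group. -/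
noncomputable def poin1 (q : ℕ) : ℕ :=
  ∑ p ∈ (Finset.univ.filter fun p : Equiv.Perm (Fin D.nroots) => T.InW1 p), q ^ invCard p

theorem card_G1 {q : ℕ} (hq : ∀ a, Nat.card {t : F // T.Par a t} = q ^ T.len a) [Finite F] :
    Nat.card ↥T.G1 = q ^ half D * Nat.card ↥T.T1 * T.poin1 q := by
  classical
  have hword : ∀ p : {p // T.InW1 p}, ∃ ws, T.pW ws = p := fun p => T.exists_pW p.2
  choose word hword using hword
  let f : (Σ p : {p // T.InW1 p}, ↥T.B1 × ↥(T.fm p.1)) → ↥T.G1 := fun x =>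
    ⟨(x.2.1 : GL D.Idx F) * T.nW (word x.1) * x.2.2,
      Subgroup.mul_mem _ (Subgroup.mul_mem _ (T.B1_le_G1 x.2.1.2) (T.N1_le_G1 (T.nW_mem_N1 _)))
        (T.fm_le_G1 x.1.2 x.2.2.2)⟩
  have hf : Function.Bijective f := by
    constructor
    · rintro ⟨p, b, x⟩ ⟨p', b', x'⟩ e
      have e' := congrArg Subtype.val e
      simp only [f] at e'
      have h := T.nf_unique (T.B1_le_borel b.2) (T.B1_le_borel b'.2)
        (by rw [hword]; exact x.2.1) (by rw [hword]; exact x'.2.1) e'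
      obtain rfl : p = p' := Subtype.ext (by rw [← hword p, ← hword p', h.1])
      obtain ⟨h1, h2⟩ := h.2 rfl
      rw [Subtype.ext h1, Subtype.ext h2]
    · rintro ⟨g, hg⟩
      obtain ⟨b, hb, ws, x, hx, rfl⟩ := T.exists_nf hg
      let p : {p // T.InW1 p} := ⟨T.pW ws, T.inW1_pW ws⟩
      have hd : (T.nW (word p))⁻¹ * T.nW ws ∈ T.T1 := by
        refine T.N1_mem_T1 (Subgroup.mul_mem _ (Subgroup.inv_mem _ (T.nW_mem_N1 _))
          (T.nW_mem_N1 _)) ?_
        have := isMon_mul T.hF (isMon_inv' T.hF (T.isMon_nW (word p))) (T.isMon_nW ws)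
        rwa [hword p, show (p : Equiv.Perm (Fin D.nroots)) = T.pW ws from rfl, inv_mul_cancel]
          at this
      obtain ⟨h, hh, e⟩ := T.nW_torus hd (word p)
      rw [mul_inv_cancel_left] at e
      refine ⟨⟨p, ⟨b * h, Subgroup.mul_mem _ hb (Subgroup.mem_sup_right hh)⟩, ⟨x, hx⟩⟩,
        Subtype.ext ?_⟩
      show b * h * T.nW (word p) * x = b * T.nW ws * x
      rw [e, mul_assoc b]
  haveI : Finite ↥T.G1 := inferInstance
  haveI : Finite (Σ p : {p // T.InW1 p}, ↥T.B1 × ↥(T.fm p.1)) := inferInstance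
  rw [← Nat.card_congr (Equiv.ofBijective f hf), Nat.card_sigma]
  simp only [Nat.card_prod, fun p : {p // T.InW1 p} => T.card_fm hq p.2]
  rw [← Finset.mul_sum, T.card_B1, T.card_U1 hq, poin1,
    Finset.sum_subtype (Finset.univ.filter fun p : Equiv.Perm (Fin D.nroots) => T.InW1 p)
      (p := fun p => T.InW1 p) (fun p => by simp)]

theorem core_trivial :
    ((D.borelSubgroup F ⊓ T.G1).subgroupOf T.G1).normalCore = ⊥ := by
  rw [eq_bot_iff]
  intro g hg
  set C := ((D.borelSubgroup F ⊓ T.G1).subgroupOf T.G1).normalCore with hC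
  have hCB : ∀ y ∈ C, (y : GL D.Idx F) ∈ T.B1 := fun y hy => by
    have := Subgroup.mem_subgroupOf.1 (Subgroup.normalCore_le _ hy)
    rwa [T.G1_inf_borel] at this
  obtain ⟨p, hp, hlong, -⟩ := T.exists_longest
  obtain ⟨ws, rfl⟩ := T.exists_pW hp
  set n := T.nW ws
  have hnG : n ∈ T.G1 := T.N1_le_G1 (T.nW_mem_N1 ws)
  have hH : ∀ y ∈ C, (y : GL D.Idx F) ∈ T.T1 := by
    intro y hy
    have h := hCB _ (Subgroup.Normal.conj_mem inferInstance y hy (⟨n, hnG⟩⁻¹))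
    simp only [inv_inv, Subgroup.coe_mul, Subgroup.coe_inv] at h
    obtain ⟨v, hv, t, ht, e⟩ := T.mem_B1.1 h
    obtain ⟨t', ht', e'⟩ := T.nW_torus ht ws
    have e2 : (y : GL D.Idx F) = n * v * n⁻¹ * t' := by
      rw [show n * v * n⁻¹ * t' = n * v * n⁻¹ * (t' * n) * n⁻¹ by group, ← e',
        show n * v * n⁻¹ * (n * t) * n⁻¹ = n * (v * t) * n⁻¹ by group, e]
      group
    have hvm : v ∈ uMinus T.hF (T.pW ws) := by
      have hv' := hv.1
      rw [posUnipotent_eq T.hF] at hv'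
      refine (Subgroup.closure_le _).2 ?_ hv'
      rintro x ⟨r, s, h1, h2, rfl⟩
      exact Subgroup.subset_closure ⟨⟨r, h2⟩, s, h1, (hlong _).2 h1, rfl⟩
    have hyH : (y : GL D.Idx F) ∈ D.diagonalSubgroup F := by
      rw [← borel_inf_negBorel T.hF]
      refine ⟨T.B1_le_borel (hCB y hy), ?_⟩
      rw [e2]
      exact Subgroup.mul_mem _ (Subgroup.mem_sup_left (conj_uMinus T.hF (T.isMon_nW ws) hvm))
        (Subgroup.mem_sup_right (T.T1_le_diagonal ht'))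
    exact T.G1_inf_diagonal.le ⟨hyH, y.2⟩
  obtain ⟨c, hc, hcg⟩ := hH g hg
  rw [Subgroup.mem_bot]
  apply Subtype.ext
  rw [Subgroup.coe_one, ← hcg]
  refine MonoidHom.mem_ker.1 ((mem_torusHom_ker T.hF c).2 (funext fun i => ?_))
  obtain ⟨a, j, -, rfl⟩ := T.cover i
  show chiU c (T.rt true a j) = 1
  have hchi : chiU c (T.rt true a 0) = 1 := by
    have hy1 := T.y_mem_U1 (T.par_one a)
    have h := hH _ (Subgroup.Normal.conj_mem inferInstance g hg
      ⟨T.y true a 1, T.y_mem_G1 (T.par_one a) true⟩)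
    simp only [Subgroup.coe_mul, Subgroup.coe_inv, ← hcg] at h
    have h2 : T.y true a 1 * torusHom c * (T.y true a 1)⁻¹ * (torusHom c)⁻¹ ∈
        D.posUnipotent F ⊓ D.diagonalSubgroup F := by
      refine ⟨?_, Subgroup.mul_mem _ (T.T1_le_diagonal h)
        (Subgroup.inv_mem _ (torusHom_mem T.hF c))⟩
      rw [show T.y true a 1 * torusHom c * (T.y true a 1)⁻¹ * (torusHom c)⁻¹ =
        T.y true a 1 * (torusHom c * (T.y true a 1)⁻¹ * (torusHom c)⁻¹) by group, T.y_inv,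
        T.torus_conj_y hc, T.y_mul]
      exact closure_uGens_le T.hF _ (T.y_mem_uMinus a _)
    rw [posUnipotent_inf_diagonal T.hF, Subgroup.mem_bot,
      show T.y true a 1 * torusHom c * (T.y true a 1)⁻¹ * (torusHom c)⁻¹ =
        T.y true a 1 * (torusHom c * (T.y true a 1)⁻¹ * (torusHom c)⁻¹) by group, T.y_inv,
        T.torus_conj_y hc, T.y_mul, ← T.y_zero true a] at h2
    have := T.y_injective h2
    apply Units.ext
    rw [Units.val_one]
    linear_combination -this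
  rw [T.chiU_rt hc true a j, hchi, map_one]

end Twist

end Cfsg.Agent.Chev
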