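import Cfsg.Agent.Chev.Twist.Simple
import Mathlib.FieldTheory.Finite.Basic
import Mathlib.Algebra.CharP.Frobenius

/-!
Counting in finite fields and elements of the derived group of a twisted group.
-/

set_option autoImplicit false
set_option maxHeartbeats 1000000

namespace Cfsg.Agent.Chev

open Cfsg.Lie
open scoped MatrixGroups commutatorElement

universe u

theorem exists_pow_hom (K : Type u) [Field K] [Fintype K] {q k : ℕ} (hq : IsPrimePow q)
    (hK : Fintype.card K = q ^ k) :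
    ∃ φ : K →+* K, (∀ t, φ t = t ^ q) ∧ (∀ t, (φ ^ k) t = t) ∧
      ∀ (j : ℕ) (t : K), (φ ^ j) t = t ^ q ^ j := by
  obtain ⟨p, n, hp, hn, rfl⟩ := hq
  rw [← Nat.prime_iff] at hp
  haveI := Fact.mk hp
  haveI : CharP K p := charP_of_card_eq_prime_pow (f := n * k) (by rw [hK, pow_mul])
  have hj : ∀ (j : ℕ) (t : K), (iterateFrobenius K p n ^ j) t = t ^ (p ^ n) ^ j := by
    intro j
    induction j with
    | zero => intro t; rw [pow_zero, pow_zero, pow_one]; rfl
    | succ j ih =>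
      intro t
      rw [pow_succ', RingHom.mul_def, RingHom.comp_apply, ih, iterateFrobenius_def, ← pow_mul,
        ← pow_succ]
  refine ⟨iterateFrobenius K p n, fun t => iterateFrobenius_def p n t, fun t => ?_, hj⟩
  rw [hj, ← hK, FiniteField.pow_card]

theorem card_units_fixed {K : Type u} [Field K] [Fintype K] {q k l : ℕ} (hq : 2 ≤ q)
    (hK : Fintype.card K = q ^ k) (hl : l ∣ k) :
    Nat.card {u : Kˣ // (u : K) ^ q ^ l = u} = q ^ l - 1 := by
  classical
  have hQ : 1 ≤ q ^ l := Nat.one_le_pow _ _ (by omega)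
  have e : Nat.card {u : Kˣ // (u : K) ^ q ^ l = u} =
      Nat.card ↥(powMonoidHom (q ^ l - 1) : Kˣ →* Kˣ).ker := by
    refine Nat.card_congr (Equiv.subtypeEquivRight fun u => ?_)
    rw [MonoidHom.mem_ker, powMonoidHom_apply, ← Units.val_pow_eq_pow_val, ← Units.ext_iff]
    conv_lhs => lhs; rw [show q ^ l = q ^ l - 1 + 1 by omega, pow_succ]
    exact mul_eq_right
  rw [e, IsCyclic.card_powMonoidHom_ker, Nat.card_eq_fintype_card, Fintype.card_units, hK]
  obtain ⟨d, rfl⟩ := hl
  rw [pow_mul]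
  exact Nat.gcd_eq_right (by simpa using Nat.sub_dvd_pow_sub_pow (q ^ l) 1 d)

theorem card_fixed {K : Type u} [Field K] [Fintype K] {q k l : ℕ} (hq : 2 ≤ q)
    (hK : Fintype.card K = q ^ k) (hl : l ∣ k) : Nat.card {t : K // t ^ q ^ l = t} = q ^ l := by
  classical
  have hQ : 1 ≤ q ^ l := Nat.one_le_pow _ _ (by omega)
  let f : Option {u : Kˣ // (u : K) ^ q ^ l = u} → {t : K // t ^ q ^ l = t} := fun o =>
    o.elim ⟨0, zero_pow (by omega)⟩ fun u => ⟨(u.1 : K), u.2⟩
  have hf : Function.Bijective f := by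
    constructor
    · rintro (_ | u) (_ | v) e
      · rfl
      · exact absurd (congrArg Subtype.val e).symm (Units.ne_zero v.1)
      · exact absurd (congrArg Subtype.val e) (Units.ne_zero u.1)
      · exact congrArg some (Subtype.ext (Units.ext (congrArg (fun z => z.val) e :)))
    · rintro ⟨t, ht⟩
      by_cases h : t = 0
      · exact ⟨none, Subtype.ext h.symm⟩
      · exact ⟨some ⟨Units.mk0 t h, ht⟩, rfl⟩
  rw [← Nat.card_congr (Equiv.ofBijective f hf), Finite.card_option, card_units_fixed hq hK hl]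
  omega

theorem exists_sq_ne_one {K : Type u} [Field K] [Fintype K] {S : Set Kˣ}
    (h : 2 < Nat.card ↥S) : ∃ u ∈ S, u ^ 2 ≠ 1 := by
  by_contra hc
  push Not at hc
  have hle : Nat.card ↥S ≤ Nat.card ↥(powMonoidHom 2 : Kˣ →* Kˣ).ker :=
    Nat.card_le_card_of_injective (fun u => ⟨u.1, hc u.1 u.2⟩)
      fun a b e => Subtype.ext (congrArg (fun z => z.val) e :)
  rw [IsCyclic.card_powMonoidHom_ker] at hle
  have := Nat.le_of_dvd two_pos (Nat.gcd_dvd_right (Nat.card Kˣ) 2)
  omega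

namespace Twist

variable {D : ChevalleyDatum} {F : Type u} [Field F] (T : Twist D F)

theorem card_cfix : Nat.card ↥T.cfix = ∏ a, Nat.card {u : Fˣ // T.Par a (u : F)} := by
  rw [← Nat.card_pi]
  refine Nat.card_congr (Equiv.ofBijective
    (fun c a => (⟨c.1 (T.base a), T.par_base c.2 a⟩ : {u : Fˣ // T.Par a (u : F)})) ⟨?_, ?_⟩)
  · rintro ⟨c, hc⟩ ⟨d, hd⟩ e
    apply Subtype.ext
    show c = d
    rw [T.eq_prod_hv hc, T.eq_prod_hv hd]
    exact Finset.prod_congr rfl fun a _ =>
      congrArg (T.hv a) (congrArg Subtype.val (congrFun e a) :)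
  · intro v
    refine ⟨⟨∏ a, T.hv a (v a).1, Subgroup.prod_mem _ fun a _ => T.hv_mem (v a).2⟩,
      funext fun a => Subtype.ext ?_⟩
    show (∏ b, T.hv b (v b).1) (T.base a) = _
    rw [Finset.prod_apply, Finset.prod_eq_single a]
    · rw [← T.node_zero, T.hv_node a _ (T.hO.len_pos a)]
      exact Units.ext rfl
    · intro b _ hb
      refine T.hv_other _ fun j hj e => hb ?_
      rw [← T.node_zero a] at e
      exact T.orbit_eq e
    · intro h; exact absurd (Finset.mem_univ _) h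

theorem card_T1_mul :
    Nat.card {c : ↥T.cfix // ∀ i : Fin D.rank, chiU (c : Fin D.rank → Fˣ) (D.simple i) = 1} *
      Nat.card ↥T.T1 = Nat.card ↥T.cfix := by
  let f : ↥T.cfix →* GL D.Idx F := (torusHom (D := D) (F := F)).comp T.cfix.subtype
  have hrange : f.range = T.T1 := by
    rw [MonoidHom.range_comp, Subgroup.range_subtype]; rfl
  have hker : Nat.card {c : ↥T.cfix // ∀ i : Fin D.rank, chiU (c : Fin D.rank → Fˣ) (D.simple i) = 1} =
      Nat.card ↥f.ker := by
    refine Nat.card_congr (Equiv.subtypeEquivRight fun c => ?_)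
    refine ⟨fun h => (mem_torusHom_ker T.hF (c : Fin D.rank → Fˣ)).2 (funext h), fun h => ?_⟩
    exact fun i => congrFun ((mem_torusHom_ker T.hF (c : Fin D.rank → Fˣ)).1 h) i
  rw [hker, ← hrange, ← Subgroup.index_ker, Subgroup.card_mul_index]

theorem chiU_hv (a : Fin T.m) (u : Fˣ) : chiU (T.hv a u) (T.rt true a 0) = u ^ 2 := by
  rw [chiU, Finset.prod_eq_single (T.node a 0)]
  · rw [T.hv_node a u (T.hO.len_pos a), show (T.rt true a 0 : ℕ) = D.simple (T.node a 0) from rfl,
      T.hF.cartan_self _ (T.node a 0).2]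
    exact Units.ext rfl
  · intro i _ hi
    by_cases h : ∃ j < T.len a, T.node a j = i
    · obtain ⟨j, -, rfl⟩ := h
      rw [show (T.rt true a 0 : ℕ) = D.simple (T.node a 0) from rfl, (T.orth_node hi).1, zpow_zero]
    · push Not at h
      rw [T.hv_other u h, one_zpow]
  · intro h; exact absurd (Finset.mem_univ _) h

theorem y_mem_comm_of_sq {a : Fin T.m} {u : Fˣ} (hu : T.Par a (u : F)) (h2 : u ^ 2 ≠ 1) {t : F}
    (ht : T.Par a t) : T.y true a t ∈ ⁅T.G1, T.G1⁆ :=
  T.y_mem_comm_of_torus (T.hv_mem hu) (by rw [T.chiU_hv]; exact h2) ht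

theorem y_single {a : Fin T.m} (h : T.len a = 1) (t : F) :
    T.y true a t = xG T.hF (D.simple (T.base a)) t := by
  simp [y, yv, h, rt, node_zero, sRoot]

/-- The fixed parameters of a root carried into `M`. -/
def XIn (M : Subgroup (GL D.Idx F)) (r : ℕ) : Prop := ∀ t, T.φ t = t → xG T.hF r t ∈ M

theorem xIn_single {a : Fin T.m} (h : T.len a = 1) : T.XIn T.G1 (D.simple (T.base a)) :=
  fun t ht => T.y_single h t ▸ T.y_mem_G1 (by rw [Par, h, pow_one]; exact ht) true

theorem xIn_conj {M : Subgroup (GL D.Idx F)} (hM : ∀ g ∈ T.G1, ∀ x ∈ M, g * x * g⁻¹ ∈ M)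
    (ws : List (Fin T.m)) {r : Fin D.nroots} (h : T.XIn M r) : T.XIn M (T.pW ws r : ℕ) := by
  intro t ht
  have key : ∀ w : List (Fin D.rank), ∃ e : F, (e = 1 ∨ e = -1) ∧
      ∀ v : F, nWord T.hF w * xG T.hF (r : ℕ) v * (nWord T.hF w)⁻¹ =
        xG T.hF (pWord T.hF w r : ℕ) (e * v) := by
    intro w
    induction w with
    | nil => exact ⟨1, Or.inl rfl, fun v => by simp [nWord, pWord]⟩
    | cons i w ih =>
      obtain ⟨e, he, h⟩ := ih
      set η : F := ((etaN T.hF i (pWord T.hF w r) : ℤ) : F) with hη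
      have hη' : η = 1 ∨ η = -1 := by
        rcases (etaN_spec T.hF i.2).1 _ (pWord T.hF w r).2 with e' | e' <;> simp [hη, e']
      refine ⟨η * e, ?_, fun v => ?_⟩
      · rcases hη' with a | a <;> rcases he with b | b <;> simp [a, b]
      · rw [nWord_cons, show ∀ g g' x : GL D.Idx F, g * g' * x * (g * g')⁻¹ = g * (g' * x * g'⁻¹) * g⁻¹
          from fun g g' x => by group, h, nS_conj_x T.hF i.2 (pWord T.hF w r).2, mul_inv_cancel_right,
          ← hη, mul_assoc η]
        rfl
  obtain ⟨e, he, hk⟩ := key (T.flat ws)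
  have hee : e * e = 1 := by rcases he with a | a <;> simp [a]
  have := hM _ (T.N1_le_G1 (T.nW_mem_N1 ws)) _ (h (e * t) (by
    rw [map_mul, ht]; rcases he with a | a <;> simp [a]))
  rw [nW, hk, ← mul_assoc, hee, one_mul] at this
  exact this

theorem xIn_commutator {r s u : ℕ} {c : ℤ} (hr : r < D.nroots) (hs : s < D.nroots) (hsr : s ≠ r)
    (hsn : s ≠ D.neg r) (hc : c = 1 ∨ c = -1) (hct : D.commTerms r s = [(u, c, 1, 1)])
    (h1 : T.XIn T.G1 r) (h2 : T.XIn T.G1 s) : T.XIn ⁅T.G1, T.G1⁆ u := by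
  intro t ht
  set e : F := (c : F) with he
  have hee : e * e = 1 := by rcases hc with a | a <;> simp [he, a]
  have hφe : T.φ e = e := map_intCast T.φ c
  have h := xG_comm T.hF hr hs hsr hsn (-(e * t)) (1 : F)
  have hw : wordG T.hF (D.commWord F r s (-(e * t)) 1) = xG T.hF u t := by
    rw [ChevalleyDatum.commWord, hct]
    simp only [List.map_cons, List.map_nil, wordG, List.prod_cons, List.prod_nil, mul_one, pow_one,
      neg_neg]
    rw [← he, ← mul_assoc, hee, one_mul]
  rw [hw] at h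
  have e2 : xG T.hF u t = ⁅(xG T.hF s (1 : F))⁻¹, (xG T.hF r (-(e * t)))⁻¹⁆ := by
    rw [commutatorElement_def, inv_inv, inv_inv,
      show (xG T.hF s (1 : F))⁻¹ * (xG T.hF r (-(e * t)))⁻¹ * xG T.hF s (1 : F) *
          xG T.hF r (-(e * t)) =
        (xG T.hF s (1 : F))⁻¹ * (xG T.hF r (-(e * t)))⁻¹ *
          (xG T.hF s (1 : F) * xG T.hF r (-(e * t))) by group, h]
    group
  rw [e2]
  exact Subgroup.commutator_mem_commutator (Subgroup.inv_mem _ (h2 1 (map_one _)))
    (Subgroup.inv_mem _ (h1 _ (by rw [map_neg, map_mul, hφe, ht])))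

end Twist

end Cfsg.Agent.Chev
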