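import Cfsg.Agent.Chev.Twist.FoldData
import Cfsg.Agent.Chev.Twist.Common
import Cfsg.Agent.Chev.GraphData
import Cfsg.Agent.Chev.WeylAll

/-!
The twisted groups of type ²E₆.
-/

set_option autoImplicit false
set_option maxRecDepth 100000
set_option maxHeartbeats 4000000

namespace Cfsg.Agent.Chev

open Cfsg.Lie
open scoped MatrixGroups commutatorElement

universe u

/-- Representatives of the orbits on the nodes. -/
def e6Base (a : Fin 4) : Fin chevE6.rank :=
  ⟨([0, 2, 3, 1] : List ℕ).getD a 0, (by decide +kernel :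
    ∀ b : Fin 4, ([0, 2, 3, 1] : List ℕ).getD b 0 < chevE6.rank) a⟩

/-- Lengths of the orbits. -/
def e6Len (a : Fin 4) : ℕ := ([2, 2, 1, 1] : List ℕ).getD a 0

theorem e6_orbits : OrbitFacts chevE6 e6_flip_π 2 e6Base e6Len where
  len_pos := by decide +kernel
  len_dvd := by decide +kernel
  period := by decide +kernel
  inj := by decide +kernel
  cover := by decide +kernel
  orth := by decide +kernel

/-- The twist giving ²E₆. -/
def twistE6 (K : Type u) [Field K] (φ : K →+* K) (hφ : ∀ t, (φ ^ 2) t = t) : Twist chevE6 K where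
  hF := facts_chevE6
  π := e6_flip_π
  ρ := e6_flip_ρ
  ε := fun r => e6_flip_E.getD r 0
  hG := e6_flip_facts
  k := 2
  m := 4
  base := e6Base
  len := e6Len
  hO := e6_orbits
  φ := φ
  hφ := hφ

/-- The image roots in type F₄. -/
def e6FoldP : List ℕ := [0, 1, 2, 3, 7, 3, 4, 8, 5, 9, 11, 6, 10, 12, 13, 14, 7, 8, 15, 9, 16, 18, 11, 18, 21, 23, 10, 17, 19, 20, 12, 19, 22, 13, 20, 14, 33, 27, 34, 25, 28, 35, 27, 28, 30, 37, 24, 26, 29, 36, 29, 31, 38, 32, 39, 40, 33, 34, 35, 37, 41, 36, 38, 42, 39, 43, 44, 40, 44, 45, 46, 47]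

/-- The sizes of the fibres. -/
def e6FoldW : List ℕ := [1, 1, 1, 2, 1, 1, 1, 2, 2, 2, 2, 2, 2, 2, 2, 1, 1, 1, 2, 2, 2, 1, 1, 1, 1, 1, 1, 2, 2, 2, 1, 1, 1, 2, 2, 2, 2, 2, 2, 2, 2, 1, 1, 1, 2, 1, 1, 1]

theorem e6Fold_lt : ∀ r : Fin chevE6.nroots, e6FoldP.getD r 0 < chevF4.nroots := by decide +kernel

theorem e6Fold_surj : ∀ s : Fin chevF4.nroots, ∃ r : Fin chevE6.nroots, e6FoldP.getD r 0 = s := by
  decide +kernel

theorem e6Fold_pos : ∀ r : Fin chevE6.nroots,
    half chevE6 ≤ (r : ℕ) ↔ half chevF4 ≤ e6FoldP.getD r 0 := by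
  decide +kernel

theorem e6Fold_fib : ∀ s : Fin chevF4.nroots,
    ((List.finRange chevE6.nroots).filter fun r : Fin chevE6.nroots =>
      e6FoldP.getD r 0 == (s : ℕ)).length = e6FoldW.getD s 0 := by
  decide +kernel

theorem e6Fold_inter : ∀ (a : Fin 4) (r : Fin chevE6.nroots),
    e6FoldP.getD ((orbNats e6_flip_π e6Base e6Len a).foldr (fun i s => chevE6.reflectRoot i s) r) 0 =
      chevF4.reflectRoot a (e6FoldP.getD r 0) := by
  decide +kernel

theorem e6_words₁ : ∀ (s : Bool) (a : Fin 4), e6Len a = 1 →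
    rtNat chevE6 e6_flip_π e6Base s a 0 ∈ [e6p2, e6m2, e6p4, e6m4] := by
  decide +kernel

theorem e6_words₂ : ∀ (s : Bool) (a : Fin 4), e6Len a = 2 →
    (rtNat chevE6 e6_flip_π e6Base s a 0, rtNat chevE6 e6_flip_π e6Base s a 1) ∈
      [(e6p1, e6p6), (e6m1, e6m6), (e6p3, e6p5), (e6m3, e6m5)] := by
  decide +kernel

theorem e6_words₁' : ∀ r ∈ [e6p2, e6m2, e6p4, e6m4], ∃ (s : Bool) (a : Fin 4),
    e6Len a = 1 ∧ r = rtNat chevE6 e6_flip_π e6Base s a 0 := by
  decide +kernel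

theorem e6_words₂' : ∀ rs ∈ [(e6p1, e6p6), (e6m1, e6m6), (e6p3, e6p5), (e6m3, e6m5)],
    ∃ (s : Bool) (a : Fin 4), e6Len a = 2 ∧
      rs = (rtNat chevE6 e6_flip_π e6Base s a 0, rtNat chevE6 e6_flip_π e6Base s a 1) := by
  decide +kernel

theorem e6Fold_id : chkEq (pmul (pprod ((wDegs f4Rows e6FoldW f4Levels).map psum))
    (pprod [[-1, 1], [-1, 1], [-1, 1], [-1, 1], [1, 1], [1, 1]]))
    (pprod [padd (pmon 2) [-1], padd (pmon 5) [1], padd (pmon 6) [-1], padd (pmon 8) [-1],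
      padd (pmon 9) [1], padd (pmon 12) [-1]]) = true := by
  decide +kernel

variable {K : Type u} [Field K] (φ : K →+* K) (hφ : ∀ t, (φ ^ 2) t = t)

/-- The folding onto F₄. -/
def e6Fold : (twistE6 K φ hφ).Fold chevF4 facts_chevF4 :=
  (twistE6 K φ hφ).foldOf chevF4 facts_chevF4 e6FoldP e6FoldW (fun a => a) e6Fold_lt e6Fold_surj
    Function.surjective_id e6Fold_pos e6Fold_fib e6Fold_inter

theorem e6_G1_eq {q : ℕ} (hq : ∀ t, φ t = t ^ q) :
    (twistE6 K φ hφ).G1 = twistedE6 K q := by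
  set T := twistE6 K φ hφ with hT
  have key : ∀ (w : List (ℕ × K)) (g : GL chevE6.Idx K),
      ((g : Matrix chevE6.Idx chevE6.Idx K) = chevE6.wordMat K w) ↔ g = wordG T.hF w :=
    fun w g => ⟨fun e => Units.ext (e.trans (wordG_val T.hF w).symm),
      fun e => e ▸ wordG_val T.hF w⟩
  have n1 : ∀ (s : Bool) (a : Fin 4), e6Len a = 1 → ∀ t, T.y s a t =
      wordG T.hF [(rtNat chevE6 e6_flip_π e6Base s a 0, t)] := by
    intro s a h t
    show ((List.range (e6Len a)).map _).prod = _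
    rw [h]
    cases s <;> rfl
  have n2 : ∀ (s : Bool) (a : Fin 4), e6Len a = 2 → ∀ t, T.y s a t =
      wordG T.hF [(rtNat chevE6 e6_flip_π e6Base s a 0, t), (rtNat chevE6 e6_flip_π e6Base s a 1, t ^ q)] := by
    intro s a h t
    show ((List.range (e6Len a)).map _).prod = _
    rw [h, ← hq t]
    cases s <;> simp [List.range_succ, wordG, T, twistE6, rtNat, Twist.rt, Twist.node, sRoot, negF]
  refine le_antisymm ((Subgroup.closure_le _).2 ?_) ((Subgroup.closure_le _).2 ?_)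
  · rintro g ⟨s, a, t, ht, rfl⟩
    refine Subgroup.subset_closure ?_
    change Fin 4 at a
    have h12 : e6Len a = 1 ∨ e6Len a = 2 :=
      (by decide +kernel : ∀ b : Fin 4, e6Len b = 1 ∨ e6Len b = 2) a
    rcases h12 with h | h
    · refine ⟨_, Or.inl ⟨t, ?_, rtNat chevE6 e6_flip_π e6Base s a 0, ?_, rfl⟩, (key _ _).2 (n1 s a h t)⟩
      · rw [← hq]
        change (φ ^ e6Len a) t = t at ht
        rwa [h, pow_one] at ht
      · exact e6_words₁ s a h
    · refine ⟨_, Or.inr ⟨t, (rtNat chevE6 e6_flip_π e6Base s a 0, rtNat chevE6 e6_flip_π e6Base s a 1), ?_, rfl⟩,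
        (key _ _).2 (n2 s a h t)⟩
      exact e6_words₂ s a h
  · rintro g ⟨w, hw, e⟩
    rw [key] at e
    subst e
    rcases hw with ⟨t, ht, r, hr, rfl⟩ | ⟨t, rs, hrs, rfl⟩
    · obtain ⟨s, a, h, rfl⟩ := e6_words₁' r hr
      have e := n1 s a h t
      refine e ▸ T.y_mem_G1 ?_ s
      show (φ ^ e6Len a) t = t
      rw [h, pow_one, hq, ht]
    · obtain ⟨s, a, h, rfl⟩ := e6_words₂' rs hrs
      have e := n2 s a h t
      refine e ▸ T.y_mem_G1 ?_ s
      show (φ ^ e6Len a) t = t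
      rw [h, hφ]

end Cfsg.Agent.Chev
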