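import Cfsg.Agent.Chev.Twist.E6

/-!
Orders, perfectness and simplicity of ²E₆.
-/

set_option autoImplicit false
set_option maxRecDepth 100000
set_option maxHeartbeats 4000000

namespace Cfsg.Agent.Chev

open Cfsg.Lie
open scoped MatrixGroups commutatorElement

universe u

theorem e6_cartan_table : ∀ i j : Fin chevE6.rank, chevE6.cartan j (chevE6.simple i) =
    ((([[2, 0, -1, 0, 0, 0], [0, 2, 0, -1, 0, 0], [-1, 0, 2, -1, 0, 0], [0, -1, -1, 2, -1, 0],
      [0, 0, 0, -1, 2, -1], [0, 0, 0, 0, -1, 2]] : List (List ℤ)).getD i []).getD j 0) := by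
  decide +kernel

theorem e6_flip_symm_five : e6_flip_π.symm (5 : Fin 6) = (0 : Fin 6) :=
  e6_flip_π.symm_apply_eq.2 (Fin.ext (by decide +kernel))

theorem e6_conj47 :
    (orbNats e6_flip_π e6Base e6Len 3).foldr (fun i s => chevE6.reflectRoot i s) 47 =
      chevE6.simple (e6Base 2) ∧
    (orbNats e6_flip_π e6Base e6Len 2).foldr (fun i s => chevE6.reflectRoot i s) 47 =
      chevE6.simple (e6Base 3) := by decide +kernel

/-- A parameter at a node, with the nodes numbered by `Fin 6`. -/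
abbrev e6at {K : Type u} [Field K] (c : Fin chevE6.rank → Kˣ) (i : Fin 6) : Kˣ := c i

theorem zpow_two_inv {A : Type u} [CommGroup A] (a : A) :
    a ^ (2 : ℤ) = a ^ 2 ∧ a ^ (-1 : ℤ) = a⁻¹ := ⟨zpow_natCast a 2, zpow_neg_one a⟩

variable {K : Type u} [Field K]

theorem e6_center_eqs (c : Fin 6 → Kˣ)
    (h : ∀ i : Fin chevE6.rank, chiU (D := chevE6) c (chevE6.simple i) = 1) :
    c 0 ^ 2 = c 2 ∧ c 1 ^ 2 = c 3 ∧ c 2 ^ 2 = c 0 * c 3 ∧ c 3 ^ 2 = c 1 * c 2 * c 4 ∧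
      c 4 ^ 2 = c 3 * c 5 ∧ c 5 ^ 2 = c 4 := by
  have e : ∀ i : Fin 6, ∏ j : Fin 6, c j ^
      ((([[2, 0, -1, 0, 0, 0], [0, 2, 0, -1, 0, 0], [-1, 0, 2, -1, 0, 0], [0, -1, -1, 2, -1, 0],
        [0, 0, 0, -1, 2, -1], [0, 0, 0, 0, -1, 2]] : List (List ℤ)).getD i []).getD j 0) = 1 := by
    intro i
    refine Eq.trans (Finset.prod_congr rfl fun j _ => ?_) (h i)
    exact congrArg (c j ^ ·) (e6_cartan_table i j).symm
  have e0 := e 0; have e1 := e 1; have e2 := e 2; have e3 := e 3; have e4 := e 4; have e5 := e 5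
  simp only [Fin.prod_univ_six, List.getD_eq_getElem?_getD, Fin.val_zero, Fin.val_one,
    Fin.val_two, show ((3 : Fin 6) : ℕ) = 3 from rfl, show ((4 : Fin 6) : ℕ) = 4 from rfl,
    show ((5 : Fin 6) : ℕ) = 5 from rfl, List.getElem?_cons_zero, List.getElem?_cons_succ,
    Option.getD_some, (zpow_two_inv _).1, (zpow_two_inv _).2, zpow_zero, mul_one, one_mul]
    at e0 e1 e2 e3 e4 e5
  refine ⟨?_, ?_, ?_, ?_, ?_, ?_⟩
  · exact mul_inv_eq_one.1 e0
  · exact mul_inv_eq_one.1 e1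
  · rw [mul_comm (c 0)⁻¹, mul_assoc, ← mul_inv, mul_inv_eq_one] at e2; exact e2
  · rw [mul_comm ((c 1)⁻¹ * (c 2)⁻¹), mul_assoc, ← mul_inv, ← mul_inv, mul_inv_eq_one] at e3
    exact e3
  · rw [mul_comm (c 3)⁻¹, mul_assoc, ← mul_inv, mul_inv_eq_one] at e4; exact e4
  · rw [inv_mul_eq_one] at e5; exact e5.symm

theorem e6_center_shape {c : Fin 6 → Kˣ}
    (h : ∀ i : Fin chevE6.rank, chiU (D := chevE6) c (chevE6.simple i) = 1) :
    c 3 = c 0 ^ 3 ∧ c 2 = c 0 ^ 2 ∧ c 4 = c 5 ^ 2 ∧ c 5 ^ 3 = c 0 ^ 3 ∧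
      (c 5 = c 0 ^ 2 → c 1 = 1 ∧ c 0 ^ 3 = 1) ∧ c 5 = c 0 ^ 2 := by
  obtain ⟨h0, h1, h2, h3, h4, h5⟩ := e6_center_eqs c h
  have a3 : c 3 = c 0 ^ 3 := by
    rw [← h0, ← pow_mul, pow_succ'] at h2
    exact (mul_left_cancel h2).symm
  have b3 : c 3 = c 5 ^ 3 := by
    rw [← h5, ← pow_mul, pow_succ] at h4
    exact (mul_right_cancel h4).symm
  have a53 : c 5 ^ 3 = c 0 ^ 3 := b3.symm.trans a3
  -- the relation at the branch node
  have e1 : c 1 * (c 0 ^ 2 * c 5 ^ 2) = c 0 ^ 6 := by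
    rw [h0, h5, ← mul_assoc, ← h3, a3, ← pow_mul]
  have e2 : c 1 ^ 2 * (c 0 ^ 2 * c 5 ^ 2) ^ 2 = c 0 ^ 12 := by
    rw [← mul_pow, e1, ← pow_mul]
  rw [h1, a3, mul_pow, ← pow_mul, ← pow_mul, ← mul_assoc, ← pow_add] at e2
  norm_num at e2
  have e3 : c 5 ^ 4 = c 0 ^ 5 := mul_left_cancel
    (a := c 0 ^ 7) (e2.trans (by rw [← pow_add]))
  have e4 : c 5 = c 0 ^ 2 := by
    rw [pow_succ, a53, pow_add (c 0) 3 2] at e3
    exact mul_left_cancel e3
  refine ⟨a3, h0.symm, h5.symm, a53, fun _ => ?_, e4⟩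
  have hc3 : c 0 ^ 3 = 1 := by
    rw [e4, ← pow_mul, pow_add (c 0) 3 3] at a53
    exact mul_left_cancel (a53.trans (mul_one _).symm)
  refine ⟨?_, hc3⟩
  rw [e4, ← pow_mul, ← pow_add] at e1
  rw [show c 0 ^ (2 + 2 * 2) = c 0 ^ 6 from rfl] at e1
  exact mul_eq_right.1 e1

variable (φ : K →+* K) (hφ : ∀ t, (φ ^ 2) t = t) {q : ℕ} (hqφ : ∀ (j : ℕ) (t : K), (φ ^ j) t = t ^ q ^ j)
include hqφ

theorem e6_hq : ∀ t, φ t = t ^ q := fun t => by
  have := hqφ 1 t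
  rwa [pow_one, pow_one] at this

variable [Fintype K] (hq2 : 2 ≤ q) (hK : Fintype.card K = q ^ 2)
include hq2 hK

theorem e6_card_par (a : Fin 4) :
    Nat.card {t : K // (twistE6 K φ hφ).Par a t} = q ^ e6Len a := by
  have : Nat.card {t : K // t ^ q ^ e6Len a = t} = q ^ e6Len a :=
    card_fixed hq2 hK ((e6_orbits).len_dvd a)
  rw [← this]
  refine Nat.card_congr (Equiv.subtypeEquivRight fun t => ?_)
  show (φ ^ e6Len a) t = t ↔ _
  rw [hqφ]

theorem e6_card_par_units (a : Fin 4) :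
    Nat.card {u : Kˣ // (twistE6 K φ hφ).Par a (u : K)} = q ^ e6Len a - 1 := by
  have : Nat.card {u : Kˣ // (u : K) ^ q ^ e6Len a = u} = q ^ e6Len a - 1 :=
    card_units_fixed hq2 hK ((e6_orbits).len_dvd a)
  rw [← this]
  refine Nat.card_congr (Equiv.subtypeEquivRight fun t => ?_)
  show (φ ^ e6Len a) (t : K) = (t : K) ↔ _
  rw [hqφ]

theorem e6_card_ker :
    Nat.card {c : ↥(twistE6 K φ hφ).cfix //
      ∀ i : Fin chevE6.rank, chiU (c : Fin chevE6.rank → Kˣ) (chevE6.simple i) = 1} =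
      Nat.gcd 3 (q + 1) := by
  classical
  set T := twistE6 K φ hφ with hT
  have hqu : ∀ u : Kˣ, Units.map φ.toMonoidHom u = u ^ q := fun u =>
    Units.ext (by rw [Units.coe_map, Units.val_pow_eq_pow_val]; exact e6_hq φ hqφ (u : K))
  set g := Nat.gcd 3 (q + 1)
  have hfix : ∀ c ∈ T.cfix, ∀ i : Fin 6, (c : Fin 6 → Kˣ) i = c (e6_flip_π.symm i) ^ q := by
    intro c hc i
    rw [← hqu]
    exact (congrFun (T.mem_cfix.1 hc) i).symm
  have hsymm := e6_flip_symm_five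
  have key : ∀ c : {c : ↥T.cfix //
      ∀ i : Fin chevE6.rank, chiU (c : Fin chevE6.rank → Kˣ) (chevE6.simple i) = 1},
      e6at (c.1 : Fin chevE6.rank → Kˣ) 0 ^ g = 1 := by
    rintro ⟨⟨c, hc⟩, h⟩
    change Fin 6 → Kˣ at c
    obtain ⟨-, -, -, -, h01, e5⟩ := e6_center_shape (c := c) h
    show c 0 ^ g = 1
    obtain ⟨-, h3⟩ := h01 e5
    have h5 : c 5 = c 0 ^ q := by rw [← hsymm]; exact hfix c hc 5
    rw [e5] at h5
    have hq1 : c 0 ^ (q + 1) = 1 := by rw [pow_succ, ← h5, ← pow_succ]; exact h3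
    exact pow_gcd_eq_one.2 ⟨h3, hq1⟩
  have hcard : Nat.card ↥(powMonoidHom g : Kˣ →* Kˣ).ker = g := by
    rw [IsCyclic.card_powMonoidHom_ker, Nat.card_eq_fintype_card, Fintype.card_units, hK]
    refine Nat.gcd_eq_right ((Nat.gcd_dvd_right 3 (q + 1)).trans ?_)
    exact ⟨q - 1, by
      have := Nat.sq_sub_sq q 1
      simpa using this⟩
  rw [← hcard]
  refine Nat.card_congr (Equiv.ofBijective (fun c => ⟨_, MonoidHom.mem_ker.2 (key c)⟩) ⟨?_, ?_⟩)
  · rintro ⟨⟨c, hc⟩, h⟩ ⟨⟨d, hd⟩, h'⟩ e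
    change Fin 6 → Kˣ at c
    change Fin 6 → Kˣ at d
    have e0 : c 0 = d 0 := congrArg (fun z => z.val) e
    obtain ⟨a3, a2, a4, -, a1, a5⟩ := e6_center_shape (c := c) h
    obtain ⟨b3, b2, b4, -, b1, b5⟩ := e6_center_shape (c := d) h'
    refine Subtype.ext (Subtype.ext ?_)
    show c = d
    funext i
    fin_cases i
    · exact e0
    · exact (a1 a5).1.trans (b1 b5).1.symm
    · exact a2.trans ((congrArg (· ^ 2) e0).trans b2.symm)
    · exact a3.trans ((congrArg (· ^ 3) e0).trans b3.symm)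
    · exact a4.trans ((congrArg (· ^ 2) (a5.trans ((congrArg (· ^ 2) e0).trans b5.symm))).trans b4.symm)
    · exact a5.trans ((congrArg (· ^ 2) e0).trans b5.symm)
  · rintro ⟨a, ha⟩
    rw [MonoidHom.mem_ker, powMonoidHom_apply, pow_gcd_eq_one] at ha
    obtain ⟨h3, hq1⟩ := ha
    have hqa : a ^ q = a ^ 2 := by
      rw [pow_succ, mul_eq_one_iff_eq_inv] at hq1
      rw [hq1]
      rw [pow_succ, mul_eq_one_iff_eq_inv] at h3
      exact h3.symm
    have h6 : (a ^ 2) ^ q = a := by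
      rw [← pow_mul, mul_comm, pow_mul, hqa, ← pow_mul,
        show 2 * 2 = 3 + 1 from rfl, pow_succ, h3, one_mul]
    let c : Fin 6 → Kˣ := ![a, 1, a ^ 2, 1, a, a ^ 2]
    have hc : (c : Fin chevE6.rank → Kˣ) ∈ T.cfix := by
      refine T.mem_cfix.2 ?_
      funext i
      show Units.map φ.toMonoidHom (c (e6_flip_π.symm i)) = c i
      rw [hqu]
      change Fin 6 at i
      fin_cases i
      · exact h6
      · exact one_pow q
      · exact hqa
      · exact one_pow q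
      · exact h6
      · exact hqa
    refine ⟨⟨⟨c, hc⟩, fun i => ?_⟩, Subtype.ext rfl⟩
    show ∏ j : Fin 6, c j ^ chevE6.cartan j (chevE6.simple i) = 1
    rw [Finset.prod_congr rfl fun (j : Fin 6) _ => congrArg (c j ^ ·) (e6_cartan_table i j)]
    have h4 : (a ^ 2) ^ 2 = a := by rw [← pow_mul, show 2 * 2 = 3 + 1 from rfl, pow_succ, h3, one_mul]
    change Fin 6 at i
    fin_cases i <;>
      simp [Fin.prod_univ_six, c, (zpow_two_inv _).1, h4, mul_inv_eq_one, ← pow_two] <;>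
      first | (rw [inv_eq_iff_mul_eq_one, ← pow_succ]; exact h3) | (rw [← mul_inv, ← pow_two, inv_eq_iff_mul_eq_one, ← pow_succ]; exact h3)

theorem e6_card_T1 :
    Nat.gcd 3 (q + 1) * Nat.card ↥(twistE6 K φ hφ).T1 = (q - 1) ^ 4 * (q + 1) ^ 2 := by
  rw [← e6_card_ker φ hφ hqφ hq2 hK, Twist.card_T1_mul, Twist.card_cfix]
  show ∏ a : Fin 4, Nat.card {u : Kˣ // (twistE6 K φ hφ).Par a (u : K)} = _
  rw [Fin.prod_univ_four, e6_card_par_units φ hφ hqφ hq2 hK, e6_card_par_units φ hφ hqφ hq2 hK,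
    e6_card_par_units φ hφ hqφ hq2 hK, e6_card_par_units φ hφ hqφ hq2 hK]
  show (q ^ 2 - 1) * (q ^ 2 - 1) * (q ^ 1 - 1) * (q ^ 1 - 1) = _
  have h : q ^ 2 - 1 = (q + 1) * (q - 1) := by simpa using Nat.sq_sub_sq q 1
  rw [h, pow_one]
  ring

theorem e6_card_G1 :
    Nat.gcd 3 (q + 1) * Nat.card ↥(twistE6 K φ hφ).G1 =
      q ^ 36 * (q ^ 2 - 1) * (q ^ 5 + 1) * (q ^ 6 - 1) * (q ^ 8 - 1) * (q ^ 9 + 1) * (q ^ 12 - 1) := by
  have := (e6Fold φ hφ).card_G1 (q := q) (fun a => e6_card_par φ hφ hqφ hq2 hK a)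
    f4_checks f4_rows f4_chain f4_all e6Fold_id
  rw [show half chevE6 = 36 by decide +kernel] at this
  have hT := congrArg (fun n : ℕ => (n : ℤ)) (e6_card_T1 φ hφ hqφ hq2 hK)
  push_cast [Nat.cast_sub (show 1 ≤ q by omega)] at hT
  simp only [pprod, List.foldr, peval_pmul, peval_padd, peval_pmon, peval] at this
  have hne : ((q : ℤ) - 1) ^ 4 * ((q : ℤ) + 1) ^ 2 ≠ 0 := by
    have h2 : (2 : ℤ) ≤ (q : ℤ) := by exact_mod_cast hq2
    exact mul_ne_zero (pow_ne_zero _ (by omega)) (pow_ne_zero _ (by omega))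
  have hge : ∀ k, 1 ≤ q ^ k := fun k => Nat.one_le_pow _ _ (by omega)
  apply Nat.cast_injective (R := ℤ)
  push_cast [Nat.cast_sub (hge 2), Nat.cast_sub (hge 6), Nat.cast_sub (hge 8),
    Nat.cast_sub (hge 12)] at this ⊢
  refine mul_right_cancel₀ hne ?_
  linear_combination (Nat.gcd 3 (q + 1) : ℤ) * this +
    ((q : ℤ) ^ 36 * (((q : ℤ) ^ 2 - 1) * ((q : ℤ) ^ 5 + 1) * ((q : ℤ) ^ 6 - 1) * ((q : ℤ) ^ 8 - 1) *
      ((q : ℤ) ^ 9 + 1) * ((q : ℤ) ^ 12 - 1))) * hT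

theorem e6_perfect : commutator ↥(twistE6 K φ hφ).G1 = ⊤ := by
  set T := twistE6 K φ hφ with hT
  refine T.commutator_eq_top ?_
  intro a t ht
  change Fin 4 at a
  have h1 : T.XIn T.G1 (chevE6.simple 1) := T.xIn_single (a := (3 : Fin 4)) rfl
  have h3 : T.XIn T.G1 (chevE6.simple 3) := T.xIn_single (a := (2 : Fin 4)) rfl
  have h47 : T.XIn ⁅T.G1, T.G1⁆ 47 := by
    obtain ⟨c, hc, hct⟩ : ∃ c ∈ ([1, -1] : List ℤ),
        chevE6.commTerms (chevE6.simple 1) (chevE6.simple 3) = [(47, c, 1, 1)] := by decide +kernel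
    exact T.xIn_commutator (by decide +kernel) (by decide +kernel) (by decide +kernel)
      (by decide +kernel) (by simpa using hc) hct h1 h3
  have hconj := fun g hg x hx => T.conj_mem_comm (x := x) (g := g) hg hx
  by_cases hl : e6Len a = 2
  · have hS : 2 < Nat.card ↥{u : Kˣ | T.Par a (u : K)} := by
      have h := e6_card_par_units φ hφ hqφ hq2 hK a
      rw [hl] at h
      refine lt_of_lt_of_eq ?_ h.symm
      have : 2 * 2 ≤ q ^ 2 := by rw [pow_two]; exact Nat.mul_le_mul hq2 hq2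
      omega
    obtain ⟨u, hu, hu2⟩ := exists_sq_ne_one hS
    exact T.y_mem_comm_of_sq hu hu2 ht
  · have key : T.XIn ⁅T.G1, T.G1⁆ (chevE6.simple (e6Base a)) := by
      have h' : a = 2 ∨ a = 3 := by
        revert hl
        exact (by decide +kernel : ∀ b : Fin 4, ¬ e6Len b = 2 → b = 2 ∨ b = 3) a
      rcases h' with rfl | rfl
      · have := T.xIn_conj hconj [(3 : Fin 4)] (r := ⟨47, by decide +kernel⟩) h47
        have e := (T.pW_single_val (3 : Fin 4) ⟨47, by decide +kernel⟩).trans e6_conj47.1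
        exact e ▸ this
      · have := T.xIn_conj hconj [(2 : Fin 4)] (r := ⟨47, by decide +kernel⟩) h47
        have e := (T.pW_single_val (2 : Fin 4) ⟨47, by decide +kernel⟩).trans e6_conj47.2
        exact e ▸ this
    have hlen : e6Len a = 1 :=
      (by decide +kernel : ∀ b : Fin 4, ¬ e6Len b = 2 → e6Len b = 1) a hl
    rw [T.y_single (a := a) hlen]
    refine key t ?_
    change (φ ^ e6Len a) t = t at ht
    rwa [hlen, pow_one] at ht

theorem e6_twist_simple : IsSimpleGroup ↥(twistE6 K φ hφ).G1 ∧ ¬ IsMulCommutative ↥(twistE6 K φ hφ).G1 := by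
  set T := twistE6 K φ hφ with hT
  refine T.isSimpleGroup (e6_perfect φ hφ hqφ hq2 hK) fun f hf => ?_
  have h : ∀ a b : Fin 4, 3 ≤ CoxeterMatrix.F₄ a b → f a = f b := fun a b h3 =>
    hf a b ((e6Fold φ hφ).wA_ne T a b (by
      show 3 ≤ orderOf (wPerm facts_chevF4 a * wPerm facts_chevF4 b)
      exact le_of_le_of_eq h3 (f4_orderOf a b).symm))
  have h01 := h 0 1 (by decide +kernel)
  have h12 := h 1 2 (by decide +kernel)
  have h23 := h 2 3 (by decide +kernel)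
  have key : ∀ a : Fin 4, f a = f (0 : Fin 4) := by
    intro a
    fin_cases a
    · rfl
    · exact h01.symm
    · exact h12.symm.trans h01.symm
    · exact h23.symm.trans (h12.symm.trans h01.symm)
  exact fun a b => (key a).trans (key b).symm

end Cfsg.Agent.Chev
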