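import Cfsg.Agent.Chev.Twist.Orbit

/-!
The Weyl group elements commuting with the symmetry, and the fixed parts of the factors of `U`.
-/

set_option autoImplicit false
set_option maxHeartbeats 1000000

namespace Cfsg.Agent.Chev

open Cfsg.Lie
open scoped MatrixGroups

universe u

section

variable {D : ChevalleyDatum} {F : Type u} [Field F] (hF : Facts.{u} D)
include hF

theorem split_unique {n : GL D.Idx F} {p : Equiv.Perm (Fin D.nroots)} (hn : IsMon hF n p)
    {a a' b b' : GL D.Idx F} (ha : a ∈ uPlus hF p) (ha' : a' ∈ uPlus hF p) (hb : b ∈ uMinus hF p)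
    (hb' : b' ∈ uMinus hF p) (e : a * b = a' * b') : a = a' ∧ b = b' := by
  have h1 : a'⁻¹ * a = b' * b⁻¹ := by
    rw [eq_mul_inv_iff_mul_eq, mul_assoc, e, inv_mul_cancel_left]
  have h2 := uPlus_inf_uMinus hF hn (Subgroup.mul_mem _ (Subgroup.inv_mem _ ha') ha)
    (h1 ▸ Subgroup.mul_mem _ hb' (Subgroup.inv_mem _ hb))
  rw [inv_mul_eq_one] at h2
  subst h2
  exact ⟨rfl, mul_left_cancel e⟩

theorem mem_uMinus_of_conj {n g : GL D.Idx F} {p : Equiv.Perm (Fin D.nroots)} (hn : IsMon hF n p)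
    (hg : g ∈ D.posUnipotent F) (h : n * g * n⁻¹ ∈ D.negUnipotent F) : g ∈ uMinus hF p := by
  obtain ⟨a, ha, b, hb, rfl⟩ := posUnipotent_split hF p hg
  have h1 : n * a * n⁻¹ ∈ D.negUnipotent F := by
    have := Subgroup.mul_mem _ h (Subgroup.inv_mem _ (conj_uMinus hF hn hb))
    simpa [mul_assoc] using this
  have := borel_inf_upper hF (Subgroup.mem_sup_left (conj_uPlus hF hn ha))
    (negUnipotent_le_upperGroup hF h1)
  rw [conj_eq_one_iff] at this
  rwa [this, one_mul]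

omit hF in
theorem mem_invSet {π : Equiv.Perm (Fin D.nroots)} {r : Fin D.nroots} :
    r ∈ invSet π ↔ half D ≤ (r : ℕ) ∧ (π r : ℕ) < half D := by
  simp [invSet]

theorem torus_conj_uGens (c : Fin D.rank → Fˣ) {P : Fin D.nroots → Prop} {g : GL D.Idx F}
    (hg : g ∈ Subgroup.closure (uGens hF P)) :
    torusHom c * g * (torusHom c)⁻¹ ∈ Subgroup.closure (uGens hF P) :=
  conj_uGens_le hF (isMon_torus hF c) (fun r h1 h2 t =>
    Subgroup.subset_closure (⟨r, t, h1, h2, rfl⟩ : xG hF r t ∈ uGens hF P)) hg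

end

namespace Twist

variable {D : ChevalleyDatum} {F : Type u} [Field F] (T : Twist D F)

/-- Being a fundamental root of an orbit. -/
def Simp (a : Fin T.m) (r : Fin D.nroots) : Prop := ∃ j < T.len a, r = sRoot T.hF (T.node a j)

theorem simp_node (a : Fin T.m) (j : ℕ) : T.Simp a (sRoot T.hF (T.node a j)) :=
  ⟨j % T.len a, Nat.mod_lt _ (T.hO.len_pos a), by rw [← T.node_mod]⟩

theorem wPerm_node {a : Fin T.m} {i j : ℕ} (h : T.node a i ≠ T.node a j) :
    wPerm T.hF (T.node a i) (sRoot T.hF (T.node a j)) = sRoot T.hF (T.node a j) :=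
  Fin.ext (T.orth_node h).2.1

theorem isMon_nA (a : Fin T.m) : IsMon T.hF (T.nA a) (T.wA a) := isMon_nWord T.hF _

theorem commute_nG {a : Fin T.m} {i j : ℕ} (h : T.node a i ≠ T.node a j) (t u : F) :
    Commute (nG T.hF (D.simple (T.node a i)) t) (nG T.hF (D.simple (T.node a j)) u) := by
  have c1 : ∀ s t' u', Commute (xG T.hF (T.rt s a i) t') (nG T.hF (D.simple (T.node a j)) u') :=
    fun s t' u' => ((T.commute_rt (s' := true) h _ _).mul_right
      (T.commute_rt (s' := false) h _ _)).mul_right (T.commute_rt (s' := true) h _ _)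
  exact ((c1 true _ _).mul_left (c1 false _ _)).mul_left (c1 true _ _)

theorem commute_nG' (a : Fin T.m) (i j : ℕ) (t : F) :
    Commute (nG T.hF (D.simple (T.node a i)) t) (nG T.hF (D.simple (T.node a j)) t) := by
  by_cases h : T.node a i = T.node a j
  · rw [h]
  · exact T.commute_nG h t t

theorem wPerm_commute (a : Fin T.m) (i j : ℕ) :
    Commute (wPerm T.hF (T.node a i)) (wPerm T.hF (T.node a j)) := by
  have h := isMon_mul T.hF (isMon_nS T.hF (T.node a i) (F := F)) (isMon_nS T.hF (T.node a j))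
  have h' := isMon_mul T.hF (isMon_nS T.hF (T.node a j) (F := F)) (isMon_nS T.hF (T.node a i))
  rw [show (nS T.hF (T.node a i : ℕ) * nS T.hF (T.node a j : ℕ) : GL D.Idx F) =
    nS T.hF (T.node a j : ℕ) * nS T.hF (T.node a i : ℕ) from (T.commute_nG' a i j 1).eq] at h
  exact isMon_unique T.hF h h'

theorem wA_eq (a : Fin T.m) :
    T.wA a = ((List.range (T.len a)).map fun j => wPerm T.hF (T.node a j)).prod := by
  rw [wA, orb, pWord, List.map_map]
  rfl

theorem wA_mem (a : Fin T.m) : T.wA a ∈ weyl T.hF := pWord_mem T.hF _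

theorem wA_sq (a : Fin T.m) : T.wA a * T.wA a = 1 := by
  rw [T.wA_eq, ← prod_map_mul_of_commute List.nodup_range fun i _ j _ _ => T.wPerm_commute a i j]
  refine List.prod_eq_one fun x hx => ?_
  obtain ⟨j, -, rfl⟩ := List.mem_map.1 hx
  exact wPerm_sq T.hF _

theorem wA_inv (a : Fin T.m) : (T.wA a)⁻¹ = T.wA a := inv_eq_of_mul_eq_one_right (T.wA_sq a)

theorem rho_wA (a : Fin T.m) : Commute T.ρ (T.wA a) := by
  show T.ρ * T.wA a = T.wA a * T.ρ
  rw [wA, T.rho_pWord]
  congr 1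
  show pWord T.hF ((T.orb a).map T.π) = pWord T.hF (T.orb a)
  rw [orb, List.map_map, pWord, pWord, List.map_map, List.map_map]
  refine Eq.trans ?_ (prod_range_succ_eq (f := fun j => wPerm T.hF (T.node a j))
    (T.wPerm_commute a) (by rw [← T.node_add a 0, Nat.zero_add]))
  refine congrArg List.prod (List.map_congr_left fun j _ => ?_)
  simp only [Function.comp_apply, T.node_succ]

theorem wA_pos {a : Fin T.m} {r : Fin D.nroots} (hr : half D ≤ (r : ℕ)) (hs : ¬ T.Simp a r) :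
    half D ≤ (T.wA a r : ℕ) ∧ ¬ T.Simp a (T.wA a r) := by
  have hl : ∀ i ∈ T.orb a, ∃ j, T.node a j = i := fun i hi => by
    obtain ⟨j, -, e⟩ := T.mem_orb.1 hi
    exact ⟨j, e⟩
  rw [wA]
  generalize T.orb a = l at hl
  induction l with
  | nil => exact ⟨hr, hs⟩
  | cons i l ih =>
    obtain ⟨h1, h2⟩ := ih fun x hx => hl x (List.mem_cons_of_mem _ hx)
    obtain ⟨j, rfl⟩ := hl i (List.mem_cons_self ..)
    rw [pWord_cons, Equiv.Perm.mul_apply]
    set r' := pWord T.hF l r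
    have hne : (r' : ℕ) ≠ D.simple (T.node a j) := fun e => h2 (by
      rw [show r' = sRoot T.hF (T.node a j) from Fin.ext e]; exact T.simp_node a j)
    refine ⟨T.hF.refl_pos _ (T.node a j).2 _ r'.2 h1 hne, ?_⟩
    rintro ⟨j', -, e⟩
    by_cases hjj : T.node a j = T.node a j'
    · have : r' = negF T.hF (sRoot T.hF (T.node a j)) := by
        rw [← wPerm_sRoot T.hF, hjj, ← e, ← Equiv.Perm.mul_apply, hjj, wPerm_sq,
          Equiv.Perm.one_apply]
      rw [this] at h1
      exact absurd ((pos_negF_iff T.hF _).1 h1) (not_lt.2 (T.hF.simple_pos _ (T.node a j).2))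
    · have := congrArg (wPerm T.hF (T.node a j)) e
      rw [← Equiv.Perm.mul_apply, wPerm_sq, Equiv.Perm.one_apply, T.wPerm_node hjj] at this
      exact h2 (this ▸ T.simp_node a j')

theorem wA_node (a : Fin T.m) (j : ℕ) :
    T.wA a (sRoot T.hF (T.node a j)) = negF T.hF (sRoot T.hF (T.node a j)) := by
  obtain ⟨l₁, l₂, hl⟩ := List.mem_iff_append.1
    (T.mem_orb.2 ⟨j % T.len a, Nat.mod_lt _ (T.hO.len_pos a), (T.node_mod a j).symm⟩ :
      T.node a j ∈ T.orb a)
  have hnd := T.orb_nodup a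
  rw [hl, List.nodup_middle, List.nodup_cons] at hnd
  have hfix : ∀ l : List (Fin D.rank), (∀ x ∈ l, x ∈ l₁ ++ l₂) →
      pWord T.hF l (sRoot T.hF (T.node a j)) = sRoot T.hF (T.node a j) := by
    intro l hl'
    induction l with
    | nil => rfl
    | cons x l ih =>
      rw [pWord_cons, Equiv.Perm.mul_apply, ih fun y hy => hl' y (List.mem_cons_of_mem _ hy)]
      have hx := hl' x (List.mem_cons_self ..)
      have hxo : x ∈ T.orb a := by
        rw [hl]
        simp only [List.mem_append, List.mem_cons] at hx ⊢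
        tauto
      obtain ⟨j', -, rfl⟩ := T.mem_orb.1 hxo
      exact T.wPerm_node fun e => hnd.1 (e ▸ hx)
  rw [wA, hl, pWord_append, pWord_cons, Equiv.Perm.mul_apply, Equiv.Perm.mul_apply,
    hfix l₂ fun x hx => List.mem_append_right _ hx, wPerm_sRoot, pWord_negF,
    hfix l₁ fun x hx => List.mem_append_left _ hx]

theorem wA_neg_iff {a : Fin T.m} {r : Fin D.nroots} (hr : half D ≤ (r : ℕ)) :
    (T.wA a r : ℕ) < half D ↔ T.Simp a r := by
  refine ⟨fun h => by_contra fun hs => absurd (T.wA_pos hr hs).1 (not_le.2 h), ?_⟩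
  rintro ⟨j, -, rfl⟩
  rw [T.wA_node]
  exact (neg_lt_half_iff T.hF (sRoot T.hF (T.node a j)).2).2 hr

/-- The elements of the Weyl group commuting with the symmetry. -/
def InW1 (p : Equiv.Perm (Fin D.nroots)) : Prop := p ∈ weyl T.hF ∧ Commute T.ρ p

theorem inW1_one : T.InW1 1 := ⟨Subgroup.one_mem _, Commute.one_right _⟩

theorem inW1_wA (a : Fin T.m) : T.InW1 (T.wA a) := ⟨T.wA_mem a, T.rho_wA a⟩

theorem InW1.mul {p q : Equiv.Perm (Fin D.nroots)} (hp : T.InW1 p) (hq : T.InW1 q) :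
    T.InW1 (p * q) := ⟨Subgroup.mul_mem _ hp.1 hq.1, hp.2.mul_right hq.2⟩

theorem InW1.inv {p : Equiv.Perm (Fin D.nroots)} (hp : T.InW1 p) : T.InW1 p⁻¹ :=
  ⟨Subgroup.inv_mem _ hp.1, hp.2.inv_right⟩

theorem node_sign {p : Equiv.Perm (Fin D.nroots)} (hp : T.InW1 p) (a : Fin T.m) :
    ∀ j, half D ≤ (p (sRoot T.hF (T.node a j)) : ℕ) ↔
      half D ≤ (p (sRoot T.hF (T.base a)) : ℕ) := by
  intro j
  induction j with
  | zero => exact Iff.rfl
  | succ j ih =>
    rw [← ih, T.node_succ, ← T.rho_sRoot, ← Equiv.Perm.mul_apply, ← hp.2.eq,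
      Equiv.Perm.mul_apply]
    exact T.rho_pos _

theorem invSet_mul_wA {p : Equiv.Perm (Fin D.nroots)} (hp : T.InW1 p) {a : Fin T.m}
    (h : half D ≤ (p (sRoot T.hF (T.base a)) : ℕ)) :
    invCard (p * T.wA a) = invCard p + T.len a := by
  classical
  rw [invCard_eq, invCard_eq]
  have hset : invSet (p * T.wA a) = (invSet p).image (T.wA a) ∪
      (Finset.range (T.len a)).image fun j => sRoot T.hF (T.node a j) := by
    ext r
    simp only [mem_invSet, Finset.mem_union, Finset.mem_image, Finset.mem_range,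
      Equiv.Perm.mul_apply]
    constructor
    · rintro ⟨h1, h2⟩
      by_cases hs : T.Simp a r
      · obtain ⟨j, hj, rfl⟩ := hs
        exact Or.inr ⟨j, hj, rfl⟩
      · exact Or.inl ⟨T.wA a r, ⟨(T.wA_pos h1 hs).1, h2⟩,
          by rw [← Equiv.Perm.mul_apply, T.wA_sq, Equiv.Perm.one_apply]⟩
    · rintro (⟨s, ⟨h1, h2⟩, rfl⟩ | ⟨j, -, rfl⟩)
      · have hs : ¬ T.Simp a s := by
          rintro ⟨j, -, rfl⟩
          exact absurd ((T.node_sign hp a j).2 h) (not_le.2 h2)
        refine ⟨(T.wA_pos h1 hs).1, ?_⟩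
        rwa [← Equiv.Perm.mul_apply (T.wA a), T.wA_sq, Equiv.Perm.one_apply]
      · refine ⟨T.hF.simple_pos _ (T.node a j).2, ?_⟩
        rw [T.wA_node, weyl_negF T.hF hp.1]
        exact (neg_lt_half_iff T.hF (p (sRoot T.hF (T.node a j))).2).2 ((T.node_sign hp a j).2 h)
  rw [hset, Finset.card_union_of_disjoint, Finset.card_image_of_injective _ (T.wA a).injective,
    Finset.card_image_of_injOn, Finset.card_range]
  · intro i hi j hj e
    exact (T.node_inj (Finset.mem_range.1 hi) (Finset.mem_range.1 hj)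
      (sRoot_injective T.hF e)).2
  · rw [Finset.disjoint_left]
    intro r hr hr'
    obtain ⟨s, hs, rfl⟩ := Finset.mem_image.1 hr
    obtain ⟨j, -, e⟩ := Finset.mem_image.1 hr'
    rw [mem_invSet] at hs
    have hs' : s = negF T.hF (sRoot T.hF (T.node a j)) := by
      rw [← T.wA_node, e, ← Equiv.Perm.mul_apply, T.wA_sq, Equiv.Perm.one_apply]
    rw [hs'] at hs
    exact absurd ((pos_negF_iff T.hF _).1 hs.1) (not_lt.2 (T.hF.simple_pos _ (T.node a j).2))

/-- Induction along the fundamental elements commuting with the symmetry. -/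
theorem w1_induction (P : Equiv.Perm (Fin D.nroots) → Prop) (h1 : P 1)
    (hstep : ∀ p a, T.InW1 p → half D ≤ (p (sRoot T.hF (T.base a)) : ℕ) → P p → P (p * T.wA a))
    {p : Equiv.Perm (Fin D.nroots)} (hp : T.InW1 p) : P p := by
  suffices H : ∀ N p, invCard p = N → T.InW1 p → P p from H _ p rfl hp
  intro N
  induction N using Nat.strong_induction_on with
  | _ N ih =>
    intro p hN hp
    by_cases hall : ∀ i, half D ≤ (p (sRoot T.hF i) : ℕ)
    · rw [eq_one_of_pos T.hF hp.1 hall]; exact h1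
    push Not at hall
    obtain ⟨i, hi⟩ := hall
    obtain ⟨a, j, -, rfl⟩ := T.cover i
    have hq : T.InW1 (p * T.wA a) := hp.mul T (T.inW1_wA a)
    have hpos : half D ≤ ((p * T.wA a) (sRoot T.hF (T.base a)) : ℕ) := by
      rw [← T.node_zero a, Equiv.Perm.mul_apply, T.wA_node, weyl_negF T.hF hp.1]
      refine (pos_negF_iff T.hF _).2 (not_le.1 fun h => ?_)
      rw [T.node_zero] at h
      exact absurd ((T.node_sign hp a j).2 h) (not_le.2 hi)
    have hc := T.invSet_mul_wA hq hpos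
    have e : p * T.wA a * T.wA a = p := by rw [mul_assoc, T.wA_sq, mul_one]
    rw [e] at hc
    have := hstep _ a hq hpos (ih _ (by have := T.hO.len_pos a; omega) _ rfl hq)
    rwa [e] at this

/-- The word in fundamental reflections of a word in orbits. -/
def flat (ws : List (Fin T.m)) : List (Fin D.rank) := ws.flatMap T.orb

/-- The permutation of a word in orbits. -/
def pW (ws : List (Fin T.m)) : Equiv.Perm (Fin D.nroots) := pWord T.hF (T.flat ws)

/-- The representative of a word in orbits. -/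
def nW (ws : List (Fin T.m)) : GL D.Idx F := nWord T.hF (T.flat ws)

theorem pW_nil : T.pW [] = 1 := rfl

theorem nW_nil : T.nW [] = 1 := rfl

theorem pW_cons (a : Fin T.m) (ws : List (Fin T.m)) : T.pW (a :: ws) = T.wA a * T.pW ws := by
  simp [pW, flat, wA, pWord_append]

theorem nW_cons (a : Fin T.m) (ws : List (Fin T.m)) : T.nW (a :: ws) = T.nA a * T.nW ws := by
  simp [nW, flat, nA, nWord_append]

theorem pW_append (us vs : List (Fin T.m)) : T.pW (us ++ vs) = T.pW us * T.pW vs := by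
  simp [pW, flat, pWord_append]

theorem nW_append (us vs : List (Fin T.m)) : T.nW (us ++ vs) = T.nW us * T.nW vs := by
  simp [nW, flat, nWord_append]

theorem isMon_nW (ws : List (Fin T.m)) : IsMon T.hF (T.nW ws) (T.pW ws) := isMon_nWord T.hF _

theorem inW1_pW (ws : List (Fin T.m)) : T.InW1 (T.pW ws) := by
  induction ws with
  | nil => exact T.inW1_one
  | cons a ws ih => rw [T.pW_cons]; exact (T.inW1_wA a).mul T ih

theorem exists_pW {p : Equiv.Perm (Fin D.nroots)} (hp : T.InW1 p) : ∃ ws, T.pW ws = p := by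
  refine T.w1_induction (fun p => ∃ ws, T.pW ws = p) ⟨[], rfl⟩ (fun q a _ _ h => ?_) hp
  obtain ⟨ws, rfl⟩ := h
  exact ⟨ws ++ [a], by rw [T.pW_append, T.pW_cons, T.pW_nil, mul_one]⟩

theorem exists_longest : ∃ p, T.InW1 p ∧
    (∀ r : Fin D.nroots, ((p r : ℕ) < half D ↔ half D ≤ (r : ℕ))) ∧ invCard p = half D := by
  obtain ⟨w, hw⟩ := Chev.exists_longest T.hF
  refine ⟨pWord T.hF w, ⟨pWord_mem T.hF w, ?_⟩, hw, invCard_longest T.hF hw⟩
  show T.ρ * pWord T.hF w = pWord T.hF w * T.ρ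
  rw [T.rho_pWord]
  congr 1
  have key : (pWord T.hF w)⁻¹ * pWord T.hF (w.map T.π) = 1 := by
    refine eq_one_of_pos T.hF (Subgroup.mul_mem _ (Subgroup.inv_mem _ (pWord_mem T.hF w))
      (pWord_mem T.hF _)) fun i => ?_
    obtain ⟨r, hr⟩ := T.ρ.surjective (sRoot T.hF i)
    have h1 : (pWord T.hF (w.map T.π) (sRoot T.hF i) : ℕ) < half D := by
      rw [← hr, ← Equiv.Perm.mul_apply, ← T.rho_pWord, Equiv.Perm.mul_apply]
      refine not_le.1 fun h => ?_
      rw [T.rho_pos] at h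
      exact absurd h (not_le.2 ((hw r).2 ((T.rho_pos r).1 (hr ▸ T.hF.simple_pos i i.2))))
    rw [Equiv.Perm.mul_apply]
    set s := pWord T.hF (w.map T.π) (sRoot T.hF i) with hs
    have := hw ((pWord T.hF w)⁻¹ s)
    rw [app_inv] at this
    exact this.1 h1
  exact (inv_mul_eq_one.1 key).symm

theorem y_mem_uMinus (a : Fin T.m) (v : ℕ → F) : T.yv true a v ∈ uMinus T.hF (T.wA a) :=
  Subgroup.list_prod_mem _ fun x hx => by
    obtain ⟨j, hj, rfl⟩ := List.mem_map.1 hx
    exact Subgroup.subset_closure ⟨T.rt true a j, _, T.hF.simple_pos _ (T.node a j).2,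
      (T.wA_neg_iff (T.hF.simple_pos _ (T.node a j).2)).2 (T.simp_node a j), rfl⟩

theorem exists_yv {a : Fin T.m} {g : GL D.Idx F} (hg : g ∈ uMinus T.hF (T.wA a)) :
    ∃ v, g = T.yv true a v := by
  induction hg using Subgroup.closure_induction with
  | mem x hx =>
    obtain ⟨r, t, h1, h2, rfl⟩ := hx
    obtain ⟨j, hj, rfl⟩ := (T.wA_neg_iff h1).1 h2
    refine ⟨fun i => if i = j then t else 0, ?_⟩
    rw [yv, List.prod_map_eq_pow_single j,
      List.count_eq_one_of_mem List.nodup_range (List.mem_range.2 hj), pow_one, if_pos rfl]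
    · rfl
    · intro i hi _
      rw [if_neg hi, xG_zero]
  | one => exact ⟨fun _ => 0, (T.yv_zero true a).symm⟩
  | mul x y _ _ ihx ihy =>
    obtain ⟨v, rfl⟩ := ihx
    obtain ⟨w, rfl⟩ := ihy
    exact ⟨_, T.yv_mul true a v w⟩
  | inv x _ ih =>
    obtain ⟨v, rfl⟩ := ih
    exact ⟨_, T.yv_inv true a v⟩

theorem yv_eq_one {a : Fin T.m} {v : ℕ → F} (e : T.yv true a v = 1) :
    ∀ j < T.len a, v j = 0 := by
  suffices H : ∀ l : List ℕ, l.Nodup → (∀ j ∈ l, j < T.len a) →
      (l.map fun j => xG T.hF (T.rt true a j) (v j)).prod = 1 → ∀ j ∈ l, v j = 0 from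
    fun j hj => H _ List.nodup_range (fun j hj => List.mem_range.1 hj) e j (List.mem_range.2 hj)
  intro l
  induction l with
  | nil => exact fun _ _ _ j hj => absurd hj List.not_mem_nil
  | cons i l ih =>
    intro hnd hlt he
    rw [List.nodup_cons] at hnd
    rw [List.map_cons, List.prod_cons] at he
    set rest := (l.map fun j => xG T.hF (T.rt true a j) (v j)).prod with hrest
    have hplus : rest ∈ uPlus T.hF (wPerm T.hF (T.node a i)) := by
      refine Subgroup.list_prod_mem _ fun x hx => ?_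
      obtain ⟨j, hj, rfl⟩ := List.mem_map.1 hx
      refine Subgroup.subset_closure ⟨T.rt true a j, _, T.hF.simple_pos _ (T.node a j).2, ?_, rfl⟩
      show half D ≤ _
      rw [T.rt_true, T.wPerm_node (T.node_ne (hlt i (List.mem_cons_self ..))
        (hlt j (List.mem_cons_of_mem _ hj)) fun e => hnd.1 (e ▸ hj))]
      exact T.hF.simple_pos _ (T.node a j).2
    have hminus : rest ∈ uMinus T.hF (wPerm T.hF (T.node a i)) := by
      rw [mul_eq_one_iff_inv_eq] at he
      rw [← he, xG_inv]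
      refine Subgroup.subset_closure ⟨T.rt true a i, _, T.hF.simple_pos _ (T.node a i).2, ?_, rfl⟩
      show _ < half D
      rw [T.rt_true, wPerm_sRoot]
      exact (neg_lt_half_iff T.hF (sRoot T.hF (T.node a i)).2).2
        (T.hF.simple_pos _ (T.node a i).2)
    have h1 := uPlus_inf_uMinus T.hF (isMon_nS T.hF (T.node a i)) hplus hminus
    rw [h1, mul_one, xG_eq_one_iff T.hF (T.rt true a i).2] at he
    exact List.forall_mem_cons.2
      ⟨he, ih hnd.2 (fun j hj => hlt j (List.mem_cons_of_mem _ hj)) h1⟩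

theorem y_injective {a : Fin T.m} {t u : F} (e : T.y true a t = T.y true a u) : t = u := by
  have h : T.y true a (t + -u) = 1 := by rw [← T.y_mul, e, ← T.y_inv, mul_inv_cancel]
  have := T.yv_eq_one h 0 (T.hO.len_pos a)
  exact eq_of_sub_eq_zero (by rw [sub_eq_add_neg]; exact this)

theorem exists_y {a : Fin T.m} {g : GL D.Idx F} (hg : g ∈ uMinus T.hF (T.wA a)) (hfx : g ∈ T.fx) :
    ∃ t, T.Par a t ∧ g = T.y true a t := by
  obtain ⟨v, rfl⟩ := T.exists_yv hg
  have hL := T.hO.len_pos a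
  set L := T.len a with hLdef
  set v' : ℕ → F := fun j => T.φ (v ((j + (L - 1)) % L)) with hv'
  have hper : v' L = v' 0 := by
    simp only [hv', Nat.zero_add, Nat.add_mod_left]
  have hσ : T.σ (T.yv true a v) = T.yv true a v' := by
    rw [yv, yv, map_list_prod, List.map_map]
    refine Eq.trans ?_ (prod_range_succ_eq (f := fun j => xG T.hF (T.rt true a j) (v' j))
      (fun i j => T.commute_same true a i j _ _) ?_)
    · refine congrArg List.prod (List.map_congr_left fun j hj => ?_)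
      rw [Function.comp_apply, T.σ_rt]
      congr 1
      simp only [hv']
      rw [show j + 1 + (L - 1) = j + L by omega, Nat.add_mod_right,
        Nat.mod_eq_of_lt (List.mem_range.1 hj)]
    · show xG T.hF (T.rt true a L) (v' L) = xG T.hF (T.rt true a 0) (v' 0)
      rw [hper, show T.rt true a L = T.rt true a 0 by rw [hLdef, ← T.rt_add true a 0, Nat.zero_add]]
  rw [T.mem_fx, hσ] at hfx
  have hone : T.yv true a (fun j => v' j + -v j) = 1 := by
    rw [← T.yv_mul, hfx, ← T.yv_inv, mul_inv_cancel]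
  have h0 : ∀ j < L, v' j = v j := fun j hj => by
    have := T.yv_eq_one hone j hj
    rwa [add_neg_eq_zero] at this
  have hpow : ∀ j < L, v j = (T.φ ^ j) (v 0) := by
    intro j
    induction j with
    | zero => exact fun _ => rfl
    | succ j ih =>
      intro hj
      rw [← h0 (j + 1) hj, pow_succ', RingHom.mul_def, RingHom.comp_apply, ← ih (by omega)]
      simp only [hv']
      rw [show j + 1 + (L - 1) = j + L by omega, Nat.add_mod_right, Nat.mod_eq_of_lt (by omega)]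
  refine ⟨v 0, ?_, ?_⟩
  · have h := h0 0 hL
    simp only [hv', Nat.zero_add] at h
    rw [Nat.mod_eq_of_lt (by omega), hpow (L - 1) (by omega)] at h
    show (T.φ ^ L) (v 0) = v 0
    conv_lhs => rw [show L = L - 1 + 1 by omega, pow_succ', RingHom.mul_def, RingHom.comp_apply]
    exact h
  · exact congrArg List.prod (List.map_congr_left fun j hj =>
      congrArg (xG T.hF _) (hpow j (List.mem_range.1 hj)))

/-- A fixed element of `U` splits into fixed factors. -/
theorem split_fx {n : GL D.Idx F} {p : Equiv.Perm (Fin D.nroots)} (hn : IsMon T.hF n p)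
    (hp : Commute T.ρ p) {g : GL D.Idx F} (hg : g ∈ D.posUnipotent F) (hfx : g ∈ T.fx) :
    ∃ a ∈ uPlus T.hF p, ∃ b ∈ uMinus T.hF p, a ∈ T.fx ∧ b ∈ T.fx ∧ g = a * b := by
  obtain ⟨a, ha, b, hb, rfl⟩ := posUnipotent_split T.hF p hg
  rw [T.mem_fx, map_mul] at hfx
  obtain ⟨h1, h2⟩ := split_unique T.hF hn (T.σ_uPlus hp ha) ha (T.σ_uMinus hp hb) hb hfx
  exact ⟨a, ha, b, hb, h1, h2, rfl⟩

/-- The twisted group. -/
def G1 : Subgroup (GL D.Idx F) :=
  Subgroup.closure {g | ∃ (s : Bool) (a : Fin T.m) (t : F), T.Par a t ∧ g = T.y s a t}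

theorem y_mem_G1 {a : Fin T.m} {t : F} (ht : T.Par a t) (s : Bool) : T.y s a t ∈ T.G1 :=
  Subgroup.subset_closure ⟨s, a, t, ht, rfl⟩

theorem nn_mem_G1 {a : Fin T.m} {t : F} (ht : T.Par a t) : T.nn a t ∈ T.G1 :=
  Subgroup.mul_mem _ (Subgroup.mul_mem _ (T.y_mem_G1 ht _)
    (T.y_mem_G1 (T.par_neg (T.par_inv ht)) _)) (T.y_mem_G1 ht _)

theorem nA_mem_G1 (a : Fin T.m) : T.nA a ∈ T.G1 := T.nn_one a ▸ T.nn_mem_G1 (T.par_one a)

theorem G1_le_fx : T.G1 ≤ T.fx := by
  refine (Subgroup.closure_le _).2 ?_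
  rintro g ⟨s, a, t, ht, rfl⟩
  exact T.y_fx ht s

theorem G1_le_group : T.G1 ≤ D.group F := by
  refine (Subgroup.closure_le _).2 ?_
  rintro g ⟨s, a, t, -, rfl⟩
  refine Subgroup.list_prod_mem _ fun x hx => ?_
  obtain ⟨j, -, rfl⟩ := List.mem_map.1 hx
  exact xG_mem_group T.hF _ _

theorem T1_le_G1 : T.T1 ≤ T.G1 := by
  rintro g ⟨c, hc, rfl⟩
  show c ∈ T.G1.comap torusHom
  rw [T.eq_prod_hv hc]
  refine Subgroup.prod_mem _ fun a _ => Subgroup.mem_comap.2 ?_
  rw [show torusHom (T.hv a (c (T.base a))) = T.nn a (c (T.base a) : F) * (T.nA a)⁻¹ by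
    rw [T.nn_torus, mul_inv_cancel_right]]
  exact Subgroup.mul_mem _ (T.nn_mem_G1 (T.par_base hc a)) (Subgroup.inv_mem _ (T.nA_mem_G1 a))

/-- The fixed part of the factor of `U` attached to a permutation. -/
def fm (p : Equiv.Perm (Fin D.nroots)) : Subgroup (GL D.Idx F) := uMinus T.hF p ⊓ T.fx

theorem fm_one : T.fm 1 = ⊥ := by
  rw [eq_bot_iff]
  refine le_trans inf_le_left ((Subgroup.closure_le _).2 ?_)
  rintro g ⟨r, t, h1, h2, -⟩
  exact absurd h2 (not_lt.2 h1)

theorem fm_step_forward {p : Equiv.Perm (Fin D.nroots)} {ws : List (Fin T.m)} (hws : T.pW ws = p)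
    {a : Fin T.m} {g : GL D.Idx F} (hg : g ∈ T.fm (p * T.wA a))
    (hpos : half D ≤ (p (sRoot T.hF (T.base a)) : ℕ)) :
    ∃ g' ∈ T.fm p, ∃ t, T.Par a t ∧ g = (T.nA a)⁻¹ * g' * T.nA a * T.y true a t := by
  subst hws
  obtain ⟨hgm, hgf⟩ := hg
  have hU : g ∈ D.posUnipotent F := closure_uGens_le T.hF _ hgm
  obtain ⟨x, hx, b, hb, hxf, hbf, rfl⟩ := T.split_fx (T.isMon_nA a) (T.rho_wA a) hU hgf
  obtain ⟨t, ht, rfl⟩ := T.exists_y hb hbf
  have hyp : T.y true a t ∈ uMinus T.hF (T.pW ws * T.wA a) := by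
    refine Subgroup.list_prod_mem _ fun z hz => ?_
    obtain ⟨j, hj, rfl⟩ := List.mem_map.1 hz
    refine Subgroup.subset_closure ⟨T.rt true a j, _, T.hF.simple_pos _ (T.node a j).2, ?_, rfl⟩
    show _ < half D
    rw [Equiv.Perm.mul_apply, T.rt_true, T.wA_node, weyl_negF T.hF (T.inW1_pW ws).1]
    exact (neg_lt_half_iff T.hF (T.pW ws (sRoot T.hF (T.node a j))).2).2
      ((T.node_sign (T.inW1_pW ws) a j).2 hpos)
  have hxm : x ∈ uMinus T.hF (T.pW ws * T.wA a) :=
    (Subgroup.mul_mem_cancel_right _ hyp).1 hgm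
  refine ⟨T.nA a * x * (T.nA a)⁻¹, ⟨?_, ?_⟩, t, ht, by group⟩
  · refine mem_uMinus_of_conj T.hF (T.isMon_nW ws) (conj_uPlus T.hF (T.isMon_nA a) hx) ?_
    have := conj_uMinus T.hF (isMon_mul T.hF (T.isMon_nW ws) (T.isMon_nA a)) hxm
    simpa [mul_assoc] using this
  · exact Subgroup.mul_mem _ (Subgroup.mul_mem _ (T.nA_fx a) hxf) (Subgroup.inv_mem _ (T.nA_fx a))

theorem fm_step_back {p : Equiv.Perm (Fin D.nroots)} (hp : T.InW1 p) {a : Fin T.m}
    (hpos : half D ≤ (p (sRoot T.hF (T.base a)) : ℕ)) {g' : GL D.Idx F} (hg : g' ∈ T.fm p)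
    {t : F} (ht : T.Par a t) :
    (T.nA a)⁻¹ * g' * T.nA a ∈ uPlus T.hF (T.wA a) ∧
      (T.nA a)⁻¹ * g' * T.nA a * T.y true a t ∈ T.fm (p * T.wA a) := by
  have hi := isMon_inv' T.hF (T.isMon_nA a)
  rw [T.wA_inv] at hi
  have key : ∀ r : Fin D.nroots, half D ≤ (r : ℕ) → (p r : ℕ) < half D →
      half D ≤ (T.wA a r : ℕ) := fun r h1 h2 => (T.wA_pos h1 fun ⟨j, _, e⟩ =>
        absurd ((T.node_sign hp a j).2 hpos) (not_le.2 (e ▸ h2))).1
  have h1 : (T.nA a)⁻¹ * g' * T.nA a ∈ uPlus T.hF (T.wA a) ⊓ uMinus T.hF (p * T.wA a) := by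
    have := conj_uGens_le T.hF hi (M := uPlus T.hF (T.wA a) ⊓ uMinus T.hF (p * T.wA a))
      (fun r h1 h2 v => ⟨Subgroup.subset_closure ⟨T.wA a r, v, key r h1 h2, by
          show half D ≤ _
          rwa [← Equiv.Perm.mul_apply, T.wA_sq, Equiv.Perm.one_apply], rfl⟩,
        Subgroup.subset_closure ⟨T.wA a r, v, key r h1 h2, by
          show _ < half D
          rwa [Equiv.Perm.mul_apply, ← Equiv.Perm.mul_apply (T.wA a), T.wA_sq,
            Equiv.Perm.one_apply], rfl⟩⟩) hg.1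
    rwa [inv_inv] at this
  refine ⟨h1.1, Subgroup.mul_mem _ h1.2 ?_, Subgroup.mul_mem _ (Subgroup.mul_mem _
    (Subgroup.mul_mem _ (Subgroup.inv_mem _ (T.nA_fx a)) hg.2) (T.nA_fx a)) (T.y_fx ht _)⟩
  refine Subgroup.list_prod_mem _ fun z hz => ?_
  obtain ⟨j, hj, rfl⟩ := List.mem_map.1 hz
  refine Subgroup.subset_closure ⟨T.rt true a j, _, T.hF.simple_pos _ (T.node a j).2, ?_, rfl⟩
  show _ < half D
  rw [Equiv.Perm.mul_apply, T.rt_true, T.wA_node, weyl_negF T.hF hp.1]
  exact (neg_lt_half_iff T.hF (p (sRoot T.hF (T.node a j))).2).2 ((T.node_sign hp a j).2 hpos)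

theorem fm_le_G1 {p : Equiv.Perm (Fin D.nroots)} (hp : T.InW1 p) : T.fm p ≤ T.G1 := by
  refine T.w1_induction (fun p => T.fm p ≤ T.G1) (by rw [T.fm_one]; exact bot_le)
    (fun p a hq hpos ih g hg => ?_) hp
  obtain ⟨ws, hws⟩ := T.exists_pW hq
  obtain ⟨g', hg', t, ht, rfl⟩ := T.fm_step_forward hws hg hpos
  exact Subgroup.mul_mem _ (Subgroup.mul_mem _ (Subgroup.mul_mem _
    (Subgroup.inv_mem _ (T.nA_mem_G1 a)) (ih hg')) (T.nA_mem_G1 a)) (T.y_mem_G1 ht _)

theorem card_fm {q : ℕ} (hq : ∀ a, Nat.card {t : F // T.Par a t} = q ^ T.len a)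
    {p : Equiv.Perm (Fin D.nroots)} (hp : T.InW1 p) :
    Nat.card ↥(T.fm p) = q ^ invCard p := by
  refine T.w1_induction (fun p => Nat.card ↥(T.fm p) = q ^ invCard p) ?_
    (fun p a hpW hpos ih => ?_) hp
  · rw [T.fm_one, Subgroup.card_bot, invCard_eq]
    rw [show invSet (D := D) 1 = ∅ from Finset.filter_eq_empty_iff.2 fun r _ h =>
      absurd h.2 (not_lt.2 h.1)]
    simp
  · obtain ⟨ws, hws⟩ := T.exists_pW hpW
    rw [T.invSet_mul_wA hpW hpos, pow_add, ← ih, ← hq a, ← Nat.card_prod]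
    refine (Nat.card_congr (Equiv.ofBijective
      (fun x : ↥(T.fm p) × {t : F // T.Par a t} =>
        (⟨(T.nA a)⁻¹ * x.1 * T.nA a * T.y true a x.2,
          (T.fm_step_back hpW hpos x.1.2 x.2.2).2⟩ : ↥(T.fm (p * T.wA a)))) ⟨?_, ?_⟩)).symm
    · rintro ⟨⟨x, hx⟩, t, ht⟩ ⟨⟨x', hx'⟩, t', ht'⟩ e
      have e' := congrArg Subtype.val e
      simp only at e'
      obtain ⟨h1, h2⟩ := split_unique T.hF (T.isMon_nA a) (T.fm_step_back hpW hpos hx ht).1
        (T.fm_step_back hpW hpos hx' ht').1 (T.y_mem_uMinus a _) (T.y_mem_uMinus a _) e'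
      simp only [mul_left_inj, mul_right_inj] at h1
      obtain rfl := h1
      obtain rfl := T.y_injective h2
      rfl
    · rintro ⟨g, hg⟩
      obtain ⟨g', hg', t, ht, e⟩ := T.fm_step_forward hws hg hpos
      exact ⟨(⟨g', hg'⟩, ⟨t, ht⟩), Subtype.ext e.symm⟩

/-- The fixed elements of `U`. -/
def U1 : Subgroup (GL D.Idx F) := D.posUnipotent F ⊓ T.fx

theorem exists_fm_eq_U1 : ∃ p, T.InW1 p ∧ invCard p = half D ∧ T.fm p = T.U1 := by
  obtain ⟨p, hp, hlong, hc⟩ := T.exists_longest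
  refine ⟨p, hp, hc, ?_⟩
  rw [fm, U1]
  congr 1
  refine le_antisymm (closure_uGens_le T.hF _) ?_
  rw [posUnipotent_eq T.hF, Subgroup.closure_le]
  rintro g ⟨r, t, h1, h2, rfl⟩
  exact Subgroup.subset_closure ⟨⟨r, h2⟩, t, h1, (hlong _).2 h1, rfl⟩

theorem U1_le_G1 : T.U1 ≤ T.G1 := by
  obtain ⟨p, hp, -, e⟩ := T.exists_fm_eq_U1
  exact e ▸ T.fm_le_G1 hp

theorem card_U1 {q : ℕ} (hq : ∀ a, Nat.card {t : F // T.Par a t} = q ^ T.len a) :
    Nat.card ↥T.U1 = q ^ half D := by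
  obtain ⟨p, hp, hc, e⟩ := T.exists_fm_eq_U1
  rw [← e, T.card_fm hq hp, hc]

theorem U1_eq : D.posUnipotent F ⊓ T.G1 = T.U1 :=
  le_antisymm (inf_le_inf_left _ T.G1_le_fx) (le_inf inf_le_left T.U1_le_G1)

end Twist

end Cfsg.Agent.Chev
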