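import Cfsg.Agent.Chev.GraphAut
import Cfsg.Agent.Chev.MinCoset
import Cfsg.Agent.Chev.Lift

/-!
The endomorphism of a Chevalley group made of a diagram symmetry and a field endomorphism.
-/

set_option autoImplicit false

namespace Cfsg.Agent.Chev

open Cfsg.Lie
open scoped MatrixGroups

universe u

/-- A product of a periodic commuting family is invariant under a shift by one. -/
theorem prod_range_succ_eq {M : Type*} [Monoid M] {f : ℕ → M} {n : ℕ}
    (hc : ∀ i j, Commute (f i) (f j)) (hn : f n = f 0) :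
    ((List.range n).map fun j => f (j + 1)).prod = ((List.range n).map f).prod := by
  cases n with
  | zero => rfl
  | succ n =>
    rw [List.range_succ, List.map_append, List.prod_append, List.map_singleton,
      List.prod_singleton, hn, ← List.range_succ, List.range_succ_eq_map, List.map_cons,
      List.prod_cons, List.map_map]
    refine (Commute.list_prod_left _ _ fun x hx => ?_).eq
    obtain ⟨j, -, rfl⟩ := List.mem_map.1 hx
    exact hc _ _

theorem prod_range_add_eq {M : Type*} [Monoid M] {f : ℕ → M} {n : ℕ}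
    (hc : ∀ i j, Commute (f i) (f j)) (hn : ∀ i, f (i + n) = f i) (r : ℕ) :
    ((List.range n).map fun j => f (j + r)).prod = ((List.range n).map f).prod := by
  induction r with
  | zero => rfl
  | succ r ih =>
    rw [← ih, ← prod_range_succ_eq (f := fun j => f (j + r)) (n := n) (fun i j => hc _ _)
      (by rw [Nat.zero_add, Nat.add_comm, hn])]
    exact congrArg List.prod (List.map_congr_left fun j _ => congrArg f (by omega))

/-- Two commuting families multiply componentwise. -/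
theorem prod_map_mul_of_commute {α M : Type*} [Monoid M] {f g : α → M} : ∀ {l : List α},
    l.Nodup → (∀ i ∈ l, ∀ j ∈ l, i ≠ j → Commute (g i) (f j)) →
    (l.map fun i => f i * g i).prod = (l.map f).prod * (l.map g).prod
  | [], _, _ => by simp
  | a :: l, hl, hc => by
    rw [List.nodup_cons] at hl
    rw [List.map_cons, List.map_cons, List.map_cons, List.prod_cons, List.prod_cons, List.prod_cons,
      prod_map_mul_of_commute hl.2 fun i hi j hj =>
        hc i (List.mem_cons_of_mem _ hi) j (List.mem_cons_of_mem _ hj)]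
    have h : Commute (g a) (l.map f).prod := Commute.list_prod_right _ _ fun x hx => by
      obtain ⟨j, hj, rfl⟩ := List.mem_map.1 hx
      exact hc a (List.mem_cons_self ..) j (List.mem_cons_of_mem _ hj) fun e => hl.1 (e ▸ hj)
    rw [mul_assoc (f a), ← mul_assoc (g a), h.eq]
    simp only [mul_assoc]

/-- The node `π ^ j` of the orbit of `base a`. -/
def orbNode {l m : ℕ} (π : Equiv.Perm (Fin l)) (base : Fin m → Fin l) (a : Fin m) (j : ℕ) :
    Fin l :=
  (π ^ j) (base a)

/-- The orbits of a symmetry on the nodes, each made of pairwise orthogonal roots. -/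
structure OrbitFacts (D : ChevalleyDatum) (π : Equiv.Perm (Fin D.rank)) (k : ℕ) {m : ℕ}
    (base : Fin m → Fin D.rank) (len : Fin m → ℕ) : Prop where
  len_pos : ∀ a, 0 < len a
  len_dvd : ∀ a, len a ∣ k
  period : ∀ a, (π ^ len a) (base a) = base a
  inj : ∀ a b, ∀ i : Fin (len a), ∀ j : Fin (len b),
    orbNode π base a i = orbNode π base b j → a = b ∧ (i : ℕ) = j
  cover : ∀ i, ∃ a, ∃ j : Fin (len a), orbNode π base a j = i
  orth : ∀ a, ∀ i j : Fin (len a), (i : ℕ) ≠ j →
    D.cartan (orbNode π base a i) (D.simple (orbNode π base a j)) = 0 ∧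
    D.reflectRoot (orbNode π base a i) (D.simple (orbNode π base a j)) =
      D.simple (orbNode π base a j) ∧
    (D.commTerms (D.simple (orbNode π base a i)) (D.simple (orbNode π base a j))).isEmpty = true ∧
    (D.commTerms (D.neg (D.simple (orbNode π base a i)))
      (D.simple (orbNode π base a j))).isEmpty = true ∧
    (D.commTerms (D.simple (orbNode π base a i))
      (D.neg (D.simple (orbNode π base a j)))).isEmpty = true ∧
    (D.commTerms (D.neg (D.simple (orbNode π base a i)))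
      (D.neg (D.simple (orbNode π base a j)))).isEmpty = true

/-- A diagram symmetry together with a field endomorphism of the same order. -/
structure Twist (D : ChevalleyDatum) (F : Type u) [Field F] where
  hF : Facts.{u} D
  π : Equiv.Perm (Fin D.rank)
  ρ : Equiv.Perm (Fin D.nroots)
  ε : Fin D.nroots → ℤ
  hG : GraphFacts D π ρ ε
  k : ℕ
  m : ℕ
  base : Fin m → Fin D.rank
  len : Fin m → ℕ
  hO : OrbitFacts D π k base len
  φ : F →+* F
  hφ : ∀ t, (φ ^ k) t = t

namespace Twist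

variable {D : ChevalleyDatum} {F : Type u} [Field F] (T : Twist D F)

/-- The node with index `j` in an orbit. -/
def node (a : Fin T.m) (j : ℕ) : Fin D.rank := orbNode T.π T.base a j

theorem node_zero (a : Fin T.m) : T.node a 0 = T.base a := rfl

theorem node_succ (a : Fin T.m) (j : ℕ) : T.node a (j + 1) = T.π (T.node a j) := by
  simp only [node, orbNode, pow_succ', Equiv.Perm.mul_apply]

theorem node_add (a : Fin T.m) (j : ℕ) : T.node a (j + T.len a) = T.node a j := by
  simp only [node, orbNode, pow_add, Equiv.Perm.mul_apply, T.hO.period a]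

theorem node_mod (a : Fin T.m) (j : ℕ) : T.node a j = T.node a (j % T.len a) := by
  induction j using Nat.strong_induction_on with
  | _ j ih =>
    by_cases h : j < T.len a
    · rw [Nat.mod_eq_of_lt h]
    · obtain ⟨i, rfl⟩ : ∃ i, j = i + T.len a := ⟨j - T.len a, by omega⟩
      rw [T.node_add, Nat.add_mod_right]
      exact ih i (by have := T.hO.len_pos a; omega)

theorem node_inj {a b : Fin T.m} {i j : ℕ} (hi : i < T.len a) (hj : j < T.len b)
    (e : T.node a i = T.node b j) : a = b ∧ i = j := T.hO.inj a b ⟨i, hi⟩ ⟨j, hj⟩ e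

theorem orbit_eq {a b : Fin T.m} {i j : ℕ} (e : T.node a i = T.node b j) : a = b := by
  rw [T.node_mod a i, T.node_mod b j] at e
  exact (T.node_inj (Nat.mod_lt _ (T.hO.len_pos a)) (Nat.mod_lt _ (T.hO.len_pos b)) e).1

theorem cover (i : Fin D.rank) : ∃ a, ∃ j < T.len a, T.node a j = i := by
  obtain ⟨a, j, h⟩ := T.hO.cover i
  exact ⟨a, j, j.2, h⟩

/-- A positive or negative fundamental root in an orbit. -/
def rt (s : Bool) (a : Fin T.m) (j : ℕ) : Fin D.nroots :=
  if s then sRoot T.hF (T.node a j) else negF T.hF (sRoot T.hF (T.node a j))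

theorem isPMSimple_rt (s : Bool) (a : Fin T.m) (j : ℕ) : IsPMSimple D (T.rt s a j) := by
  refine ⟨T.node a j, (T.node a j).2, ?_⟩
  cases s
  · exact Or.inr rfl
  · exact Or.inl rfl

theorem rho_sRoot (i : Fin D.rank) : T.ρ (sRoot T.hF i) = sRoot T.hF (T.π i) :=
  Fin.ext (T.hG.simple i (sRoot T.hF i) rfl).1

theorem rho_negF (r : Fin D.nroots) : T.ρ (negF T.hF r) = negF T.hF (T.ρ r) :=
  Fin.ext (T.hG.neg r (negF T.hF r) rfl).1

theorem rho_rt (s : Bool) (a : Fin T.m) (j : ℕ) : T.ρ (T.rt s a j) = T.rt s a (j + 1) := by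
  cases s <;> simp [rt, rho_negF, rho_sRoot, node_succ]

/-- The endomorphism of the ambient linear group. -/
def σ : GL D.Idx F →* GL D.Idx F := (T.hG.aut (F := F)).toMonoidHom.comp (gmap D T.φ)

theorem σ_apply (g : GL D.Idx F) : T.σ g = T.hG.aut (gmap D T.φ g) := rfl

/-- The fixed elements. -/
def fx : Subgroup (GL D.Idx F) := MonoidHom.eqLocus T.σ (MonoidHom.id _)

theorem mem_fx {g : GL D.Idx F} : g ∈ T.fx ↔ T.σ g = g := Iff.rfl

theorem σ_x (r : Fin D.nroots) :
    ∃ e : F, (e = 1 ∨ e = -1) ∧ ∀ t, T.σ (xG T.hF r t) = xG T.hF (T.ρ r) (e * T.φ t) := by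
  obtain ⟨e, he, h⟩ := T.hG.aut_x T.hF r (F := F)
  exact ⟨e, he, fun t => by rw [T.σ_apply, gmap_xG T.hF T.hF, h]⟩

theorem σ_pm {r : Fin D.nroots} (hr : IsPMSimple D r) (t : F) :
    T.σ (xG T.hF r t) = xG T.hF (T.ρ r) (T.φ t) := by
  rw [T.σ_apply, gmap_xG T.hF T.hF, T.hG.aut_pm T.hF hr]

theorem σ_rt (s : Bool) (a : Fin T.m) (j : ℕ) (t : F) :
    T.σ (xG T.hF (T.rt s a j) t) = xG T.hF (T.rt s a (j + 1)) (T.φ t) := by
  rw [T.σ_pm (T.isPMSimple_rt s a j), T.rho_rt]

theorem σ_nG_simple (i : Fin D.rank) (t : F) :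
    T.σ (nG T.hF (D.simple i) t) = nG T.hF (D.simple (T.π i)) (T.φ t) := by
  have h1 := T.σ_pm (r := sRoot T.hF i) ⟨i, i.2, Or.inl rfl⟩
  have h2 := T.σ_pm (r := negF T.hF (sRoot T.hF i)) ⟨i, i.2, Or.inr rfl⟩
  show T.σ (xG T.hF (sRoot T.hF i : ℕ) t * xG T.hF (negF T.hF (sRoot T.hF i) : ℕ) (-t⁻¹) *
    xG T.hF (sRoot T.hF i : ℕ) t) = _
  rw [map_mul, map_mul, h1, h2, T.rho_negF, T.rho_sRoot, map_neg, map_inv₀]
  rfl

theorem σ_nS (i : Fin D.rank) : T.σ (nS T.hF (i : ℕ)) = nS T.hF (T.π i : ℕ) := by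
  rw [nS, T.σ_nG_simple, map_one]
  rfl

theorem σ_nWord (w : List (Fin D.rank)) :
    T.σ (nWord T.hF w) = nWord T.hF (w.map T.π) := by
  rw [nWord, nWord, map_list_prod, List.map_map, List.map_map]
  exact congrArg List.prod (List.map_congr_left fun i _ => T.σ_nS i)

theorem chiU_perm (c : Fin D.rank → Fˣ) (r : Fin D.nroots) :
    chiU (fun i => c (T.π.symm i)) (T.ρ r) = chiU c r := by
  refine (Fintype.prod_equiv T.π _ _ fun i => ?_).symm
  simp only [Equiv.symm_apply_apply, T.hG.cartan i r]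

theorem aut_torusHom (c : Fin D.rank → Fˣ) :
    T.hG.aut (torusHom c : GL D.Idx F) = torusHom fun i => c (T.π.symm i) := by
  rw [T.hG.aut_eq, mul_inv_eq_iff_eq_mul]
  apply Units.ext
  ext a b
  obtain ⟨a, rfl⟩ := (Equiv.sumCongr T.π T.ρ).surjective a
  rw [Units.val_mul, Units.val_mul, T.hG.mat_mul_apply, T.hG.mul_mat_apply, torusHom_apply,
    torusHom_apply]
  by_cases h : a = b
  · subst h
    rw [if_pos rfl, if_pos rfl]
    rcases a with j | r
    · simp [graphWeight]
    · simp [T.chiU_perm c r, mul_comm]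
  · rw [if_neg h, if_neg fun e => h ((Equiv.injective _) e), mul_zero, zero_mul]

/-- The action on the parameters of the torus. -/
def σt : (Fin D.rank → Fˣ) →* (Fin D.rank → Fˣ) where
  toFun c i := Units.map T.φ.toMonoidHom (c (T.π.symm i))
  map_one' := by funext i; simp
  map_mul' c d := by funext i; simp

theorem σ_torusHom (c : Fin D.rank → Fˣ) : T.σ (torusHom c) = torusHom (T.σt c) := by
  rw [T.σ_apply, gmap_torusHom, T.aut_torusHom]
  rfl

/-- The fixed parameters of the torus. -/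
def cfix : Subgroup (Fin D.rank → Fˣ) := MonoidHom.eqLocus T.σt (MonoidHom.id _)

theorem mem_cfix {c : Fin D.rank → Fˣ} : c ∈ T.cfix ↔ T.σt c = c := Iff.rfl

theorem cfix_node {c : Fin D.rank → Fˣ} (hc : c ∈ T.cfix) (a : Fin T.m) :
    ∀ j, c (T.node a j) = Units.map (T.φ ^ j).toMonoidHom (c (T.base a)) := by
  intro j
  induction j with
  | zero => exact Units.ext rfl
  | succ j ih =>
    have h : Units.map T.φ.toMonoidHom (c (T.π.symm (T.node a (j + 1)))) = c (T.node a (j + 1)) :=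
      congrFun (T.mem_cfix.1 hc) _
    rw [← h, T.node_succ, Equiv.symm_apply_apply, ih]
    exact Units.ext (by rw [pow_succ']; rfl)

/-- The fixed torus. -/
noncomputable def T1 : Subgroup (GL D.Idx F) := T.cfix.map torusHom

theorem mem_T1 {g : GL D.Idx F} : g ∈ T.T1 ↔ ∃ c ∈ T.cfix, torusHom c = g := Iff.rfl

theorem T1_le_fx : T.T1 ≤ T.fx := by
  rintro g ⟨c, hc, rfl⟩
  rw [T.mem_fx, T.σ_torusHom, T.mem_cfix.1 hc]

theorem T1_le_diagonal : T.T1 ≤ D.diagonalSubgroup F := by
  rintro g ⟨c, -, rfl⟩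
  exact torusHom_mem T.hF c

theorem rho_pos (r : Fin D.nroots) : half D ≤ (T.ρ r : ℕ) ↔ half D ≤ (r : ℕ) := T.hG.pos r

theorem σ_uGens {P Q : Fin D.nroots → Prop} (h : ∀ r, P r → Q (T.ρ r)) {g : GL D.Idx F}
    (hg : g ∈ Subgroup.closure (uGens T.hF P)) : T.σ g ∈ Subgroup.closure (uGens T.hF Q) := by
  refine ((Subgroup.closure_le _).2 ?_ : Subgroup.closure (uGens T.hF P (F := F)) ≤
    (Subgroup.closure (uGens T.hF Q)).comap T.σ) hg
  rintro _ ⟨r, t, h1, h2, rfl⟩
  obtain ⟨e, -, he⟩ := T.σ_x r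
  exact Subgroup.subset_closure ⟨T.ρ r, e * T.φ t, (T.rho_pos r).2 h1, h r h2, he t⟩

theorem σ_uMinus {p : Equiv.Perm (Fin D.nroots)} (hp : Commute T.ρ p) {g : GL D.Idx F}
    (hg : g ∈ uMinus T.hF p) : T.σ g ∈ uMinus T.hF p :=
  T.σ_uGens (fun r hr => by
    rw [← Equiv.Perm.mul_apply, ← hp.eq, Equiv.Perm.mul_apply]
    exact not_le.1 fun h => absurd ((T.rho_pos _).1 h) (not_le.2 hr)) hg

theorem σ_uPlus {p : Equiv.Perm (Fin D.nroots)} (hp : Commute T.ρ p) {g : GL D.Idx F}
    (hg : g ∈ uPlus T.hF p) : T.σ g ∈ uPlus T.hF p :=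
  T.σ_uGens (fun r hr => by
    rw [← Equiv.Perm.mul_apply, ← hp.eq, Equiv.Perm.mul_apply]
    exact (T.rho_pos _).2 hr) hg

theorem σ_posUnipotent {g : GL D.Idx F} (hg : g ∈ D.posUnipotent F) :
    T.σ g ∈ D.posUnipotent F := by
  refine ((Subgroup.closure_le _).2 ?_ : D.posUnipotent F ≤ (D.posUnipotent F).comap T.σ) hg
  rintro x ⟨r, t, hr, e⟩
  obtain rfl : x = xG T.hF r t := Units.ext e
  obtain ⟨e', -, he⟩ := T.σ_x ⟨r, hr.1⟩
  show T.σ (xG T.hF r t) ∈ D.posUnipotent F
  rw [he t]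
  exact mem_posUnipotent_of T.hF (T.ρ _).2 ((T.rho_pos _).2 ((T.hF.posRoot_iff r hr.1).1 hr)) _

theorem rho_wPerm (i : Fin D.rank) : T.ρ * wPerm T.hF i = wPerm T.hF (T.π i) * T.ρ := by
  ext r
  simp only [Equiv.Perm.mul_apply, wPerm_val]
  exact T.hG.refl i r (wPerm T.hF i r) rfl

theorem rho_pWord (w : List (Fin D.rank)) :
    T.ρ * pWord T.hF w = pWord T.hF (w.map T.π) * T.ρ := by
  induction w with
  | nil => simp [pWord]
  | cons i w ih =>
    rw [List.map_cons, pWord_cons, pWord_cons, ← mul_assoc, T.rho_wPerm, mul_assoc,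
      ih, mul_assoc]

end Twist

end Cfsg.Agent.Chev
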