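import Cfsg.Agent.Chev.Twist.FoldData
import Cfsg.Agent.Chev.Twist.Common
import Cfsg.Agent.Chev.GraphData
import Cfsg.Agent.Chev.WeylAll

/-!
The twisted groups of type ³D₄.
-/

set_option autoImplicit false
set_option maxRecDepth 100000
set_option maxHeartbeats 4000000

namespace Cfsg.Agent.Chev

open Cfsg.Lie
open scoped MatrixGroups commutatorElement

universe u

/-- Representatives of the orbits on the nodes. -/
def d4Base (a : Fin 2) : Fin chevD4.rank :=
  ⟨([0, 1] : List ℕ).getD a 0, (by decide +kernel :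
    ∀ b : Fin 2, ([0, 1] : List ℕ).getD b 0 < chevD4.rank) a⟩

/-- Lengths of the orbits. -/
def d4Len (a : Fin 2) : ℕ := ([3, 1] : List ℕ).getD a 0

theorem d4_orbits : OrbitFacts chevD4 d4_031_π 3 d4Base d4Len where
  len_pos := by decide +kernel
  len_dvd := by decide +kernel
  period := by decide +kernel
  inj := by decide +kernel
  cover := by decide +kernel
  orth := by decide +kernel

/-- The twist giving ³D₄. -/
def twistD4 (K : Type u) [Field K] (φ : K →+* K) (hφ : ∀ t, (φ ^ 3) t = t) : Twist chevD4 K where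
  hF := facts_chevD4
  π := d4_031_π
  ρ := d4_031_ρ
  ε := fun r => d4_031_E.getD r 0
  hG := d4_031_facts
  k := 3
  m := 2
  base := d4Base
  len := d4Len
  hO := d4_orbits
  φ := φ
  hφ := hφ

/-- The image roots in type G₂. -/
def d4FoldP : List ℕ := [0, 1, 2, 2, 3, 4, 2, 3, 3, 5, 4, 4, 7, 7, 6, 8, 8, 9, 7, 8, 9, 9, 10, 11]

/-- The sizes of the fibres. -/
def d4FoldW : List ℕ := [1, 1, 3, 3, 3, 1, 1, 3, 3, 3, 1, 1]

theorem d4Fold_lt : ∀ r : Fin chevD4.nroots, d4FoldP.getD r 0 < chevG2.nroots := by decide +kernel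

theorem d4Fold_surj : ∀ s : Fin chevG2.nroots, ∃ r : Fin chevD4.nroots, d4FoldP.getD r 0 = s := by
  decide +kernel

theorem d4Fold_pos : ∀ r : Fin chevD4.nroots,
    half chevD4 ≤ (r : ℕ) ↔ half chevG2 ≤ d4FoldP.getD r 0 := by
  decide +kernel

theorem d4Fold_fib : ∀ s : Fin chevG2.nroots,
    ((List.finRange chevD4.nroots).filter fun r : Fin chevD4.nroots =>
      d4FoldP.getD r 0 == (s : ℕ)).length = d4FoldW.getD s 0 := by
  decide +kernel

theorem d4Fold_inter : ∀ (a : Fin 2) (r : Fin chevD4.nroots),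
    d4FoldP.getD ((orbNats d4_031_π d4Base d4Len a).foldr (fun i s => chevD4.reflectRoot i s) r) 0 =
      chevG2.reflectRoot a (d4FoldP.getD r 0) := by
  decide +kernel

theorem d4_words₁ : ∀ (s : Bool) (a : Fin 2), d4Len a = 1 →
    rtNat chevD4 d4_031_π d4Base s a 0 ∈ [d4p2, d4m2] := by
  decide +kernel

theorem d4_words₂ : ∀ (s : Bool) (a : Fin 2), d4Len a = 3 →
    (rtNat chevD4 d4_031_π d4Base s a 0, rtNat chevD4 d4_031_π d4Base s a 1,
      rtNat chevD4 d4_031_π d4Base s a 2) ∈ [(d4p1, d4p3, d4p4), (d4m1, d4m3, d4m4)] := by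
  decide +kernel

theorem d4_words₁' : ∀ r ∈ [d4p2, d4m2], ∃ (s : Bool) (a : Fin 2),
    d4Len a = 1 ∧ r = rtNat chevD4 d4_031_π d4Base s a 0 := by
  decide +kernel

theorem d4_words₂' : ∀ rs ∈ [(d4p1, d4p3, d4p4), (d4m1, d4m3, d4m4)],
    ∃ (s : Bool) (a : Fin 2), d4Len a = 3 ∧
      rs = (rtNat chevD4 d4_031_π d4Base s a 0, rtNat chevD4 d4_031_π d4Base s a 1,
        rtNat chevD4 d4_031_π d4Base s a 2) := by
  decide +kernel

theorem d4Fold_id : chkEq (pmul (pprod ((wDegs g2Rows d4FoldW g2Levels).map psum))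
    (pprod [[-1, 1], [-1, 1], [1, 1, 1]]))
    (pprod [padd (pmon 2) [-1], padd (pmon 6) [-1], [1, 0, 0, 0, 1, 0, 0, 0, 1]]) = true := by
  decide +kernel

variable {K : Type u} [Field K] (φ : K →+* K) (hφ : ∀ t, (φ ^ 3) t = t)

/-- The folding onto G₂. -/
def d4Fold : (twistD4 K φ hφ).Fold chevG2 facts_chevG2 :=
  (twistD4 K φ hφ).foldOf chevG2 facts_chevG2 d4FoldP d4FoldW (fun a => a) d4Fold_lt d4Fold_surj
    Function.surjective_id d4Fold_pos d4Fold_fib d4Fold_inter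

theorem d4_G1_eq {q : ℕ} (hq : ∀ t, φ t = t ^ q) :
    (twistD4 K φ hφ).G1 = twistedD4 K q := by
  set T := twistD4 K φ hφ with hT
  have key : ∀ (w : List (ℕ × K)) (g : GL chevD4.Idx K),
      ((g : Matrix chevD4.Idx chevD4.Idx K) = chevD4.wordMat K w) ↔ g = wordG T.hF w :=
    fun w g => ⟨fun e => Units.ext (e.trans (wordG_val T.hF w).symm),
      fun e => e ▸ wordG_val T.hF w⟩
  have hq2 : ∀ t, (φ ^ 2) t = t ^ q ^ 2 := fun t => by
    rw [pow_two, RingHom.mul_def, RingHom.comp_apply, hq, hq, ← pow_mul, pow_two]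
  have n1 : ∀ (s : Bool) (a : Fin 2), d4Len a = 1 → ∀ t, T.y s a t =
      wordG T.hF [(rtNat chevD4 d4_031_π d4Base s a 0, t)] := by
    intro s a h t
    show ((List.range (d4Len a)).map _).prod = _
    rw [h]
    cases s <;> rfl
  have n3 : ∀ (s : Bool) (a : Fin 2), d4Len a = 3 → ∀ t, T.y s a t =
      wordG T.hF [(rtNat chevD4 d4_031_π d4Base s a 0, t),
        (rtNat chevD4 d4_031_π d4Base s a 1, t ^ q),
        (rtNat chevD4 d4_031_π d4Base s a 2, t ^ q ^ 2)] := by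
    intro s a h t
    show ((List.range (d4Len a)).map _).prod = _
    rw [h, ← hq t, ← hq2 t]
    cases s <;>
      simp [List.range_succ, wordG, T, twistD4, rtNat, Twist.rt, Twist.node, sRoot, negF, mul_assoc]
  refine le_antisymm ((Subgroup.closure_le _).2 ?_) ((Subgroup.closure_le _).2 ?_)
  · rintro g ⟨s, a, t, ht, rfl⟩
    refine Subgroup.subset_closure ?_
    change Fin 2 at a
    have h12 : d4Len a = 1 ∨ d4Len a = 3 :=
      (by decide +kernel : ∀ b : Fin 2, d4Len b = 1 ∨ d4Len b = 3) a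
    rcases h12 with h | h
    · refine ⟨_, Or.inl ⟨t, ?_, rtNat chevD4 d4_031_π d4Base s a 0, ?_, rfl⟩,
        (key _ _).2 (n1 s a h t)⟩
      · rw [← hq]
        change (φ ^ d4Len a) t = t at ht
        rwa [h, pow_one] at ht
      · exact d4_words₁ s a h
    · exact ⟨_, Or.inr ⟨t, (rtNat chevD4 d4_031_π d4Base s a 0, rtNat chevD4 d4_031_π d4Base s a 1,
        rtNat chevD4 d4_031_π d4Base s a 2), d4_words₂ s a h, rfl⟩, (key _ _).2 (n3 s a h t)⟩
  · rintro g ⟨w, hw, e⟩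
    rw [key] at e
    subst e
    rcases hw with ⟨t, ht, r, hr, rfl⟩ | ⟨t, rs, hrs, rfl⟩
    · obtain ⟨s, a, h, rfl⟩ := d4_words₁' r hr
      refine n1 s a h t ▸ T.y_mem_G1 ?_ s
      show (φ ^ d4Len a) t = t
      rw [h, pow_one, hq, ht]
    · obtain ⟨s, a, h, rfl⟩ := d4_words₂' rs hrs
      refine n3 s a h t ▸ T.y_mem_G1 ?_ s
      show (φ ^ d4Len a) t = t
      rw [h, hφ]

end Cfsg.Agent.Chev
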