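import Cfsg.Agent.Chev.Twist.Group
import Cfsg.Agent.Chev.WPoincare
import Cfsg.Agent.Chev.WeylCoxeter

/-!
The Weyl group of a twisted group as the Weyl group of the folded diagram.
-/

set_option autoImplicit false
set_option maxHeartbeats 1000000

namespace Cfsg.Agent.Chev

open Cfsg.Lie
open scoped MatrixGroups

universe u

theorem pWord_val {D : ChevalleyDatum} (hF : Facts.{u} D) (w : List (Fin D.rank))
    (r : Fin D.nroots) :
    (pWord hF w r : ℕ) = (w.map Fin.val).foldr (fun i s => D.reflectRoot i s) r := by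
  induction w with
  | nil => rfl
  | cons i w ih => rw [pWord_cons, Equiv.Perm.mul_apply, wPerm_val, ih]; rfl

namespace Twist

variable {D : ChevalleyDatum} {F : Type u} [Field F]

/-- A map of the roots onto those of the folded diagram. -/
structure Fold (T : Twist D F) (D' : ChevalleyDatum) (hF' : Facts.{u} D') where
  f : Fin D.nroots → Fin D'.nroots
  g : Fin T.m → Fin D'.rank
  surj : Function.Surjective f
  gsurj : Function.Surjective g
  pos : ∀ r : Fin D.nroots, half D ≤ (r : ℕ) ↔ half D' ≤ (f r : ℕ)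
  wts : List ℕ
  fib : ∀ s, (Finset.univ.filter fun r => f r = s).card = wts.getD (s : ℕ) 0
  inter : ∀ a r, f (T.wA a r) = wPerm hF' (g a) (f r)

variable {T : Twist D F} {D' : ChevalleyDatum} {hF' : Facts.{u} D'} (Φ : T.Fold D' hF')

namespace Fold

theorem wts_invariant (i : Fin D'.rank) (s : Fin D'.nroots) :
    Φ.wts.getD (wPerm hF' i s : ℕ) 0 = Φ.wts.getD (s : ℕ) 0 := by
  classical
  obtain ⟨a, rfl⟩ := Φ.gsurj i
  rw [← Φ.fib, ← Φ.fib]
  refine (Finset.card_bij (fun r _ => T.wA a r) (fun r hr => ?_)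
    (fun x _ y _ e => (T.wA a).injective e) (fun r hr => ?_)).symm
  · simp only [Finset.mem_filter, Finset.mem_univ, true_and] at hr ⊢
    rw [Φ.inter, hr]
  · simp only [Finset.mem_filter, Finset.mem_univ, true_and] at hr
    refine ⟨T.wA a r, ?_, by rw [← Equiv.Perm.mul_apply, T.wA_sq, Equiv.Perm.one_apply]⟩
    simp only [Finset.mem_filter, Finset.mem_univ, true_and]
    rw [Φ.inter, hr, ← Equiv.Perm.mul_apply, wPerm_sq, Equiv.Perm.one_apply]

theorem inter_word : ∀ (ws : List (Fin T.m)) (r : Fin D.nroots),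
    Φ.f (T.pW ws r) = pWord hF' (ws.map Φ.g) (Φ.f r) := by
  intro ws r
  induction ws with
  | nil => rfl
  | cons a ws ih =>
    rw [T.pW_cons, List.map_cons, pWord_cons, Equiv.Perm.mul_apply, Equiv.Perm.mul_apply,
      Φ.inter, ih]

/-- The relation between an element of `W¹` and an element of the folded Weyl group. -/
def Rel (p : Equiv.Perm (Fin D.nroots)) (p' : Equiv.Perm (Fin D'.nroots)) : Prop :=
  ∀ r, Φ.f (p r) = p' (Φ.f r)

theorem rel_exists {p : Equiv.Perm (Fin D.nroots)} (hp : T.InW1 p) :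
    ∃ p' ∈ weyl hF', Φ.Rel p p' := by
  obtain ⟨ws, rfl⟩ := T.exists_pW hp
  exact ⟨_, pWord_mem hF' _, Φ.inter_word ws⟩

theorem rel_unique {p : Equiv.Perm (Fin D.nroots)} {p' q' : Equiv.Perm (Fin D'.nroots)}
    (h : Φ.Rel p p') (h' : Φ.Rel p q') : p' = q' := Equiv.ext fun s => by
  obtain ⟨r, rfl⟩ := Φ.surj s
  rw [← h, h']

theorem rel_mul {p q : Equiv.Perm (Fin D.nroots)} {p' q' : Equiv.Perm (Fin D'.nroots)}
    (h : Φ.Rel p p') (h' : Φ.Rel q q') : Φ.Rel (p * q) (p' * q') := fun r => by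
  rw [Equiv.Perm.mul_apply, Equiv.Perm.mul_apply, h, h']

/-- The homomorphism onto the folded Weyl group. -/
noncomputable def hom : ↥T.w1 →* ↥(weyl hF') :=
  MonoidHom.mk' (fun p => ⟨(Φ.rel_exists p.2).choose, (Φ.rel_exists p.2).choose_spec.1⟩)
    fun p q => Subtype.ext (Φ.rel_unique (Φ.rel_exists (p * q).2).choose_spec.2
      (Φ.rel_mul (Φ.rel_exists p.2).choose_spec.2 (Φ.rel_exists q.2).choose_spec.2))

theorem hom_rel (p : ↥T.w1) : Φ.Rel p (Φ.hom p) := (Φ.rel_exists p.2).choose_spec.2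

theorem hom_injective : Function.Injective Φ.hom := by
  rw [injective_iff_map_eq_one]
  intro p hp
  refine Subtype.ext (eq_one_of_pos T.hF p.2.1 fun i => ?_)
  rw [Φ.pos, Φ.hom_rel, hp, Subgroup.coe_one, Equiv.Perm.one_apply, ← Φ.pos]
  exact T.hF.simple_pos i i.2

theorem hom_surjective : Function.Surjective Φ.hom := by
  rintro ⟨p', hp'⟩
  obtain ⟨w, rfl⟩ := exists_pWord hF' hp'
  obtain ⟨ws, rfl⟩ : ∃ ws, ws.map Φ.g = w :=
    ⟨w.map (Function.surjInv Φ.gsurj), by
      rw [List.map_map, (Function.rightInverse_surjInv Φ.gsurj).comp_eq_id, List.map_id]⟩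
  exact ⟨⟨T.pW ws, T.inW1_pW ws⟩, Subtype.ext (Φ.rel_unique (Φ.hom_rel _) (Φ.inter_word ws))⟩

theorem invCard_eq_wCount {p : Equiv.Perm (Fin D.nroots)} {p' : Equiv.Perm (Fin D'.nroots)}
    (h : Φ.Rel p p') :
    invCard p = wCount (fun s : Fin D'.nroots => Φ.wts.getD (s : ℕ) 0) p' := by
  classical
  rw [invCard_eq, wCount, Finset.card_eq_sum_card_fiberwise (f := Φ.f) (t := invSet p')]
  · refine Finset.sum_congr rfl fun s hs => ?_
    rw [← Φ.fib s]
    refine congrArg Finset.card (Finset.ext fun r => ?_)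
    rw [mem_invSet] at hs
    simp only [Finset.mem_filter, Finset.mem_univ, true_and, mem_invSet]
    refine ⟨And.right, fun e => ⟨⟨(Φ.pos r).2 (e ▸ hs.1), not_le.1 fun hc => ?_⟩, e⟩⟩
    rw [Φ.pos, h, e] at hc
    exact absurd hc (not_le.2 hs.2)
  · intro r hr
    rw [Finset.mem_coe, mem_invSet] at hr ⊢
    refine ⟨(Φ.pos r).1 hr.1, not_le.1 fun hc => ?_⟩
    rw [← h, ← Φ.pos] at hc
    exact absurd hc (not_le.2 hr.2)

theorem poin1_eq (q : ℕ) :
    T.poin1 q = wpoin hF' (fun s : Fin D'.nroots => Φ.wts.getD (s : ℕ) 0) Finset.univ q := by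
  classical
  rw [poin1, wpoin]
  refine Finset.sum_bij (fun p hp => (Φ.hom ⟨p, (Finset.mem_filter.1 hp).2⟩ :
    Equiv.Perm (Fin D'.nroots))) ?_ ?_ ?_ ?_
  · intro p hp
    rw [Set.Finite.mem_toFinset, SetLike.mem_coe, wJ_univ]
    exact (Φ.hom _).2
  · intro p hp p' hp' e
    exact congrArg Subtype.val (Φ.hom_injective (Subtype.ext e))
  · intro p' hp'
    rw [Set.Finite.mem_toFinset, SetLike.mem_coe, wJ_univ] at hp'
    obtain ⟨⟨p, hp⟩, e⟩ := Φ.hom_surjective ⟨p', hp'⟩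
    exact ⟨p, Finset.mem_filter.2 ⟨Finset.mem_univ _, hp⟩, congrArg Subtype.val e⟩
  · intro p hp
    exact congrArg (q ^ ·) (Φ.invCard_eq_wCount (Φ.hom_rel ⟨p, (Finset.mem_filter.1 hp).2⟩))

theorem card_G1 [Finite F] {q : ℕ} (hq : ∀ a, Nat.card {t : F // T.Par a t} = q ^ T.len a)
    {C : Cert} (h : Checks D' C) {rows : List (List ℤ)} (hrows : chkRows D' C rows = true)
    {Ls : List Level} (hc : chkChain D' C rows Ls = true)
    (hall : allBelow (fun i => (Ls.map Level.k).contains i) D'.rank = true)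
    {extra rhs : List ℤ}
    (hid : chkEq (pmul (pprod ((wDegs rows Φ.wts Ls).map psum)) extra) rhs = true) :
    ((Nat.card ↥T.G1 : ℕ) : ℤ) * peval (q : ℤ) extra =
      ((q ^ half D * Nat.card ↥T.T1 : ℕ) : ℤ) * peval (q : ℤ) rhs := by
  rw [T.card_G1 hq, Φ.poin1_eq, wpoin_univ h hF' hrows Φ.wts Φ.wts_invariant q hc hall]
  have e := peval_eq_of_chkEq (q : ℤ) hid
  rw [peval_pmul, peval_pprod, wDegs, List.map_map, List.map_map] at e
  rw [← e, Nat.cast_mul, mul_assoc]
  congr 2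
  rw [Nat.cast_list_prod, List.map_map]
  refine congrArg List.prod (List.map_congr_left fun L _ => ?_)
  simp only [Function.comp_apply, peval_psum, Nat.cast_list_sum, List.map_map]
  exact congrArg List.sum (List.map_congr_left fun l _ => by simp)

include Φ in
theorem exists_monomial_hom (M : CoxeterMatrix (Fin D'.rank))
    (hM : ∀ i j, orderOf (wPerm hF' i * wPerm hF' j) = M i j) :
    ∃ φ : ↥(D.monomialSubgroup F ⊓ T.G1) →* M.Group, Function.Surjective φ ∧
      φ.ker = (D.diagonalSubgroup F ⊓ T.G1).subgroupOf (D.monomialSubgroup F ⊓ T.G1) := by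
  obtain ⟨cs, -⟩ := exists_weylCoxeter hF' M hM
  have hin : ∀ g : ↥(D.monomialSubgroup F ⊓ T.G1),
      monPerm T.hF (g : GL D.Idx F) ∈ T.w1 := by
    intro g
    obtain ⟨ws, h, hh, e⟩ := T.mem_N1.1 (T.G1_inf_monomial.le g.2)
    rw [e, monPerm_eq T.hF (isMon_mul T.hF (T.isMon_nW ws) (T.T1_isMon hh)), mul_one]
    exact T.inW1_pW ws
  let ψ : ↥(D.monomialSubgroup F ⊓ T.G1) →* ↥T.w1 :=
    ((monHom T.hF).comp (Subgroup.inclusion inf_le_left)).codRestrict T.w1 hin
  refine ⟨cs.mulEquiv.toMonoidHom.comp (Φ.hom.comp ψ),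
    cs.mulEquiv.surjective.comp (Φ.hom_surjective.comp ?_), ?_⟩
  · rintro ⟨p, hp⟩
    obtain ⟨ws, rfl⟩ := T.exists_pW hp
    exact ⟨⟨T.nW ws, T.G1_inf_monomial.ge (T.nW_mem_N1 ws)⟩,
      Subtype.ext (monPerm_eq T.hF (T.isMon_nW ws))⟩
  · ext g
    simp only [MonoidHom.mem_ker, MonoidHom.comp_apply, MulEquiv.coe_toMonoidHom,
      MulEquiv.map_eq_one_iff, map_eq_one_iff _ Φ.hom_injective, Subgroup.mem_subgroupOf]
    rw [show ψ g = 1 ↔ monPerm T.hF (g : GL D.Idx F) = 1 from Subtype.ext_iff, T.G1_inf_diagonal]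
    constructor
    · intro h
      refine T.N1_mem_T1 (T.G1_inf_monomial.le g.2) ?_
      rw [← h]
      exact isMon_monPerm T.hF g.2.1
    · exact fun h => monPerm_eq T.hF (T.T1_isMon h)

end Fold

end Twist

end Cfsg.Agent.Chev
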