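import Cfsg.Agent.Chev.Twist.Group
import Cfsg.Agent.S0319
import Mathlib.GroupTheory.IsPerfect

/-!
Perfectness and simplicity of a twisted group.
-/

set_option autoImplicit false

namespace Cfsg.Agent.Chev

open Cfsg.Lie
open scoped MatrixGroups commutatorElement

universe u

namespace Twist

variable {D : ChevalleyDatum} {F : Type u} [Field F] (T : Twist D F)

theorem conj_mem_comm {x g : GL D.Idx F} (hg : g ∈ T.G1) (hx : x ∈ ⁅T.G1, T.G1⁆) :
    g * x * g⁻¹ ∈ ⁅T.G1, T.G1⁆ := by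
  rw [show g * x * g⁻¹ = ⁅g, x⁆ * x by rw [commutatorElement_def]; group]
  exact Subgroup.mul_mem _
    (Subgroup.commutator_mem_commutator hg (Subgroup.commutator_le_self _ hx)) hx

theorem y_mem_comm_of_torus {a : Fin T.m} {c : Fin D.rank → Fˣ} (hc : c ∈ T.cfix)
    (hχ : chiU c (T.rt true a 0) ≠ 1) {t : F} (ht : T.Par a t) :
    T.y true a t ∈ ⁅T.G1, T.G1⁆ := by
  set χ : F := (chiU c (T.rt true a 0) : F) with hχdef
  have hne : χ - 1 ≠ 0 := sub_ne_zero.2 fun e => hχ (Units.ext e)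
  set s := t / (χ - 1) with hs
  have hsp : T.Par a s := by
    have h1 : T.Par a (χ - 1) := by
      rw [sub_eq_add_neg]; exact T.par_add (T.par_chiU hc true a) (T.par_neg (T.par_one a))
    rw [hs, div_eq_mul_inv]
    exact T.par_mul ht (T.par_inv h1)
  have hts : t = χ * s + -s := by rw [hs]; field_simp; ring
  rw [show T.y true a t = ⁅(torusHom c : GL D.Idx F), T.y true a s⁆ by
    rw [commutatorElement_def, T.torus_conj_y hc, T.y_inv, T.y_mul, ← hts]]
  exact Subgroup.commutator_mem_commutator (T.T1_le_G1 (T.mem_T1.2 ⟨c, hc, rfl⟩))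
    (T.y_mem_G1 hsp _)

theorem commutator_eq_top (h : ∀ a t, T.Par a t → T.y true a t ∈ ⁅T.G1, T.G1⁆) :
    commutator ↥T.G1 = ⊤ := by
  have hle : T.G1 ≤ ⁅T.G1, T.G1⁆ := by
    refine (Subgroup.closure_le _).2 ?_
    rintro g ⟨s, a, t, ht, rfl⟩
    cases s
    · rw [show T.y false a t = T.nA a * T.y true a (-t) * (T.nA a)⁻¹ by
        rw [T.nA_conj_y, neg_neg]]
      exact T.conj_mem_comm (T.nA_mem_G1 a) (h a _ (T.par_neg ht))
    · exact h a t ht
  apply Subgroup.map_injective T.G1.subtype_injective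
  rw [Subgroup.map_subtype_commutator, ← MonoidHom.range_eq_map, Subgroup.range_subtype]
  exact le_antisymm (Subgroup.commutator_le_self _) hle

theorem m_pos : 0 < T.m := by
  obtain ⟨a, -⟩ := T.cover ⟨0, T.hF.rank_pos⟩
  exact a.pos

theorem nontrivial_G1 : Nontrivial ↥T.G1 := by
  refine ⟨⟨⟨T.y true ⟨0, T.m_pos⟩ 1, T.y_mem_G1 (T.par_one _) true⟩, 1, fun e => ?_⟩⟩
  have h : T.y true ⟨0, T.m_pos⟩ 1 = T.y true ⟨0, T.m_pos⟩ 0 := by
    rw [T.y_zero]; exact congrArg Subtype.val e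
  exact one_ne_zero (T.y_injective h)

theorem irreducible
    (hconn : ∀ f : Fin T.m → Bool,
      (∀ a b, T.wA a * T.wA b ≠ T.wA b * T.wA a → f a = f b) → ∀ a b, f a = f b) :
    T.bnPair1.Irreducible := by
  classical
  intro J hJ hJne hJc
  by_contra hno
  push Not at hno
  obtain ⟨s, hs⟩ := hJne
  obtain ⟨a, rfl⟩ := hJ hs
  obtain ⟨r, ⟨b, rfl⟩, hr⟩ := hJc
  have key : ∀ x y, T.nG1 x ∈ J → T.nG1 y ∉ J → T.wA x * T.wA y = T.wA y * T.wA x := by
    intro x y hx hy
    have h := hno _ hx _ ⟨⟨y, rfl⟩, hy⟩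
    simp only [bnPair1, Subgroup.mem_subgroupOf] at h
    rw [T.G1_inf_borel] at h
    simp only [Subgroup.coe_mul, Subgroup.coe_inv, nG1] at h
    have hN : T.nA x * T.nA y * (T.nA x)⁻¹ * (T.nA y)⁻¹ ∈ T.N1 :=
      Subgroup.mul_mem _ (Subgroup.mul_mem _ (Subgroup.mul_mem _ (T.nA_mem_N1 x) (T.nA_mem_N1 y))
        (Subgroup.inv_mem _ (T.nA_mem_N1 x))) (Subgroup.inv_mem _ (T.nA_mem_N1 y))
    have hd := T.T1_isMon (T.B1_inf_N1 h hN)
    have h2 := isMon_unique T.hF hd (isMon_mul T.hF (isMon_mul T.hF (isMon_mul T.hF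
      (T.isMon_nA x) (T.isMon_nA y)) (isMon_inv' T.hF (T.isMon_nA x)))
      (isMon_inv' T.hF (T.isMon_nA y)))
    rw [eq_comm, mul_inv_eq_one, mul_inv_eq_iff_eq_mul] at h2
    exact h2
  have := hconn (fun x => decide (T.nG1 x ∈ J)) (fun x y hne => by
    simp only [decide_eq_decide]
    by_contra hiff
    rcases Classical.em (T.nG1 x ∈ J) with hx | hx
    · exact hne (key x y hx fun hy => hiff (iff_of_true hx hy))
    · rcases Classical.em (T.nG1 y ∈ J) with hy | hy
      · exact hne (key y x hy hx).symm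
      · exact hiff (iff_of_false hx hy)) a b
  simp only [decide_eq_decide] at this
  exact hr (this.1 hs)

theorem isSimpleGroup (hperf : commutator ↥T.G1 = ⊤)
    (hconn : ∀ f : Fin T.m → Bool,
      (∀ a b, T.wA a * T.wA b ≠ T.wA b * T.wA a → f a = f b) → ∀ a b, f a = f b) :
    IsSimpleGroup ↥T.G1 ∧ ¬ IsMulCommutative ↥T.G1 := by
  have := T.nontrivial_G1
  refine ⟨Cfsg.Agent.S0319.result T.bnPair1 (T.irreducible hconn) ?_ hperf T.core_trivial, ?_⟩
  · show Group.IsSolvable ↥((D.borelSubgroup F ⊓ T.G1).subgroupOf T.G1)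
    have := borel_isSolvable T.hF (F := F)
    exact Group.isSolvable_of_isSolvable_injective
      (f := (T.G1.subtype.comp ((D.borelSubgroup F ⊓ T.G1).subgroupOf T.G1).subtype).codRestrict
        (D.borelSubgroup F) fun g => (Subgroup.mem_subgroupOf.1 g.2).1)
      fun x y e => Subtype.ext (Subtype.ext (congrArg Subtype.val e :))
  · intro hc
    have h0 : commutator ↥T.G1 = ⊥ := by
      rw [commutator_def, Subgroup.commutator_eq_bot_iff_le_centralizer]
      intro x _ y _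
      exact hc.is_comm.comm y x
    exact top_ne_bot (hperf.symm.trans h0)

end Twist

end Cfsg.Agent.Chev
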