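import Cfsg.Agent.Chev.Twist.Fold
import Cfsg.Agent.Chev.Twist.Simple

/-!
A folding from tables.
-/

set_option autoImplicit false

namespace Cfsg.Agent.Chev

open Cfsg.Lie
open scoped MatrixGroups

universe u

/-- The nodes of an orbit, as numbers. -/
def orbNats {l m : ℕ} (π : Equiv.Perm (Fin l)) (base : Fin m → Fin l) (len : Fin m → ℕ) (a : Fin m) :
    List ℕ :=
  (List.range (len a)).map fun j => (orbNode π base a j : ℕ)

/-- A positive or negative fundamental root of an orbit, as a number. -/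
def rtNat (D : ChevalleyDatum) {m : ℕ} (π : Equiv.Perm (Fin D.rank)) (base : Fin m → Fin D.rank)
    (s : Bool) (a : Fin m) (j : ℕ) : ℕ :=
  if s then D.simple (orbNode π base a j) else D.neg (D.simple (orbNode π base a j))

namespace Twist

variable {D : ChevalleyDatum} {F : Type u} [Field F] (T : Twist D F)

theorem orb_vals (a : Fin T.m) : (T.orb a).map Fin.val = orbNats T.π T.base T.len a := by
  rw [orb, List.map_map]; rfl

theorem rt_val (s : Bool) (a : Fin T.m) (j : ℕ) :
    (T.rt s a j : ℕ) = rtNat D T.π T.base s a j := by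
  cases s <;> rfl

theorem pW_single_val (a : Fin T.m) (r : Fin D.nroots) :
    (T.pW [a] r : ℕ) =
      (orbNats T.π T.base T.len a).foldr (fun i s => D.reflectRoot i s) (r : ℕ) := by
  rw [show T.pW [a] = T.wA a by rw [T.pW_cons, T.pW_nil, mul_one], wA, pWord_val, T.orb_vals]

/-- A folding from tables. -/
def foldOf (D' : ChevalleyDatum) (hF' : Facts.{u} D') (P wts : List ℕ) (g : Fin T.m → Fin D'.rank)
    (hlt : ∀ r : Fin D.nroots, P.getD r 0 < D'.nroots)
    (hsurj : ∀ s : Fin D'.nroots, ∃ r : Fin D.nroots, P.getD r 0 = s)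
    (hg : Function.Surjective g)
    (hpos : ∀ r : Fin D.nroots, half D ≤ (r : ℕ) ↔ half D' ≤ P.getD r 0)
    (hfib : ∀ s : Fin D'.nroots,
      ((List.finRange D.nroots).filter fun r : Fin D.nroots => P.getD r 0 == (s : ℕ)).length =
        wts.getD s 0)
    (hinter : ∀ (a : Fin T.m) (r : Fin D.nroots),
      P.getD ((orbNats T.π T.base T.len a).foldr (fun i s => D.reflectRoot i s) r) 0 =
        D'.reflectRoot (g a) (P.getD r 0)) : T.Fold D' hF' where
  f r := ⟨P.getD r 0, hlt r⟩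
  g := g
  surj s := by
    obtain ⟨r, hr⟩ := hsurj s
    exact ⟨r, Fin.ext hr⟩
  gsurj := hg
  pos := hpos
  wts := wts
  fib s := by
    rw [← hfib s, ← List.toFinset_card_of_nodup ((List.nodup_finRange _).filter _)]
    refine congrArg Finset.card (Finset.ext fun r => ?_)
    simp [Fin.ext_iff]
  inter a r := Fin.ext (by
    rw [wPerm_val]
    show P.getD (T.wA a r : ℕ) 0 = _
    rw [wA, pWord_val, T.orb_vals]
    exact hinter a r)

theorem Fold.wA_ne {D' : ChevalleyDatum} {hF' : Facts.{u} D'} (Φ : T.Fold D' hF') (a b : Fin T.m)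
    (h : 3 ≤ orderOf (wPerm hF' (Φ.g a) * wPerm hF' (Φ.g b))) :
    T.wA a * T.wA b ≠ T.wA b * T.wA a := by
  intro e
  have e' : wPerm hF' (Φ.g a) * wPerm hF' (Φ.g b) = wPerm hF' (Φ.g b) * wPerm hF' (Φ.g a) := by
    refine Equiv.ext fun s => ?_
    obtain ⟨r, rfl⟩ := Φ.surj s
    rw [Equiv.Perm.mul_apply, Equiv.Perm.mul_apply, ← Φ.inter, ← Φ.inter, ← Φ.inter, ← Φ.inter,
      ← Equiv.Perm.mul_apply, e, Equiv.Perm.mul_apply]
  have h4 : (wPerm hF' (Φ.g a) * wPerm hF' (Φ.g b)) ^ 2 = 1 := by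
    rw [pow_two]
    conv_lhs => arg 1; rw [e']
    rw [mul_assoc, ← mul_assoc (wPerm hF' (Φ.g a)) (wPerm hF' (Φ.g a)), wPerm_sq, one_mul, wPerm_sq]
  have := Nat.le_of_dvd two_pos (orderOf_dvd_of_pow_eq_one h4)
  omega

end Twist

end Cfsg.Agent.Chev
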