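import Cfsg.Agent.Chev.Twist.Basic

/-!
The fixed elements attached to an orbit of fundamental roots.
-/

set_option autoImplicit false
set_option maxHeartbeats 1000000

namespace Cfsg.Agent.Chev

open Cfsg.Lie
open scoped MatrixGroups

universe u

theorem isMon_inv' {D : ChevalleyDatum} {F : Type u} [Field F] (hF : Facts.{u} D) {g : GL D.Idx F}
    {π : Equiv.Perm (Fin D.nroots)} (h : IsMon hF g π) : IsMon hF g⁻¹ π⁻¹ := by
  intro r
  obtain ⟨c, hc, h⟩ := h (π⁻¹ r)
  rw [app_inv] at h
  refine ⟨c⁻¹, inv_ne_zero hc, fun t => ?_⟩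
  have e := h (c⁻¹ * t)
  rw [← mul_assoc, mul_inv_cancel₀ hc, one_mul] at e
  rw [inv_mul_eq_iff_eq_mul, ← mul_assoc, e, mul_inv_cancel_right]

theorem sRoot_injective {D : ChevalleyDatum} (hF : Facts.{u} D) :
    Function.Injective (sRoot hF) := fun i j e => by
  by_contra hne
  have h1 := hF.coef_simple i i.2 i i.2
  rw [show D.simple i = D.simple j from congrArg Fin.val e, hF.coef_simple j j.2 i i.2, if_pos rfl,
    if_neg fun e' => hne (Fin.ext e')] at h1
  exact zero_ne_one h1

namespace Twist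

variable {D : ChevalleyDatum} {F : Type u} [Field F] (T : Twist D F)

/-- Parameters fixed by the power of the field endomorphism belonging to an orbit. -/
def Par (a : Fin T.m) (t : F) : Prop := (T.φ ^ T.len a) t = t

theorem par_of_len {a : Fin T.m} (h : T.len a = T.k) (t : F) : T.Par a t := by
  rw [Par, h]; exact T.hφ t

theorem Par.pow_add {a : Fin T.m} {t : F} (ht : T.Par a t) (j : ℕ) :
    (T.φ ^ (j + T.len a)) t = (T.φ ^ j) t := by
  rw [_root_.pow_add, RingHom.mul_def, RingHom.comp_apply, ht]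

theorem par_neg {a : Fin T.m} {t : F} (ht : T.Par a t) : T.Par a (-t) := by
  rw [Par, map_neg, ht]

theorem par_inv {a : Fin T.m} {t : F} (ht : T.Par a t) : T.Par a t⁻¹ := by
  rw [Par, map_inv₀, ht]

theorem par_add {a : Fin T.m} {t u : F} (ht : T.Par a t) (hu : T.Par a u) : T.Par a (t + u) := by
  rw [Par, map_add, ht, hu]

theorem par_mul {a : Fin T.m} {t u : F} (ht : T.Par a t) (hu : T.Par a u) : T.Par a (t * u) := by
  rw [Par, map_mul, ht, hu]

theorem par_one (a : Fin T.m) : T.Par a 1 := map_one _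

theorem rt_true (a : Fin T.m) (j : ℕ) : T.rt true a j = sRoot T.hF (T.node a j) := rfl

theorem rt_false (a : Fin T.m) (j : ℕ) : T.rt false a j = negF T.hF (sRoot T.hF (T.node a j)) :=
  rfl

theorem rt_add (s : Bool) (a : Fin T.m) (j : ℕ) : T.rt s a (j + T.len a) = T.rt s a j := by
  cases s <;> simp [rt, T.node_add]

theorem rt_ne {s s' : Bool} {a : Fin T.m} {i j : ℕ} (h : T.node a i ≠ T.node a j) :
    (T.rt s' a j : ℕ) ≠ T.rt s a i ∧ (T.rt s' a j : ℕ) ≠ D.neg (T.rt s a i) := by
  have hp : ∀ x : Fin D.rank, half D ≤ (sRoot T.hF x : ℕ) := fun x => T.hF.simple_pos x x.2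
  have hn : ∀ x : Fin D.rank, (negF T.hF (sRoot T.hF x) : ℕ) < half D := fun x => by
    have := hp x
    exact (neg_lt_half_iff T.hF (sRoot T.hF x).2).2 this
  have hne : sRoot T.hF (T.node a j) ≠ sRoot T.hF (T.node a i) :=
    fun e => h (sRoot_injective T.hF e).symm
  have hne' : negF T.hF (sRoot T.hF (T.node a j)) ≠ negF T.hF (sRoot T.hF (T.node a i)) :=
    fun e => hne (by rw [← negF_negF T.hF (sRoot T.hF (T.node a j)), e, negF_negF])
  have a1 := hp (T.node a i)
  have a2 := hp (T.node a j)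
  have a3 := hn (T.node a i)
  have a4 := hn (T.node a j)
  refine ⟨fun e => ?_, fun e => ?_⟩
  · cases s <;> cases s' <;> simp only [rt, if_true, if_false, Bool.false_eq_true] at e
    · exact hne' (Fin.ext e)
    · omega
    · omega
    · exact hne (Fin.ext e)
  · have e2 : T.rt s' a j = negF T.hF (T.rt s a i) := Fin.ext e
    cases s <;> cases s' <;>
      simp only [rt, if_true, if_false, Bool.false_eq_true, negF_negF] at e2
    · rw [e2] at a4; omega
    · exact hne e2
    · exact hne' e2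
    · rw [e2] at a2; omega

theorem orth_node {a : Fin T.m} {i j : ℕ} (h : T.node a i ≠ T.node a j) :
    D.cartan (T.node a i) (D.simple (T.node a j)) = 0 ∧
    D.reflectRoot (T.node a i) (D.simple (T.node a j)) = D.simple (T.node a j) ∧
    ∀ s s' : Bool, D.commTerms (T.rt s a i) (T.rt s' a j) = [] := by
  have hi := Nat.mod_lt i (T.hO.len_pos a)
  have hj := Nat.mod_lt j (T.hO.len_pos a)
  have hne : i % T.len a ≠ j % T.len a := fun e => h (by rw [T.node_mod a i, e, ← T.node_mod a j])
  have e1 : orbNode T.π T.base a ((⟨i % T.len a, hi⟩ : Fin (T.len a)) : ℕ) = T.node a i :=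
    (T.node_mod a i).symm
  have e2 : orbNode T.π T.base a ((⟨j % T.len a, hj⟩ : Fin (T.len a)) : ℕ) = T.node a j :=
    (T.node_mod a j).symm
  obtain ⟨h1, h2, h3, h4, h5, h6⟩ := T.hO.orth a ⟨_, hi⟩ ⟨_, hj⟩ hne
  rw [e1, e2] at h1 h2 h3 h4 h5 h6
  refine ⟨h1, h2, fun s s' => ?_⟩
  cases s <;> cases s'
  · exact List.isEmpty_iff.1 h6
  · exact List.isEmpty_iff.1 h4
  · exact List.isEmpty_iff.1 h5
  · exact List.isEmpty_iff.1 h3

theorem commute_rt {s s' : Bool} {a : Fin T.m} {i j : ℕ} (h : T.node a i ≠ T.node a j) (t u : F) :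
    Commute (xG T.hF (T.rt s a i) t) (xG T.hF (T.rt s' a j) u) := by
  have := xG_comm T.hF (T.rt s a i).2 (T.rt s' a j).2 (T.rt_ne h).1 (T.rt_ne h).2 t u
  rw [show wordG T.hF (D.commWord F (T.rt s a i) (T.rt s' a j) t u) = 1 by
    rw [ChevalleyDatum.commWord, (T.orth_node h).2.2 s s']; simp [wordG], mul_one] at this
  exact this.symm

theorem commute_same (s : Bool) (a : Fin T.m) (i j : ℕ) (t u : F) :
    Commute (xG T.hF (T.rt s a i) t) (xG T.hF (T.rt s a j) u) := by
  by_cases h : T.node a i = T.node a j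
  · rw [show T.rt s a j = T.rt s a i by simp [rt, h]]
    show _ * _ = _ * _
    rw [xG_mul, xG_mul, add_comm]
  · exact T.commute_rt h t u

theorem node_ne {a : Fin T.m} {i j : ℕ} (hi : i < T.len a) (hj : j < T.len a) (h : i ≠ j) :
    T.node a i ≠ T.node a j := fun e => h (T.node_inj hi hj e).2

/-- The product of root elements along an orbit. -/
def yv (s : Bool) (a : Fin T.m) (v : ℕ → F) : GL D.Idx F :=
  ((List.range (T.len a)).map fun j => xG T.hF (T.rt s a j) (v j)).prod

/-- The fixed root element of an orbit. -/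
def y (s : Bool) (a : Fin T.m) (t : F) : GL D.Idx F := T.yv s a fun j => (T.φ ^ j) t

theorem yv_mul (s : Bool) (a : Fin T.m) (v w : ℕ → F) :
    T.yv s a v * T.yv s a w = T.yv s a fun j => v j + w j := by
  rw [yv, yv, ← prod_map_mul_of_commute List.nodup_range fun i _ j _ _ => T.commute_same s a i j _ _]
  exact congrArg List.prod (List.map_congr_left fun j _ => xG_mul T.hF _ _ _)

theorem yv_zero (s : Bool) (a : Fin T.m) : T.yv s a (fun _ => 0) = 1 :=
  List.prod_eq_one fun x hx => by
    obtain ⟨j, -, rfl⟩ := List.mem_map.1 hx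
    exact xG_zero T.hF _

theorem yv_inv (s : Bool) (a : Fin T.m) (v : ℕ → F) : (T.yv s a v)⁻¹ = T.yv s a fun j => -v j :=
  inv_eq_of_mul_eq_one_right (by rw [T.yv_mul]; simp [T.yv_zero])

theorem y_mul (s : Bool) (a : Fin T.m) (t u : F) : T.y s a t * T.y s a u = T.y s a (t + u) := by
  simp only [y, T.yv_mul, map_add]

theorem y_zero (s : Bool) (a : Fin T.m) : T.y s a 0 = 1 := by
  simp only [y, map_zero, T.yv_zero]

theorem y_inv (s : Bool) (a : Fin T.m) (t : F) : (T.y s a t)⁻¹ = T.y s a (-t) := by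
  simp only [y, T.yv_inv, map_neg]

theorem y_fx {a : Fin T.m} {t : F} (ht : T.Par a t) (s : Bool) : T.y s a t ∈ T.fx := by
  rw [T.mem_fx, y, yv, map_list_prod, List.map_map]
  refine Eq.trans ?_ (prod_range_succ_eq (f := fun j => xG T.hF (T.rt s a j) ((T.φ ^ j) t))
    (fun i j => T.commute_same s a i j _ _) ?_)
  · refine congrArg List.prod (List.map_congr_left fun j _ => ?_)
    rw [Function.comp_apply, T.σ_rt, pow_succ', RingHom.mul_def, RingHom.comp_apply]
  · show xG T.hF (T.rt s a (T.len a)) ((T.φ ^ T.len a) t) = xG T.hF (T.rt s a 0) ((T.φ ^ 0) t)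
    rw [ht, show T.rt s a (T.len a) = T.rt s a 0 by rw [← T.rt_add s a 0, Nat.zero_add]]
    rfl

/-- The element `n(t)` of an orbit. -/
def nn (a : Fin T.m) (t : F) : GL D.Idx F := T.y true a t * T.y false a (-t⁻¹) * T.y true a t

/-- The nodes of an orbit. -/
def orb (a : Fin T.m) : List (Fin D.rank) := (List.range (T.len a)).map (T.node a)

/-- The representative of the reflection of an orbit. -/
def nA (a : Fin T.m) : GL D.Idx F := nWord T.hF (T.orb a)

/-- The reflection of an orbit. -/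
def wA (a : Fin T.m) : Equiv.Perm (Fin D.nroots) := pWord T.hF (T.orb a)

theorem mem_orb {a : Fin T.m} {i : Fin D.rank} : i ∈ T.orb a ↔ ∃ j < T.len a, T.node a j = i := by
  simp [orb]

theorem orb_nodup (a : Fin T.m) : (T.orb a).Nodup :=
  List.Nodup.map_on (fun i hi j hj e => (T.node_inj (List.mem_range.1 hi) (List.mem_range.1 hj) e).2)
    List.nodup_range

theorem nn_eq (a : Fin T.m) (t : F) :
    T.nn a t =
      ((List.range (T.len a)).map fun j => nG T.hF (D.simple (T.node a j)) ((T.φ ^ j) t)).prod := by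
  have hne : ∀ i ∈ List.range (T.len a), ∀ j ∈ List.range (T.len a), i ≠ j →
      T.node a i ≠ T.node a j := fun i hi j hj =>
    T.node_ne (List.mem_range.1 hi) (List.mem_range.1 hj)
  rw [nn, y, y, yv, yv, ← prod_map_mul_of_commute List.nodup_range
    (fun i hi j hj h => T.commute_rt (hne i hi j hj h) _ _),
    ← prod_map_mul_of_commute List.nodup_range
    (fun i hi j hj h => T.commute_rt (hne i hi j hj h) _ _ |>.mul_right
      (T.commute_rt (hne i hi j hj h) _ _))]
  refine congrArg List.prod (List.map_congr_left fun j _ => ?_)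
  rw [nG, map_neg, map_inv₀]
  rfl

theorem nn_one (a : Fin T.m) : T.nn a 1 = T.nA a := by
  rw [T.nn_eq, nA, orb, nWord, List.map_map]
  refine congrArg List.prod (List.map_congr_left fun j _ => ?_)
  rw [map_one]
  rfl

theorem nn_neg (a : Fin T.m) (t : F) : T.nn a (-t) = (T.nn a t)⁻¹ := by
  simp only [nn, mul_inv_rev, T.y_inv, inv_neg, neg_neg, mul_assoc]

/-- The parameters of `h(u)` of an orbit. -/
def hv (a : Fin T.m) (u : Fˣ) : Fin D.rank → Fˣ :=
  ((List.range (T.len a)).map fun j =>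
    Pi.mulSingle (T.node a j) (Units.map (T.φ ^ j).toMonoidHom u)).prod

theorem hv_apply (a : Fin T.m) (u : Fˣ) (i : Fin D.rank) :
    T.hv a u i = ((List.range (T.len a)).map fun j =>
      if i = T.node a j then Units.map (T.φ ^ j).toMonoidHom u else 1).prod := by
  rw [hv, Pi.list_prod_apply, List.map_map]
  refine congrArg List.prod (List.map_congr_left fun j _ => ?_)
  rw [Function.comp_apply, Pi.mulSingle_apply]

theorem hv_node (a : Fin T.m) (u : Fˣ) {j : ℕ} (hj : j < T.len a) :
    T.hv a u (T.node a j) = Units.map (T.φ ^ j).toMonoidHom u := by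
  rw [T.hv_apply]
  rw [List.prod_map_eq_pow_single j]
  · rw [List.count_eq_one_of_mem List.nodup_range (List.mem_range.2 hj), pow_one, if_pos rfl]
  · intro j' hne hj'
    rw [if_neg (T.node_ne hj (List.mem_range.1 hj') hne.symm)]

theorem hv_other {a : Fin T.m} (u : Fˣ) {i : Fin D.rank} (h : ∀ j < T.len a, T.node a j ≠ i) :
    T.hv a u i = 1 := by
  rw [T.hv_apply]
  refine List.prod_eq_one fun x hx => ?_
  obtain ⟨j, hj, rfl⟩ := List.mem_map.1 hx
  rw [if_neg fun e => h j (List.mem_range.1 hj) e.symm]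

theorem hv_mem {a : Fin T.m} {u : Fˣ} (hu : T.Par a (u : F)) : T.hv a u ∈ T.cfix := by
  rw [T.mem_cfix, hv, map_list_prod, List.map_map]
  refine Eq.trans ?_ (prod_range_succ_eq
    (f := fun j : ℕ => (Pi.mulSingle (T.node a j) (Units.map (T.φ ^ j).toMonoidHom u) : Fin D.rank → Fˣ))
    (fun _ _ => Commute.all _ _) ?_)
  · refine congrArg List.prod (List.map_congr_left fun j _ => ?_)
    funext i
    simp only [Function.comp_apply, Twist.σt, MonoidHom.coe_mk, OneHom.coe_mk, Pi.mulSingle_apply]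
    by_cases h : T.π.symm i = T.node a j
    · rw [if_pos h, if_pos (by rw [T.node_succ, ← h, Equiv.apply_symm_apply])]
      exact Units.ext (by rw [pow_succ']; rfl)
    · rw [if_neg h, if_neg (fun e => h (by rw [e, T.node_succ, Equiv.symm_apply_apply])), map_one]
  · show Pi.mulSingle _ _ = Pi.mulSingle _ _
    rw [show T.node a (T.len a) = T.node a 0 by rw [← T.node_add a 0, Nat.zero_add]]
    exact congrArg _ (Units.ext (hu.trans rfl))

theorem par_base {c : Fin D.rank → Fˣ} (hc : c ∈ T.cfix) (a : Fin T.m) :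
    T.Par a (c (T.base a) : F) := by
  have h := T.cfix_node hc a (T.len a)
  rw [show T.node a (T.len a) = T.base a from T.hO.period a] at h
  exact (congrArg Units.val h).symm

theorem eq_prod_hv {c : Fin D.rank → Fˣ} (hc : c ∈ T.cfix) :
    c = ∏ a, T.hv a (c (T.base a)) := by
  funext i
  obtain ⟨a, j, hj, rfl⟩ := T.cover i
  rw [Finset.prod_apply, Finset.prod_eq_single a]
  · rw [T.hv_node a _ hj, T.cfix_node hc a j]
  · exact fun b _ hb => T.hv_other _ fun j' hj' e => hb (T.node_inj hj' hj e).1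
  · intro h; exact absurd (Finset.mem_univ _) h

theorem nn_torus (a : Fin T.m) (u : Fˣ) : T.nn a (u : F) = torusHom (T.hv a u) * T.nA a := by
  rw [T.nn_eq, hv, map_list_prod, List.map_map, nA, orb, nWord, List.map_map,
    ← prod_map_mul_of_commute List.nodup_range]
  · refine congrArg List.prod (List.map_congr_left fun j _ => ?_)
    simp only [Function.comp_apply]
    rw [← coH_simple T.hF (T.node a j).2, ← nG_eq_torus_mul T.hF (T.node a j).2]
    rfl
  · intro i hi j hj hij
    have hne := T.node_ne (List.mem_range.1 hi) (List.mem_range.1 hj) hij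
    show nS T.hF (T.node a i : ℕ) * torusHom _ = torusHom _ * nS T.hF (T.node a i : ℕ)
    rw [nS_conj_torus T.hF (T.node a i).2]
    congr 2
    rw [chiU_mulSingle (T.node a j).2, (T.orth_node hne.symm).1, zpow_zero, inv_one,
      Pi.mulSingle_one, mul_one]

theorem nA_conj_torus (a : Fin T.m) (c : Fin D.rank → Fˣ) :
    T.nA a * torusHom c = torusHom (c *
      ((T.orb a).map fun i : Fin D.rank => Pi.mulSingle i (chiU c (D.simple i))⁻¹).prod) * T.nA a := by
  rw [nA]
  have hP : ∀ i ∈ T.orb a, ∀ j ∈ T.orb a, i ≠ j → D.cartan i (D.simple j) = 0 := by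
    intro i hi j hj hne
    obtain ⟨i', -, rfl⟩ := T.mem_orb.1 hi
    obtain ⟨j', -, rfl⟩ := T.mem_orb.1 hj
    exact (T.orth_node hne).1
  have hnd := T.orb_nodup a
  generalize T.orb a = l at hP hnd
  induction l with
  | nil => simp [nWord]
  | cons i l ih =>
    rw [List.nodup_cons] at hnd
    rw [nWord_cons, mul_assoc, ih (fun x hx y hy =>
        hP x (List.mem_cons_of_mem _ hx) y (List.mem_cons_of_mem _ hy)) hnd.2,
      ← mul_assoc, nS_conj_torus T.hF i.2, List.map_cons, List.prod_cons, ← mul_assoc]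
    congr 3
    set d := (l.map fun i : Fin D.rank => Pi.mulSingle i (chiU c (D.simple i))⁻¹).prod with hd
    have hchi : chiU (c * d) (D.simple i) = chiU c (D.simple i) := by
      have hd1 : chiU d (D.simple i) = 1 := by
        refine Finset.prod_eq_one fun j _ => ?_
        by_cases hj : j ∈ l
        · rw [hP j (List.mem_cons_of_mem _ hj) i (List.mem_cons_self ..) (fun e => hnd.1 (e ▸ hj)),
            zpow_zero]
        · have : d j = 1 := by
            rw [hd, Pi.list_prod_apply, List.map_map]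
            refine List.prod_eq_one fun x hx => ?_
            obtain ⟨y, hy, rfl⟩ := List.mem_map.1 hx
            exact Pi.mulSingle_eq_of_ne (fun e => hj (by rw [e]; exact hy)) _
          rw [this, one_zpow]
      have hsplit : chiU (c * d) (D.simple i) = chiU c (D.simple i) * chiU d (D.simple i) := by
        simp [chiU, mul_zpow, Finset.prod_mul_distrib]
      rw [hsplit, hd1, mul_one]
    rw [hchi, Fin.eta, mul_assoc, mul_comm d, ← mul_assoc]

theorem chiU_rt {c : Fin D.rank → Fˣ} (hc : c ∈ T.cfix) (s : Bool) (a : Fin T.m) :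
    ∀ j, chiU c (T.rt s a j) = Units.map (T.φ ^ j).toMonoidHom (chiU c (T.rt s a 0)) := by
  intro j
  induction j with
  | zero => exact Units.ext rfl
  | succ j ih =>
    rw [← T.rho_rt]
    have h : c = fun i => Units.map T.φ.toMonoidHom (c (T.π.symm i)) := (T.mem_cfix.1 hc).symm
    conv_lhs => rw [h]
    rw [show chiU (fun i => Units.map T.φ.toMonoidHom (c (T.π.symm i))) (T.ρ (T.rt s a j)) =
      Units.map T.φ.toMonoidHom (chiU (fun i => c (T.π.symm i)) (T.ρ (T.rt s a j))) by
        simp [chiU, map_prod], T.chiU_perm, ih]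
    exact Units.ext (by rw [pow_succ']; rfl)

theorem par_chiU {c : Fin D.rank → Fˣ} (hc : c ∈ T.cfix) (s : Bool) (a : Fin T.m) :
    T.Par a (chiU c (T.rt s a 0) : F) := by
  have h := T.chiU_rt hc s a (T.len a)
  rw [show T.rt s a (T.len a) = T.rt s a 0 by rw [← T.rt_add s a 0, Nat.zero_add]] at h
  exact (congrArg Units.val h).symm

theorem torus_conj_y {c : Fin D.rank → Fˣ} (hc : c ∈ T.cfix) (s : Bool) (a : Fin T.m) (t : F) :
    torusHom c * T.y s a t * (torusHom c)⁻¹ = T.y s a ((chiU c (T.rt s a 0) : F) * t) := by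
  rw [← MulAut.conj_apply, y, y, yv, yv, map_list_prod, List.map_map]
  refine congrArg List.prod (List.map_congr_left fun j _ => ?_)
  rw [Function.comp_apply, MulAut.conj_apply, torusHom_conj T.hF c (T.rt s a j).2,
    mul_inv_cancel_right, T.chiU_rt hc s a j, map_mul]
  rfl

theorem nA_mem_normalizer (a : Fin T.m) :
    T.nA a ∈ Subgroup.normalizer (T.T1 : Set (GL D.Idx F)) := by
  have h1 : ∀ t ∈ T.T1, T.nA a * t * (T.nA a)⁻¹ ∈ T.T1 := by
    rintro t ⟨c, hc, rfl⟩
    rw [T.nA_conj_torus, mul_inv_cancel_right]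
    refine T.mem_T1.2 ⟨_, Subgroup.mul_mem _ hc ?_, rfl⟩
    have e : ((T.orb a).map fun i : Fin D.rank => Pi.mulSingle i (chiU c (D.simple i))⁻¹).prod =
        T.hv a (chiU c (T.rt true a 0))⁻¹ := by
      rw [orb, List.map_map, hv]
      refine congrArg List.prod (List.map_congr_left fun j _ => ?_)
      rw [Function.comp_apply, map_inv]
      exact congrArg (fun x => Pi.mulSingle (T.node a j) x⁻¹) (T.chiU_rt hc true a j)
    rw [e]
    refine T.hv_mem ?_
    rw [Units.val_inv_eq_inv_val]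
    exact T.par_inv (T.par_chiU hc true a)
  have hinv : (T.nA a)⁻¹ = torusHom (T.hv a (-1)) * T.nA a := by
    rw [← T.nn_torus, Units.val_neg, Units.val_one, T.nn_neg, T.nn_one]
  have hmem : torusHom (T.hv a (-1)) ∈ T.T1 :=
    T.mem_T1.2 ⟨_, T.hv_mem (by rw [Units.val_neg, Units.val_one]; exact T.par_neg (T.par_one a)), rfl⟩
  rw [Subgroup.mem_normalizer_iff]
  refine fun t => ⟨h1 t, fun h => ?_⟩
  have h2 := Subgroup.mul_mem _ (Subgroup.mul_mem _ hmem (h1 _ h)) (Subgroup.inv_mem _ hmem)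
  have e : torusHom (T.hv a (-1)) * (T.nA a * (T.nA a * t * (T.nA a)⁻¹) * (T.nA a)⁻¹) *
      (torusHom (T.hv a (-1)))⁻¹ = t := by
    calc _ = (torusHom (T.hv a (-1)) * T.nA a) * (T.nA a * t * (T.nA a)⁻¹) *
          (torusHom (T.hv a (-1)) * T.nA a)⁻¹ := by group
      _ = _ := by rw [← hinv]; group
  rwa [e] at h2

theorem nA_sq (a : Fin T.m) : T.nA a * T.nA a ∈ T.T1 := by
  have hinv : (T.nA a)⁻¹ = torusHom (T.hv a (-1)) * T.nA a := by
    rw [← T.nn_torus, Units.val_neg, Units.val_one, T.nn_neg, T.nn_one]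
  have : T.nA a * T.nA a = (torusHom (T.hv a (-1)))⁻¹ := by
    rw [eq_inv_iff_mul_eq_one]
    have h2 : torusHom (T.hv a (-1)) * (T.nA a * T.nA a) = 1 := by
      rw [← mul_assoc, ← hinv, inv_mul_cancel]
    rw [mul_eq_one_iff_eq_inv] at h2
    rw [h2, mul_inv_cancel]
  rw [this]
  exact Subgroup.inv_mem _
    (T.mem_T1.2 ⟨_, T.hv_mem (by rw [Units.val_neg, Units.val_one]; exact T.par_neg (T.par_one a)), rfl⟩)

theorem nA_fx (a : Fin T.m) : T.nA a ∈ T.fx := by
  rw [← T.nn_one]
  exact Subgroup.mul_mem _ (Subgroup.mul_mem _ (T.y_fx (T.par_one a) _)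
    (T.y_fx (T.par_neg (T.par_inv (T.par_one a))) _)) (T.y_fx (T.par_one a) _)

theorem nA_conj_y (a : Fin T.m) (t : F) :
    T.nA a * T.y true a t * (T.nA a)⁻¹ = T.y false a (-t) := by
  rw [← MulAut.conj_apply, y, y, yv, yv, map_list_prod, List.map_map]
  refine congrArg List.prod (List.map_congr_left fun j hj => ?_)
  rw [List.mem_range] at hj
  rw [Function.comp_apply, MulAut.conj_apply, map_neg, mul_inv_eq_iff_eq_mul]
  set i := T.node a j with hi
  have hmem : i ∈ T.orb a := T.mem_orb.2 ⟨j, hj, rfl⟩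
  obtain ⟨l₁, l₂, hl⟩ := List.mem_iff_append.1 hmem
  have hnd := T.orb_nodup a
  rw [hl] at hnd
  have hout : ∀ x ∈ l₁ ++ l₂, x ≠ i := by
    intro x hx e
    subst e
    rw [List.nodup_middle, List.nodup_cons] at hnd
    exact hnd.1 hx
  have hcomm : ∀ (s : Bool) (v : F), ∀ l : List (Fin D.rank), (∀ x ∈ l, x ∈ l₁ ++ l₂) →
      Commute (nWord T.hF l : GL D.Idx F) (xG T.hF (T.rt s a j) v) := by
    intro s v l hl'
    refine Commute.list_prod_left _ _ fun x hx => ?_
    obtain ⟨n, hn, rfl⟩ := List.mem_map.1 hx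
    have hn' : n ∈ T.orb a := by
      rw [hl]
      have := hl' n hn
      simp only [List.mem_append, List.mem_cons] at this ⊢
      tauto
    obtain ⟨j', -, rfl⟩ := T.mem_orb.1 hn'
    have hne : T.node a j' ≠ T.node a j := hout _ (hl' _ hn)
    have c1 : ∀ v', Commute (xG T.hF (T.rt true a j') v') (xG T.hF (T.rt s a j) v) :=
      fun v' => T.commute_rt hne v' v
    have c2 : ∀ v', Commute (xG T.hF (T.rt false a j') v') (xG T.hF (T.rt s a j) v) :=
      fun v' => T.commute_rt hne v' v
    exact ((c1 _).mul_left (c2 _)).mul_left (c1 _)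
  have e0 : (nS T.hF (i : ℕ) : GL D.Idx F) * xG T.hF (T.rt true a j) ((T.φ ^ j) t) =
      xG T.hF (T.rt false a j) (-((T.φ ^ j) t)) * nS T.hF (i : ℕ) := by
    have := nS_conj_x T.hF i.2 (T.hF.simple_lt i i.2) ((T.φ ^ j) t)
    rw [T.hF.refl_simple i i.2] at this
    rw [show (T.rt true a j : ℕ) = D.simple i from rfl,
      show (T.rt false a j : ℕ) = D.neg (D.simple i) from rfl, this]
    congr 2
    rw [(etaN_spec T.hF i.2).2.1]
    simp
  rw [nA, hl, nWord_append, nWord_cons]
  set A := (nWord T.hF l₁ : GL D.Idx F)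
  set B := (nWord T.hF l₂ : GL D.Idx F)
  rw [mul_assoc A, mul_assoc (nS T.hF (i : ℕ)),
    (hcomm true _ l₂ fun x hx => List.mem_append_right _ hx).eq, ← mul_assoc (nS T.hF (i : ℕ)), e0,
    ← mul_assoc A, ← mul_assoc A,
    (hcomm false _ l₁ fun x hx => List.mem_append_left _ hx).eq]
  simp only [A, B, mul_assoc]

end Twist

end Cfsg.Agent.Chev
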