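import Cfsg.Agent.Chev.Twist.FoldData
import Cfsg.Agent.Chev.Twist.Common
import Cfsg.Agent.Chev.TwoGen

/-!
Two generators of a twisted group.
-/

set_option autoImplicit false

namespace Cfsg.Agent.Chev

open Cfsg.Lie
open scoped MatrixGroups

universe u

/-- Characters of the torus, as homomorphisms. -/
noncomputable def chiHom {D : ChevalleyDatum} {F : Type u} [Field F] (r : ℕ) :
    (Fin D.rank → Fˣ) →* Fˣ where
  toFun c := chiU c r
  map_one' := by simp [chiU]
  map_mul' a b := by simp [chiU, mul_zpow, Finset.prod_mul_distrib]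

/-- A fixed unit is a power of the norm of a generator. -/
theorem exists_zpow_norm {K : Type u} [Field K] [Fintype K] {q k : ℕ} (hq : 2 ≤ q) (hk : 0 < k)
    (hK : Fintype.card K = q ^ k) {u : Kˣ} (hu : ∀ v, v ∈ Subgroup.zpowers u) {v : Kˣ}
    (hv : v ^ q = v) : ∃ d : ℤ, (u ^ ∑ j ∈ Finset.range k, q ^ j) ^ d = v := by
  classical
  obtain ⟨e, rfl⟩ := Subgroup.mem_zpowers_iff.1 (hu v)
  set S := ∑ j ∈ Finset.range k, q ^ j with hS
  have hord : orderOf u = q ^ k - 1 := by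
    rw [orderOf_eq_card_of_forall_mem_zpowers hu, Nat.card_eq_fintype_card, Fintype.card_units, hK]
  have h1 : u ^ (e * ((q : ℤ) - 1)) = 1 := by
    rw [mul_sub, mul_one, zpow_sub, zpow_mul, zpow_natCast, hv, mul_inv_cancel]
  rw [← orderOf_dvd_iff_zpow_eq_one, hord] at h1
  have hgeom : ((q ^ k - 1 : ℕ) : ℤ) = (S : ℤ) * ((q : ℤ) - 1) := by
    rw [hS, Nat.cast_sub (Nat.one_le_pow _ _ (by omega))]
    push_cast
    exact (geom_sum_mul (q : ℤ) k).symm
  rw [hgeom] at h1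
  obtain ⟨d, hd⟩ := h1
  refine ⟨d, ?_⟩
  rw [← zpow_natCast, ← zpow_mul]
  congr 1
  exact mul_right_cancel₀ (show (q : ℤ) - 1 ≠ 0 by omega) (by rw [hd]; ring)

namespace Twist

variable {D : ChevalleyDatum} {F : Type u} [Field F] (T : Twist D F)

theorem nWord_conj_x (w : List (Fin D.rank)) (r : Fin D.nroots) :
    ∃ e : F, (e = 1 ∨ e = -1) ∧ ∀ v : F, nWord T.hF w * xG T.hF (r : ℕ) v * (nWord T.hF w)⁻¹ =
      xG T.hF (pWord T.hF w r : ℕ) (e * v) := by
  induction w with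
  | nil => exact ⟨1, Or.inl rfl, fun v => by simp [nWord, pWord]⟩
  | cons i w ih =>
    obtain ⟨e, he, h⟩ := ih
    set η : F := ((etaN T.hF i (pWord T.hF w r) : ℤ) : F) with hη
    have hη' : η = 1 ∨ η = -1 := by
      rcases (etaN_spec T.hF i.2).1 _ (pWord T.hF w r).2 with e' | e' <;> simp [hη, e']
    refine ⟨η * e, ?_, fun v => ?_⟩
    · rcases hη' with a | a <;> rcases he with b | b <;> simp [a, b]
    · rw [nWord_cons, show ∀ g g' x : GL D.Idx F, g * g' * x * (g * g')⁻¹ = g * (g' * x * g'⁻¹) * g⁻¹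
        from fun g g' x => by group, h, nS_conj_x T.hF i.2 (pWord T.hF w r).2, mul_inv_cancel_right,
        ← hη, mul_assoc η]
      rfl

theorem pW_val (ws : List (Fin T.m)) (r : Fin D.nroots) :
    (T.pW ws r : ℕ) =
      (ws.flatMap (orbNats T.π T.base T.len)).foldr (fun i s => D.reflectRoot i s) (r : ℕ) := by
  rw [pW, pWord_val, flat, List.map_flatMap]
  congr 1
  exact List.flatMap_congr fun a _ => T.orb_vals a

/-- All fixed elements of a signed orbit lie in the subgroup. -/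
def YIn (M : Subgroup (GL D.Idx F)) (s : Bool) (a : Fin T.m) : Prop :=
  ∀ t, T.Par a t → T.y s a t ∈ M

theorem yIn_conj {M : Subgroup (GL D.Idx F)} {ws : List (Fin T.m)} (hn : T.nW ws ∈ M)
    {s' s : Bool} {a b : Fin T.m} {j₀ : ℕ} (hj : j₀ ≤ T.k) (hlen : T.len a = T.len b)
    (h : T.pW ws (T.rt s' a 0) = T.rt s b j₀) (hy : T.YIn M s' a) : T.YIn M s b := by
  obtain ⟨e, he, hconj⟩ := T.nWord_conj_x (T.flat ws) (T.rt s' a 0)
  change ∀ v : F, T.nW ws * xG T.hF (T.rt s' a 0 : ℕ) v * (T.nW ws)⁻¹ =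
    xG T.hF (T.pW ws (T.rt s' a 0) : ℕ) (e * v) at hconj
  rw [h] at hconj
  have hg : T.nW ws ∈ T.fx := T.G1_le_fx (T.N1_le_G1 (T.nW_mem_N1 ws))
  have hee : e * e = 1 := by rcases he with rfl | rfl <;> simp
  have hφe : ∀ f : F →+* F, f e = e := fun f => by rcases he with rfl | rfl <;> simp
  have hall : ∀ (t : F) (i : ℕ),
      T.nW ws * xG T.hF (T.rt s' a i : ℕ) ((T.φ ^ i) t) * (T.nW ws)⁻¹ =
        xG T.hF (T.rt s b (i + j₀) : ℕ) ((T.φ ^ i) (e * t)) := by
    intro t i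
    induction i with
    | zero => rw [Nat.zero_add]; exact hconj t
    | succ i ih =>
      have := congrArg T.σ ih
      rw [map_mul, map_mul, map_inv, T.mem_fx.1 hg, T.σ_rt, T.σ_rt] at this
      rw [show i + 1 + j₀ = i + j₀ + 1 by omega, pow_succ', RingHom.mul_def, RingHom.comp_apply,
        RingHom.comp_apply]
      exact this
  intro t ht
  set t₁ := e * (T.φ ^ j₀) t with ht1
  have hpar1 : T.Par a t₁ := by
    rw [ht1, Par, map_mul, hφe, hlen]
    congr 1
    rw [← RingHom.comp_apply, ← RingHom.mul_def, ← pow_add, Nat.add_comm,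
      Twist.Par.pow_add T ht j₀]
  have hm := M.mul_mem (M.mul_mem hn (hy t₁ hpar1)) (M.inv_mem hn)
  have key : T.nW ws * T.y s' a t₁ * (T.nW ws)⁻¹ = T.y s b t := by
    rw [← MulAut.conj_apply, y, y, yv, yv, map_list_prod, List.map_map, hlen]
    refine Eq.trans ?_ (prod_range_add_eq (f := fun j => xG T.hF (T.rt s b j : ℕ) ((T.φ ^ j) t))
      (fun i j => T.commute_same s b i j _ _)
      (fun i => by rw [T.rt_add, Twist.Par.pow_add T ht i]) j₀)
    refine congrArg List.prod (List.map_congr_left fun i _ => ?_)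
    rw [Function.comp_apply, MulAut.conj_apply, hall]
    rw [ht1, ← mul_assoc, hee, one_mul, pow_add, RingHom.mul_def, RingHom.comp_apply]
  rwa [key] at hm

theorem xIn_step {M : Subgroup (GL D.Idx F)} {ws : List (Fin T.m)} (hn : T.nW ws ∈ M)
    {r : Fin D.nroots} (h : T.XIn M r) : T.XIn M (T.pW ws r : ℕ) := by
  intro t ht
  obtain ⟨e, he, hk⟩ := T.nWord_conj_x (T.flat ws) r
  have hee : e * e = 1 := by rcases he with rfl | rfl <;> simp
  have := M.mul_mem (M.mul_mem hn (h (e * t) (by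
    rw [map_mul, ht]; rcases he with rfl | rfl <;> simp))) (M.inv_mem hn)
  rw [nW, hk, ← mul_assoc, hee, one_mul] at this
  exact this

theorem sign_step {M : Subgroup (GL D.Idx F)} {ws : List (Fin T.m)} (hn : T.nW ws ∈ M)
    {r : Fin D.nroots} (h : xG T.hF (r : ℕ) (1 : F) ∈ M) :
    xG T.hF (T.pW ws r : ℕ) (1 : F) ∈ M := by
  obtain ⟨e, he, hk⟩ := T.nWord_conj_x (T.flat ws) r
  have := M.mul_mem (M.mul_mem hn h) (M.inv_mem hn)
  rw [nW, hk, mul_one] at this
  rcases he with rfl | rfl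
  · exact this
  · have h' := M.inv_mem this
    rwa [xG_inv, neg_neg] at h'

theorem chiU_hv_eq (a : Fin T.m) (u : Fˣ) (r : ℕ) :
    chiU (T.hv a u) r = ((List.range (T.len a)).map fun j =>
      Units.map (T.φ ^ j).toMonoidHom u ^ D.cartan (T.node a j) r).prod := by
  show chiHom r (T.hv a u) = _
  rw [hv, map_list_prod, List.map_map]
  refine congrArg List.prod (List.map_congr_left fun j _ => ?_)
  exact chiU_mulSingle (T.node a j).2 _ r

theorem chiU_hv_pow {a : Fin T.m} {q : ℕ} (hqφ : ∀ (j : ℕ) (t : F), (T.φ ^ j) t = t ^ q ^ j)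
    (u : Fˣ) (r : ℕ) (A : ℕ → ℤ)
    (hA : ∀ j < T.len a, D.cartan (T.node a j) r = A j) :
    chiU (T.hv a u) r = u ^ ∑ j ∈ Finset.range (T.len a), (q : ℤ) ^ j * A j := by
  rw [T.chiU_hv_eq]
  suffices H : ∀ n ≤ T.len a, ((List.range n).map fun j =>
      Units.map (T.φ ^ j).toMonoidHom u ^ D.cartan (T.node a j) r).prod =
        u ^ ∑ j ∈ Finset.range n, (q : ℤ) ^ j * A j from H _ le_rfl
  intro n hn
  induction n with
  | zero => simp
  | succ n ih =>
    rw [List.range_succ, List.map_append, List.prod_append, ih (by omega), List.map_singleton,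
      List.prod_singleton, Finset.sum_range_succ, zpow_add, hA n (by omega), zpow_mul]
    congr 2
    refine Units.ext ?_
    rw [show ((q : ℤ) ^ n) = ((q ^ n : ℕ) : ℤ) by push_cast; rfl, zpow_natCast,
      Units.val_pow_eq_pow_val]
    exact hqφ n u

/-- The first deductions from the generators `h x_γ(1)` and `y₀(1) n`. -/
theorem two_gen_core [Fintype F] {q : ℕ} (hq : 2 ≤ q) (hqk : Fintype.card F = q ^ T.k)
    (hqφ : ∀ (j : ℕ) (t : F), (T.φ ^ j) t = t ^ q ^ j) (h4 : 2 ≤ T.k)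
    {a₀ : Fin T.m} (ha₀ : T.len a₀ = T.k) (ws : List (Fin T.m))
    {γ p g : Fin D.nroots} (hp : T.pW ws p = T.rt true a₀ 0)
    (hγA : ∀ j < T.len a₀, D.cartan (T.node a₀ j) γ = 0)
    (hγ : T.XIn T.G1 γ)
    (A : ℕ → ℤ) (hpA : ∀ j < T.len a₀, D.cartan (T.node a₀ j) p = A j)
    (hpA1 : ∑ j ∈ Finset.range (T.len a₀), (q : ℤ) ^ j * A j ≠ 0)
    (hpA2 : |∑ j ∈ Finset.range (T.len a₀), (q : ℤ) ^ j * A j| < (q : ℤ) ^ T.k - 1)
    {N : ℕ} (hg : (fun r => T.pW ws r)^[N] γ = g) {ε : ℤ} (hε : ε = 1 ∨ ε = -1)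
    (hgA : ∀ j < T.len a₀, D.cartan (T.node a₀ j) g = ε) :
    ∃ a b : GL D.Idx F, a ∈ T.G1 ∧ b ∈ T.G1 ∧
      T.nW ws ∈ Subgroup.closure {a, b} ∧ T.YIn (Subgroup.closure {a, b}) true a₀ ∧
      T.XIn (Subgroup.closure {a, b}) g := by
  classical
  obtain ⟨u, hu⟩ := IsCyclic.exists_generator (α := Fˣ)
  have hord : orderOf u = q ^ T.k - 1 := by
    rw [orderOf_eq_card_of_forall_mem_zpowers hu, Nat.card_eq_fintype_card, Fintype.card_units, hqk]
  have hq4 : 4 ≤ q ^ T.k :=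
    le_trans (le_trans (show 4 ≤ 2 ^ 2 by norm_num) (Nat.pow_le_pow_right two_pos h4))
      (Nat.pow_le_pow_left hq _)
  have hne : ∀ e : ℤ, e ≠ 0 → |e| < (q : ℤ) ^ T.k - 1 → u ^ e ≠ 1 := by
    intro e he0 he h1
    rw [← orderOf_dvd_iff_zpow_eq_one, hord] at h1
    rw [Nat.cast_sub (Nat.one_le_pow _ _ (by omega))] at h1
    push_cast at h1
    have h2 := Int.le_of_dvd (abs_pos.2 he0) ((dvd_abs _ _).2 h1)
    linarith
  have hpar : ∀ v : F, T.Par a₀ v := fun v => T.par_of_len ha₀ v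
  set c := T.hv a₀ u with hc
  have hcmem : c ∈ T.cfix := T.hv_mem (hpar _)
  set H := (torusHom c : GL D.Idx F) with hH
  set n := T.nW ws with hn
  set x₁ := xG T.hF (γ : ℕ) (1 : F) with hx₁
  set x₂ := T.y true a₀ (1 : F) with hx₂
  set a := H * x₁
  set b := x₂ * n
  set M := Subgroup.closure {a, b} with hM
  have haM : a ∈ M := Subgroup.subset_closure (Set.mem_insert _ _)
  have hbM : b ∈ M := Subgroup.subset_closure (Set.mem_insert_of_mem _ rfl)
  have hchiγ : chiU c γ = 1 := by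
    rw [hc, T.chiU_hv_pow hqφ u γ (fun _ => 0) hγA]
    simp
  have hcomm : Commute H x₁ := by
    show H * x₁ = x₁ * H
    rw [hH, hx₁, torusHom_conj T.hF c γ.2, hchiγ, Units.val_one, one_mul]
  have hx₁M : x₁ ∈ M := by
    have hc1 : c ^ (Fintype.card F - 1) = 1 := by
      funext j
      rw [Pi.pow_apply, ← Fintype.card_units, pow_card_eq_one, Pi.one_apply]
    have hpow : ∀ N : ℕ, x₁ ^ N = xG T.hF (γ : ℕ) (N : F) := by
      intro N
      induction N with
      | zero => simp [xG_zero]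
      | succ N ih => rw [pow_succ, ih, hx₁, xG_mul, Nat.cast_succ]
    have e : a ^ (Fintype.card F - 1) = x₁⁻¹ := by
      rw [hcomm.mul_pow, hH, ← map_pow, hc1, map_one, one_mul, hpow, hx₁, xG_inv,
        Nat.cast_sub Fintype.card_pos, FiniteField.cast_card_eq_zero, Nat.cast_one, zero_sub]
    have := M.inv_mem (M.pow_mem haM (Fintype.card F - 1))
    rwa [e, inv_inv] at this
  have hHM : H ∈ M := (M.mul_mem_cancel_right hx₁M).1 haM
  have hpowH : ∀ e : ℤ, (torusHom (c ^ e) : GL D.Idx F) ∈ M := fun e => by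
    rw [map_zpow]; exact M.zpow_mem hHM e
  -- the character of the conjugate torus element
  obtain ⟨c', hc'mem, hH'⟩ : ∃ c' ∈ T.cfix, (torusHom c' : GL D.Idx F) = n * H * n⁻¹ :=
    T.mem_T1.1 ((Subgroup.mem_normalizer_iff.1 (T.N1_le_normalizer (T.nW_mem_N1 ws)) H).1
      (T.mem_T1.2 ⟨c, hcmem, rfl⟩))
  have hchi' : chiU c' (T.rt true a₀ 0) = chiU c p := by
    obtain ⟨e, he, hk⟩ := T.nWord_conj_x (T.flat ws) p
    change ∀ v : F, n * xG T.hF (p : ℕ) v * n⁻¹ = xG T.hF (T.pW ws p : ℕ) (e * v) at hk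
    rw [hp] at hk
    have e1 : n * (H * xG T.hF (p : ℕ) 1 * H⁻¹) * n⁻¹ =
        xG T.hF (T.rt true a₀ 0 : ℕ) (e * (chiU c p : F)) := by
      rw [hH, torusHom_conj T.hF c p.2, mul_inv_cancel_right, mul_one, hk]
    have e2 : n * (H * xG T.hF (p : ℕ) 1 * H⁻¹) * n⁻¹ =
        xG T.hF (T.rt true a₀ 0 : ℕ) ((chiU c' (T.rt true a₀ 0) : F) * e) := by
      rw [show n * (H * xG T.hF (p : ℕ) 1 * H⁻¹) * n⁻¹ =
        (n * H * n⁻¹) * (n * xG T.hF (p : ℕ) 1 * n⁻¹) * (n * H * n⁻¹)⁻¹ by group, hk, mul_one, ← hH',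
        torusHom_conj T.hF c' (T.rt true a₀ 0).2, mul_inv_cancel_right]
    have e3 := e1.symm.trans e2
    rw [← mul_inv_eq_one, xG_inv, xG_mul, xG_eq_one_iff T.hF (T.rt true a₀ 0).2] at e3
    exact Units.ext (mul_left_cancel₀ (Twist.pm_one he) (by linear_combination -e3))
  have hχ' : (chiU c p : F) ≠ 1 := by
    rw [Ne, Units.val_eq_one, hc, T.chiU_hv_pow hqφ u p A hpA]
    exact hne _ hpA1 hpA2
  have hχ : (chiU c (T.rt true a₀ 0) : F) ≠ 1 := by
    rw [Ne, Units.val_eq_one, hc, T.chiU_hv, ← zpow_natCast]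
    exact hne _ (by norm_num) (by
      have : ((4 : ℕ) : ℤ) ≤ ((q ^ T.k : ℕ) : ℤ) := by exact_mod_cast hq4
      push_cast at this ⊢
      rw [abs_of_nonneg (by norm_num)]
      omega)
  set d : F := 1 - (chiU c p : F) with hd
  have hd0 : d ≠ 0 := sub_ne_zero.2 (Ne.symm hχ')
  have hz : T.y true a₀ d * torusHom c' ∈ M := by
    have := M.mul_mem (M.mul_mem hbM hHM) (M.inv_mem hbM)
    have e : b * H * b⁻¹ = T.y true a₀ d * torusHom c' := by
      calc b * H * b⁻¹ = x₂ * (n * H * n⁻¹) * x₂⁻¹ := by simp only [b]; group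
        _ = x₂ * (torusHom c' * T.y true a₀ (-1) * (torusHom c')⁻¹) * torusHom c' := by
          rw [← hH', hx₂, T.y_inv]; group
        _ = _ := by
          rw [T.torus_conj_y hc'mem, hx₂, T.y_mul, hchi', hd, mul_neg_one, ← sub_eq_add_neg]
    rwa [e] at this
  have hy₀ : T.YIn M true a₀ := by
    set χ := (chiU c (T.rt true a₀ 0) : F)
    have hd1 : T.y true a₀ (χ * d - d) ∈ M := by
      have := M.mul_mem (M.mul_mem (M.mul_mem hHM hz) (M.inv_mem hHM)) (M.inv_mem hz)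
      have e : H * (T.y true a₀ d * torusHom c') * H⁻¹ * (T.y true a₀ d * torusHom c')⁻¹ =
          T.y true a₀ (χ * d - d) := by
        rw [sub_eq_add_neg, ← T.y_mul, ← T.y_inv, ← T.torus_conj_y hcmem]
        rw [show H * (T.y true a₀ d * torusHom c') * H⁻¹ =
          H * T.y true a₀ d * H⁻¹ * (H * torusHom c' * H⁻¹) by group,
          show H * torusHom c' * H⁻¹ = torusHom c' by
            rw [hH, ← map_mul, mul_comm c c', map_mul, mul_inv_cancel_right], ← hH]
        group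
      rwa [e] at this
    have hsne : χ * d - d ≠ 0 := by rw [← sub_one_mul]; exact mul_ne_zero (sub_ne_zero.2 hχ) hd0
    let S : AddSubgroup F :=
      { carrier := {t | T.y true a₀ t ∈ M}
        zero_mem' := by show T.y true a₀ (0 : F) ∈ M; rw [T.y_zero]; exact M.one_mem
        add_mem' := fun {s t} hs ht => by
          show T.y true a₀ (s + t) ∈ M
          rw [← T.y_mul]; exact M.mul_mem hs ht
        neg_mem' := fun {t} ht => by
          show T.y true a₀ (-t) ∈ M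
          rw [← T.y_inv]; exact M.inv_mem ht }
    refine fun t _ => mem_of_squares (S := S) hsne (fun v hv => ?_) t
    obtain ⟨e, he⟩ := Subgroup.mem_zpowers_iff.1 (hu (Units.mk0 v hv))
    have hm := M.mul_mem (M.mul_mem (hpowH e) hd1) (M.inv_mem (hpowH e))
    rw [T.torus_conj_y (Subgroup.zpow_mem _ hcmem e)] at hm
    have echi : chiU (c ^ e) (T.rt true a₀ 0) = Units.mk0 v hv ^ 2 := by
      show chiHom (T.rt true a₀ 0 : ℕ) (c ^ e) = _
      rw [map_zpow]
      show chiU c (T.rt true a₀ 0) ^ e = _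
      rw [hc, T.chiU_hv, ← zpow_natCast, ← zpow_mul, mul_comm, zpow_mul, he, zpow_natCast]
    rw [echi, Units.val_pow_eq_pow_val, Units.val_mk0] at hm
    exact hm
  have hnM : n ∈ M := (M.mul_mem_cancel_left (hy₀ 1 (T.par_one a₀))).1 hbM
  have hgM : xG T.hF (g : ℕ) (1 : F) ∈ M := by
    have key : ∀ i : ℕ, xG T.hF (((fun r => T.pW ws r)^[i] γ : Fin D.nroots) : ℕ) (1 : F) ∈ M := by
      intro i
      induction i with
      | zero => exact hx₁M
      | succ i ih => rw [Function.iterate_succ_apply']; exact T.sign_step hnM ih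
    exact hg ▸ key N
  refine ⟨a, b, mul_mem (T.T1_le_G1 (T.mem_T1.2 ⟨c, hcmem, rfl⟩)) (hγ 1 (map_one _)),
    mul_mem (T.y_mem_G1 (T.par_one a₀) true) (T.N1_le_G1 (T.nW_mem_N1 ws)), hnM, hy₀, fun t ht => ?_⟩
  by_cases ht0 : t = 0
  · rw [ht0, xG_zero]; exact M.one_mem
  obtain ⟨e, he⟩ := exists_zpow_norm hq (by omega) hqk hu (v := Units.mk0 t ht0)
    (Units.ext (by
      rw [Units.val_pow_eq_pow_val, Units.val_mk0]
      have := hqφ 1 t
      rw [pow_one, pow_one, ht] at this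
      exact this.symm))
  have hchi : chiU c g = (u ^ ∑ j ∈ Finset.range T.k, q ^ j) ^ ε := by
    rw [hc, T.chiU_hv_pow hqφ u g (fun _ => ε) hgA, ha₀, ← zpow_natCast, ← zpow_mul,
      ← Finset.sum_mul]
    push_cast
    rfl
  have hm := M.mul_mem (M.mul_mem (hpowH (ε * e)) hgM) (M.inv_mem (hpowH (ε * e)))
  rw [torusHom_conj T.hF _ g.2, mul_inv_cancel_right, mul_one] at hm
  have echi : chiU (c ^ (ε * e)) (g : ℕ) = Units.mk0 t ht0 := by
    show chiHom (g : ℕ) (c ^ (ε * e)) = _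
    rw [map_zpow]
    show chiU c g ^ (ε * e) = _
    rw [hchi, ← zpow_mul, ← mul_assoc, show ε * ε = 1 by rcases hε with rfl | rfl <;> rfl,
      one_mul, he]
  rw [echi] at hm
  exact hm

theorem G1_le_of_pieces {M : Subgroup (GL D.Idx F)} (h : ∀ a, T.YIn M true a)
    (hn : ∀ a, T.nA a ∈ M) : T.G1 ≤ M := by
  refine (Subgroup.closure_le _).2 ?_
  rintro g ⟨s, a, t, ht, rfl⟩
  cases s with
  | true => exact h a t ht
  | false =>
    have := M.mul_mem (M.mul_mem (hn a) (h a (-t) (T.par_neg ht))) (M.inv_mem (hn a))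
    rwa [T.nA_conj_y, neg_neg] at this

theorem nA_of_yIn {M : Subgroup (GL D.Idx F)} {a : Fin T.m} (h₁ : T.YIn M true a)
    (h₂ : T.YIn M false a) : T.nA a ∈ M := by
  rw [← T.nn_one]
  exact M.mul_mem (M.mul_mem (h₁ _ (T.par_one a)) (h₂ _ (T.par_neg (T.par_inv (T.par_one a)))))
    (h₁ _ (T.par_one a))

theorem yIn_of_xIn {M : Subgroup (GL D.Idx F)} {a : Fin T.m} (hl : T.len a = 1) (s : Bool)
    (h : T.XIn M (T.rt s a 0 : ℕ)) : T.YIn M s a := by
  intro t ht
  have e : T.y s a t = xG T.hF (T.rt s a 0 : ℕ) t := by simp [y, yv, hl]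
  rw [e]
  refine h t ?_
  rwa [Par, hl, pow_one] at ht

end Twist

end Cfsg.Agent.Chev
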