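import Cfsg.Agent.Chev.Twist.TwoGen
import Cfsg.Agent.Chev.Twist.D4Stmts
import Cfsg.Agent.Chev.Twist.E6Stmts

/-!
Two generators of ³D₄ and ²E₆.
-/

set_option autoImplicit false
set_option maxRecDepth 100000

namespace Cfsg.Agent.Chev

open Cfsg.Lie
open scoped MatrixGroups

universe u

/-- The action of a word in orbits on the numbers of roots. -/
def wsNat (D : ChevalleyDatum) {m : ℕ} (π : Equiv.Perm (Fin D.rank)) (base : Fin m → Fin D.rank)
    (len : Fin m → ℕ) (ws : List (Fin m)) (r : ℕ) : ℕ :=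
  (ws.flatMap (orbNats π base len)).foldr (fun i s => D.reflectRoot i s) r

theorem d4_gen_tables :
    wsNat chevD4 d4_031_π d4Base d4Len [0, 1] 4 = rtNat chevD4 d4_031_π d4Base true 0 0 ∧
    wsNat chevD4 d4_031_π d4Base d4Len [0, 1] 23 = 14 ∧
    wsNat chevD4 d4_031_π d4Base d4Len [0, 1, 0, 1, 0, 1, 0, 1, 0, 1] 14 = 23 ∧
    rtNat chevD4 d4_031_π d4Base true 1 0 = 14 ∧
    wsNat chevD4 d4_031_π d4Base d4Len [0, 1, 0, 1, 0, 1] 14 =
      rtNat chevD4 d4_031_π d4Base false 1 0 ∧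
    wsNat chevD4 d4_031_π d4Base d4Len [0, 1, 0, 1, 0, 1]
        (rtNat chevD4 d4_031_π d4Base true 0 0) = rtNat chevD4 d4_031_π d4Base false 0 0 ∧
    (∀ j < 3, chevD4.cartan (orbNode d4_031_π d4Base 0 j) 23 = 0 ∧
      chevD4.cartan (orbNode d4_031_π d4Base 0 j) 4 = ([-1, 1, 1] : List ℤ).getD j 0 ∧
      chevD4.cartan (orbNode d4_031_π d4Base 0 j) 14 = -1) := by
  decide +kernel

theorem e6_gen_tables :
    wsNat chevE6 e6_flip_π e6Base e6Len [0, 1, 2, 3] 10 =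
      rtNat chevE6 e6_flip_π e6Base true 0 0 ∧
    wsNat chevE6 e6_flip_π e6Base e6Len [0, 1, 2, 3] 46 = 8 ∧
    wsNat chevE6 e6_flip_π e6Base e6Len ((List.replicate 10 [0, 1, 2, 3]).flatten) 8 =
      rtNat chevE6 e6_flip_π e6Base true 2 0 ∧
    wsNat chevE6 e6_flip_π e6Base e6Len ((List.replicate 4 [0, 1, 2, 3]).flatten) 8 =
      rtNat chevE6 e6_flip_π e6Base false 2 0 ∧
    wsNat chevE6 e6_flip_π e6Base e6Len ((List.replicate 11 [0, 1, 2, 3]).flatten) 8 =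
      rtNat chevE6 e6_flip_π e6Base true 3 0 ∧
    wsNat chevE6 e6_flip_π e6Base e6Len ((List.replicate 5 [0, 1, 2, 3]).flatten) 8 =
      rtNat chevE6 e6_flip_π e6Base false 3 0 ∧
    wsNat chevE6 e6_flip_π e6Base e6Len ((List.replicate 6 [0, 1, 2, 3]).flatten)
        (rtNat chevE6 e6_flip_π e6Base true 0 0) = rtNat chevE6 e6_flip_π e6Base false 0 1 ∧
    wsNat chevE6 e6_flip_π e6Base e6Len [0, 1] (rtNat chevE6 e6_flip_π e6Base true 0 0) =
      rtNat chevE6 e6_flip_π e6Base true 1 0 ∧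
    rtNat chevE6 e6_flip_π e6Base true 3 0 = 46 ∧
    (∀ j < 2, chevE6.cartan (orbNode e6_flip_π e6Base 0 j) 46 = 0 ∧
      chevE6.cartan (orbNode e6_flip_π e6Base 0 j) 10 = ([-1, 0] : List ℤ).getD j 0 ∧
      chevE6.cartan (orbNode e6_flip_π e6Base 0 j) 8 = -1) := by
  decide +kernel

theorem xIn_to {D : ChevalleyDatum} {F : Type u} [Field F] (T : Twist D F)
    {M : Subgroup (GL D.Idx F)} {ws : List (Fin T.m)} (hn : T.nW ws ∈ M) {r s : ℕ}
    (hr : r < D.nroots) (h : T.XIn M r) (e : wsNat D T.π T.base T.len ws r = s) : T.XIn M s := by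
  have := T.xIn_step hn (r := ⟨r, hr⟩) h
  rw [T.pW_val] at this
  exact e ▸ this

theorem nW_mem_replicate {D : ChevalleyDatum} {F : Type u} [Field F] (T : Twist D F)
    {M : Subgroup (GL D.Idx F)} {ws : List (Fin T.m)} (h : T.nW ws ∈ M) :
    ∀ N : ℕ, T.nW (List.replicate N ws).flatten ∈ M := by
  intro N
  induction N with
  | zero => exact M.one_mem
  | succ N ih =>
    rw [List.replicate_succ, List.flatten_cons, T.nW_append]
    exact M.mul_mem h ih

variable {K : Type u} [Field K] [Fintype K] {q : ℕ}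

theorem d4_two_gen (hq : IsPrimePow q) (hK : Fintype.card K = q ^ 3) :
    ∃ a b : ↥(twistedD4 K q), Subgroup.closure ({a, b} : Set ↥(twistedD4 K q)) = ⊤ := by
  obtain ⟨φ, hφ, hq2, hqφ, hG⟩ := exists_twistD4 hq hK
  set T := twistD4 K φ hφ with hT
  obtain ⟨tp, tg, tγ, t14, t9, tn0, tA⟩ := d4_gen_tables
  have val : ∀ (ws : List (Fin T.m)) (r : Fin chevD4.nroots),
      (T.pW ws r : ℕ) = wsNat chevD4 d4_031_π d4Base d4Len ws r := fun ws r => T.pW_val ws r
  have hsum : ∀ (f : ℕ → ℤ), ∑ j ∈ Finset.range (T.len (0 : Fin 2)), (q : ℤ) ^ j * f j =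
      f 0 + (q : ℤ) * f 1 + (q : ℤ) ^ 2 * f 2 := fun f => by
    show ∑ j ∈ Finset.range 3, _ = _
    simp [Finset.sum_range_succ]
  have h14 : T.XIn T.G1 14 := by
    have := T.xIn_single (a := (1 : Fin 2)) rfl
    rwa [show chevD4.simple (T.base (1 : Fin 2)) = 14 from t14] at this
  have hγ : T.XIn T.G1 23 := by
    exact xIn_to T (ws := ([0, 1, 0, 1, 0, 1, 0, 1, 0, 1] : List (Fin 2)))
      (T.N1_le_G1 (T.nW_mem_N1 _)) (by decide +kernel) h14 tγ
  obtain ⟨a, b, ha, hb, hn, hy0, hx⟩ := T.two_gen_core (q := q) hq2 hK hqφ (show 2 ≤ 3 by norm_num)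
    (a₀ := (0 : Fin 2)) rfl ([0, 1] : List (Fin 2))
    (γ := ⟨23, by decide +kernel⟩) (p := ⟨4, by decide +kernel⟩) (g := ⟨14, by decide +kernel⟩)
    (Fin.ext (((val _ _).trans tp).trans (T.rt_val _ _ _).symm)) (fun j hj => (tA j hj).1) hγ
    (fun j => ([-1, 1, 1] : List ℤ).getD j 0) (fun j hj => (tA j hj).2.1)
    (by
      rw [hsum]
      show (-1 : ℤ) + (q : ℤ) * 1 + (q : ℤ) ^ 2 * 1 ≠ 0
      nlinarith [show (2 : ℤ) ≤ q by exact_mod_cast hq2])
    (by
      rw [hsum]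
      show |(-1 : ℤ) + (q : ℤ) * 1 + (q : ℤ) ^ 2 * 1| < (q : ℤ) ^ 3 - 1
      have : (2 : ℤ) ≤ q := by exact_mod_cast hq2
      rw [abs_lt]
      constructor <;> nlinarith [mul_le_mul_of_nonneg_left this (sq_nonneg (q : ℤ))])
    (N := 1) (Fin.ext ((val _ _).trans tg)) (ε := -1) (Or.inr rfl)
    (fun j hj => (tA j hj).2.2)
  set M := Subgroup.closure {a, b} with hM
  have hn3 : T.nW ([0, 1, 0, 1, 0, 1] : List (Fin 2)) ∈ M := nW_mem_replicate T hn 3
  have hy1 : T.YIn M true (1 : Fin 2) := T.yIn_of_xIn rfl true (by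
    rw [show (T.rt true (1 : Fin 2) 0 : ℕ) = 14 from (T.rt_val true (1 : Fin 2) 0).trans t14]
    exact hx)
  have hy1' : T.YIn M false (1 : Fin 2) := T.yIn_of_xIn rfl false (by
    exact xIn_to T hn3 (by decide +kernel) hx (t9.trans (T.rt_val false (1 : Fin 2) 0).symm))
  have hy0' : T.YIn M false (0 : Fin 2) := T.yIn_conj hn3 (Nat.zero_le _) rfl
    (Fin.ext (((val _ _).trans ((congrArg _ (T.rt_val _ _ _)).trans tn0)).trans (T.rt_val _ _ _).symm)) hy0
  have hle : T.G1 ≤ M := by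
    refine T.G1_le_of_pieces (fun i => ?_) (fun i => ?_) <;> change Fin 2 at i <;> fin_cases i
    exacts [hy0, hy1, T.nA_of_yIn hy0 hy0', T.nA_of_yIn hy1 hy1']
  rw [← hG]
  refine ⟨⟨a, ha⟩, ⟨b, hb⟩, Subgroup.map_injective T.G1.subtype_injective ?_⟩
  rw [MonoidHom.map_closure, Set.image_pair, ← MonoidHom.range_eq_map, Subgroup.range_subtype]
  exact le_antisymm ((Subgroup.closure_le _).2 (by rintro x (rfl | rfl); exacts [ha, hb])) hle

theorem e6_two_gen (hq : IsPrimePow q) (hK : Fintype.card K = q ^ 2) :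
    ∃ a b : ↥(twistedE6 K q), Subgroup.closure ({a, b} : Set ↥(twistedE6 K q)) = ⊤ := by
  obtain ⟨φ, hφ, hq2, hqφ, hG⟩ := exists_twistE6 hq hK
  set T := twistE6 K φ hφ with hT
  obtain ⟨tp, tg, t2, t2', t3, t3', tn0, t01, t46, tA⟩ := e6_gen_tables
  have val : ∀ (ws : List (Fin T.m)) (r : Fin chevE6.nroots),
      (T.pW ws r : ℕ) = wsNat chevE6 e6_flip_π e6Base e6Len ws r := fun ws r => T.pW_val ws r
  have hsum : ∀ (f : ℕ → ℤ), ∑ j ∈ Finset.range (T.len (0 : Fin 4)), (q : ℤ) ^ j * f j =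
      f 0 + (q : ℤ) * f 1 := fun f => by
    show ∑ j ∈ Finset.range 2, _ = _
    simp [Finset.sum_range_succ]
  have hγ : T.XIn T.G1 46 := by
    have := T.xIn_single (a := (3 : Fin 4)) rfl
    rwa [show chevE6.simple (T.base (3 : Fin 4)) = 46 from t46] at this
  obtain ⟨a, b, ha, hb, hn, hy0, hx⟩ := T.two_gen_core (q := q) hq2 hK hqφ (show 2 ≤ 2 by norm_num)
    (a₀ := (0 : Fin 4)) rfl ([0, 1, 2, 3] : List (Fin 4))
    (γ := ⟨46, by decide +kernel⟩) (p := ⟨10, by decide +kernel⟩) (g := ⟨8, by decide +kernel⟩)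
    (Fin.ext (((val _ _).trans tp).trans (T.rt_val _ _ _).symm)) (fun j hj => (tA j hj).1) hγ
    (fun j => ([-1, 0] : List ℤ).getD j 0) (fun j hj => (tA j hj).2.1)
    (by rw [hsum]; simp)
    (by
      rw [hsum]
      show |(-1 : ℤ) + (q : ℤ) * 0| < (q : ℤ) ^ 2 - 1
      have : (2 : ℤ) ≤ q := by exact_mod_cast hq2
      rw [mul_zero, add_zero, abs_neg, abs_one]
      nlinarith)
    (N := 1) (Fin.ext ((val _ _).trans tg)) (ε := -1) (Or.inr rfl)
    (fun j hj => (tA j hj).2.2)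
  set M := Subgroup.closure {a, b} with hM
  have hlong : ∀ (N : ℕ) (s : Bool) (i : Fin 4), e6Len i = 1 →
      wsNat chevE6 e6_flip_π e6Base e6Len ((List.replicate N [0, 1, 2, 3]).flatten) 8 =
        rtNat chevE6 e6_flip_π e6Base s i 0 → T.YIn M s i := by
    intro N s i hl e
    refine T.yIn_of_xIn (a := i) hl s ?_
    exact xIn_to T (nW_mem_replicate T hn N) (by decide +kernel) hx (e.trans (T.rt_val s i 0).symm)
  have hy2 := hlong 10 true 2 rfl t2
  have hy2' := hlong 4 false 2 rfl t2'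
  have hy3 := hlong 11 true 3 rfl t3
  have hy3' := hlong 5 false 3 rfl t3'
  have hy0' : T.YIn M false (0 : Fin 4) := T.yIn_conj (nW_mem_replicate T hn 6)
    (show 1 ≤ 2 by norm_num) rfl (Fin.ext (((val _ _).trans ((congrArg _ (T.rt_val _ _ _)).trans tn0)).trans (T.rt_val _ _ _).symm)) hy0
  have hn0 := T.nA_of_yIn hy0 hy0'
  have hn2 := T.nA_of_yIn hy2 hy2'
  have hn3 := T.nA_of_yIn hy3 hy3'
  have hn1 : T.nA (1 : Fin 4) ∈ M := by
    have e : T.nW ([0, 1, 2, 3] : List (Fin 4)) =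
        T.nA (0 : Fin 4) * (T.nA (1 : Fin 4) * (T.nA (2 : Fin 4) * T.nA (3 : Fin 4))) :=
      (T.nW_cons (0 : Fin 4) ([1, 2, 3] : List (Fin 4))).trans (congrArg _
        ((T.nW_cons (1 : Fin 4) ([2, 3] : List (Fin 4))).trans (congrArg _
          ((T.nW_cons (2 : Fin 4) ([3] : List (Fin 4))).trans (congrArg _
            ((T.nW_cons (3 : Fin 4) []).trans (mul_one _)))))))
    have hn' := hn
    rw [e] at hn'
    exact (M.mul_mem_cancel_right (M.mul_mem hn2 hn3)).1 ((M.mul_mem_cancel_left hn0).1 hn')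
  have hn01 : T.nW ([0, 1] : List (Fin 4)) ∈ M := by
    have e : T.nW ([0, 1] : List (Fin 4)) = T.nA (0 : Fin 4) * T.nA (1 : Fin 4) :=
      (T.nW_cons (0 : Fin 4) ([1] : List (Fin 4))).trans (congrArg _
        ((T.nW_cons (1 : Fin 4) []).trans (mul_one _)))
    exact e ▸ M.mul_mem hn0 hn1
  have hy1 : T.YIn M true (1 : Fin 4) := T.yIn_conj (s' := true) (s := true)
    (a := (0 : Fin 4)) (b := (1 : Fin 4)) (j₀ := 0) hn01 (Nat.zero_le _) rfl
    (Fin.ext (((val _ _).trans ((congrArg _ (T.rt_val _ _ _)).trans t01)).trans (T.rt_val _ _ _).symm)) hy0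
  have hle : T.G1 ≤ M := by
    refine T.G1_le_of_pieces (fun i => ?_) (fun i => ?_) <;> change Fin 4 at i <;> fin_cases i
    exacts [hy0, hy1, hy2, hy3, hn0, hn1, hn2, hn3]
  rw [← hG]
  refine ⟨⟨a, ha⟩, ⟨b, hb⟩, Subgroup.map_injective T.G1.subtype_injective ?_⟩
  rw [MonoidHom.map_closure, Set.image_pair, ← MonoidHom.range_eq_map, Subgroup.range_subtype]
  exact le_antisymm ((Subgroup.closure_le _).2 (by rintro x (rfl | rfl); exacts [ha, hb])) hle

end Cfsg.Agent.Chev
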